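import Groth.Agent.PseudoCoh.Truncation
import Groth.Agent.KProjRes.Derived
import Mathlib.Algebra.Homology.HomotopyCategory.MappingCone

/-!
# Tor amplitude and perfect amplitude
-/

set_option autoImplicit false

universe u

open CategoryTheory CategoryTheory.Limits CategoryTheory.Pretriangulated DerivedCategory DerivedCategory.TStructure
open CochainComplex.HomComplex

attribute [local instance] HasDerivedCategory.standard

noncomputable section

namespace Groth.Agent.PseudoCoh

variable {A : Type u} [CommRing A]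

local notation "Hm" => DerivedCategory.homologyFunctor (ModuleCat A)

lemma exactAt_of_isLE_toD {E : DRing.Cx A} {n : ℤ} (h : t.IsLE (DRing.toD E) n) {i : ℤ} (hi : n < i) : E.ExactAt i := by
  rw [HomologicalComplex.exactAt_iff_isZero_homology]
  exact ((DerivedCategory.isLE_iff _ _).1 h i hi).of_iso
    ((DerivedCategory.homologyFunctorFactors (ModuleCat.{u} A) i).app E).symm

lemma exactAt_of_isGE_toD {E : DRing.Cx A} {n : ℤ} (h : t.IsGE (DRing.toD E) n) {i : ℤ} (hi : i < n) : E.ExactAt i := by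
  rw [HomologicalComplex.exactAt_iff_isZero_homology]
  exact ((DerivedCategory.isGE_iff _ _).1 h i hi).of_iso
    ((DerivedCategory.homologyFunctorFactors (ModuleCat.{u} A) i).app E).symm

lemma isGE_toD_of_vanishes {E : DRing.Cx A} {n : ℤ} (h : ∀ i, i < n → IsZero (E.X i)) : t.IsGE (DRing.toD E) n :=
  haveI : E.IsStrictlyGE n := (E.isStrictlyGE_iff n).2 h
  (inferInstance : (DerivedCategory.Q.obj E).IsGE n)

lemma isLE_toD_of_vanishes {E : DRing.Cx A} {n : ℤ} (h : ∀ i, n < i → IsZero (E.X i)) : t.IsLE (DRing.toD E) n :=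
  haveI : E.IsStrictlyLE n := (E.isStrictlyLE_iff n).2 h
  (inferInstance : (DerivedCategory.Q.obj E).IsLE n)

theorem isKProjective_of_le {P : DRing.Cx A} {b : ℤ} (hb : ∀ i, b < i → IsZero (P.X i))
    (hp : ∀ i, Projective (P.X i)) : CochainComplex.IsKProjective P :=
  haveI : P.IsStrictlyLE b := (P.isStrictlyLE_iff b).2 hb
  haveI := hp
  P.isKProjective_of_projective b

/-- morphisms out of a K-projective complex are realized by chain maps -/
theorem exists_Q_map {P F : DRing.Cx A} [CochainComplex.IsKProjective P] (α : DRing.toD P ⟶ DRing.toD F) :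
    ∃ f : P ⟶ F, DerivedCategory.Q.map f = α := by
  obtain ⟨g, hg⟩ := (CochainComplex.IsKProjective.Qh_map_bijective P ((HomotopyCategory.quotient _ _).obj F)).surjective
    ((quotientCompQhIso (ModuleCat.{u} A)).hom.app P ≫ α ≫ (quotientCompQhIso (ModuleCat.{u} A)).inv.app F)
  obtain ⟨g, rfl⟩ := (HomotopyCategory.quotient _ _).map_surjective g
  refine ⟨g, ?_⟩
  have e := (quotientCompQhIso (ModuleCat.{u} A)).hom.naturality g
  change DerivedCategory.Qh.map ((HomotopyCategory.quotient (ModuleCat.{u} A) (ComplexShape.up ℤ)).map g) ≫ _ = _ at e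
  rw [hg, Category.assoc, Category.assoc, Iso.inv_hom_id_app] at e
  exact ((cancel_epi _).1 e).symm.trans (Category.comp_id _)

/-- equal morphisms in the derived category are homotopic -/
theorem homotopy_of_Q_map_eq {P F : DRing.Cx A} [CochainComplex.IsKProjective P] (f g : P ⟶ F)
    (h : DerivedCategory.Q.map f = DerivedCategory.Q.map g) : Nonempty (Homotopy f g) := by
  refine ⟨HomotopyCategory.homotopyOfEq _ _ ((CochainComplex.IsKProjective.Qh_map_bijective P _).injective ?_)⟩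
  have ef := (quotientCompQhIso (ModuleCat.{u} A)).hom.naturality f
  have eg := (quotientCompQhIso (ModuleCat.{u} A)).hom.naturality g
  rw [h] at ef
  exact (cancel_mono ((quotientCompQhIso (ModuleCat.{u} A)).hom.app F)).1 (ef.trans eg.symm)

/-- a cocycle with values in a module factors through the differential if there are no morphisms to the module -/
theorem exists_factor {P : DRing.Cx A} [CochainComplex.IsKProjective P] {j k : ℤ} (hjk : j + 1 = k) {M : ModuleCat.{u} A}
    (c : P.X j ⟶ M) (hc : ∀ i, i + 1 = j → P.d i j ≫ c = 0)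
    (hz : ∀ f : DRing.toD P ⟶ DRing.toD ((HomologicalComplex.single (ModuleCat.{u} A) (ComplexShape.up ℤ) j).obj M), f = 0) :
    ∃ s : P.X k ⟶ M, P.d j k ≫ s = c := by
  let f := HomologicalComplex.mkHomToSingle c hc
  obtain ⟨h⟩ := homotopy_of_Q_map_eq f 0 ((hz _).trans (hz _).symm)
  refine ⟨h.hom k j ≫ (HomologicalComplex.singleObjXSelf (ComplexShape.up ℤ) j M).hom, ?_⟩
  have e := h.comm j
  rw [dNext_eq h.hom (show (ComplexShape.up ℤ).Rel j k from hjk),
    prevD_eq h.hom (show (ComplexShape.up ℤ).Rel (j - 1) j by simp), HomologicalComplex.single_obj_d, comp_zero,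
    add_zero, HomologicalComplex.zero_f, add_zero] at e
  rw [← Category.assoc, ← e]
  refine (congrArg (· ≫ _) (HomologicalComplex.mkHomToSingle_f c hc)).trans ?_
  exact (Category.assoc _ _ _).trans ((congrArg (c ≫ ·) (Iso.inv_hom_id _)).trans (Category.comp_id c))

lemma projective_ker {M N : Type u} [AddCommGroup M] [Module A M] [AddCommGroup N] [Module A N] (f : M →ₗ[A] N)
    [Module.Projective A M] [Module.Projective A (LinearMap.range f)] : Module.Projective A (LinearMap.ker f) := by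
  obtain ⟨s, hs⟩ := f.rangeRestrict.exists_rightInverse_of_surjective
    (LinearMap.range_eq_top.2 f.surjective_rangeRestrict)
  let p : M →ₗ[A] LinearMap.ker f := (LinearMap.id - s ∘ₗ f.rangeRestrict).codRestrict _ fun x => by
    have := congrArg Subtype.val (LinearMap.congr_fun hs (f.rangeRestrict x))
    rw [LinearMap.mem_ker, LinearMap.sub_apply, map_sub, sub_eq_zero]
    exact this.symm
  refine Module.Projective.of_split (LinearMap.ker f).subtype p (LinearMap.ext fun z => Subtype.ext ?_)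
  change z.1 - s (f.rangeRestrict z.1) = z.1
  rw [show f.rangeRestrict z.1 = 0 from Subtype.ext z.2, map_zero, sub_zero]

/-- a bounded above object has a bounded above projective resolution -/
theorem exists_projective_le (K : Dual.D A) (b : ℤ) (hK : t.IsLE K b) :
    ∃ P : DRing.Cx A, (∀ i, b < i → IsZero (P.X i)) ∧ (∀ i, Projective (P.X i)) ∧
      CochainComplex.IsKProjective P ∧ Nonempty (DRing.toD P ≅ K) := by
  obtain ⟨R, hR, hproj, ⟨e⟩⟩ := Groth.Agent.KProjRes.exists_kProjective_iso K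
  haveI := hR
  have hle : t.IsLE (DRing.toD R) b := t.isLE_of_iso e.symm b
  have hproj' : ∀ i, Module.Projective A (R.X i) := fun i => by
    haveI := hproj i
    exact (IsProjective.iff_projective (R.X i)).2 inferInstance
  -- the cycles in degree `b` are projective
  haveI := hproj' b; haveI := hproj' (b + 1); haveI := hproj' (b + 1 + 1)
  have h2 : Module.Projective A (LinearMap.range (R.d (b + 1) (b + 1 + 1)).hom) := by
    let c : R.X (b + 1) ⟶ ModuleCat.of A (LinearMap.range (R.d (b + 1) (b + 1 + 1)).hom) :=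
      ModuleCat.ofHom (R.d (b + 1) (b + 1 + 1)).hom.rangeRestrict
    obtain ⟨s, hs⟩ := exists_factor rfl c (fun i _ => ModuleCat.hom_ext (LinearMap.ext fun x => Subtype.ext
      (ConcreteCategory.congr_hom (R.d_comp_d i (b + 1) (b + 1 + 1)) x))) (fun f =>
        t.zero_of_isLE_of_isGE f b (b + 1) (by omega) hle
          (isGE_toD_of_vanishes fun i hi => HomologicalComplex.isZero_single_obj_X _ _ _ _ (by omega)))
    refine Module.Projective.of_split (LinearMap.range (R.d (b + 1) (b + 1 + 1)).hom).subtype s.hom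
      (LinearMap.ext fun ⟨y, x, hx⟩ => ?_)
    subst hx
    exact ConcreteCategory.congr_hom hs x
  haveI := h2
  haveI : Module.Projective A (LinearMap.ker (R.d (b + 1) (b + 1 + 1)).hom) := projective_ker _
  haveI : Module.Projective A (LinearMap.range (R.d b (b + 1)).hom) :=
    Module.Projective.of_equiv (LinearEquiv.ofEq _ _ (range_eq_ker R rfl rfl (exactAt_of_isLE_toD hle (by omega)))).symm
  have h0 : Module.Projective A (LinearMap.ker (R.d b (b + 1)).hom) := projective_ker _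
  haveI : R.IsLE b := (R.isLE_iff b).2 fun i hi => exactAt_of_isLE_toD hle hi
  haveI := (R.quasiIso_ιTruncLE_iff b).2 inferInstance
  have hb : ∀ i, b < i → IsZero ((R.truncLE b).X i) := fun i hi => (R.truncLE b).isZero_of_isStrictlyLE b i hi
  have hp : ∀ i, Projective ((R.truncLE b).X i) := fun i => by
    rcases lt_trichotomy i b with h | rfl | h
    · haveI := hproj i
      exact Projective.of_iso (R.truncLEXIso b i h).symm inferInstance
    · haveI := h0
      exact Projective.of_iso (R.truncLEXIsoCycles i ≪≫ cyclesEquiv R i).symm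
        ((IsProjective.iff_projective (ModuleCat.of A (LinearMap.ker (R.d i (i + 1)).hom))).1 inferInstance)
    · exact (hb i h).projective
  exact ⟨R.truncLE b, hb, hp, isKProjective_of_le hb hp, ⟨asIso (DerivedCategory.Q.map (R.ιTruncLE b)) ≪≫ e⟩⟩

/-- a flat cokernel from a map to a flat complex -/
theorem flat_coker_of_map {E F : DRing.Cx A} (f : E ⟶ F) {m b c i₀ : ℤ} (hi₀ : i₀ + 1 = m)
    (hbE : ∀ i, b < i → IsZero (E.X i)) (hE : ∀ i, Module.Flat A (E.X i))
    (hbF : ∀ i, (i < m ∨ c < i) → IsZero (F.X i)) (hF : ∀ i, Module.Flat A (F.X i))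
    (hcone : ∀ i, i₀ ≤ i → (CochainComplex.mappingCone f).ExactAt i) :
    Module.Flat A (E.X m ⧸ LinearMap.range (E.d i₀ m).hom) := by
  let M := CochainComplex.mappingCone f
  let e : ∀ i, M.X i ≅ ModuleCat.of A (E.X (i + 1) × F.X i) := fun i =>
    HomologicalComplex.homotopyCofiber.XIsoBiprod f i (i + 1) rfl ≪≫ ModuleCat.biprodIsoProd _ _
  have hM : ∀ i, Module.Flat A (M.X i) := fun i => by
    haveI := hE (i + 1); haveI := hF i
    haveI : Module.Flat A (ModuleCat.of A (E.X (i + 1) × F.X i)) :=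
      (flat_prod' : Module.Flat A (E.X (i + 1) × F.X i))
    exact Module.Flat.of_linearEquiv (e i).toLinearEquiv
  have hbM : ∀ i, max b c < i → IsZero (M.X i) := fun i hi =>
    (CochainComplex.mappingCone.isZero_X_iff f i).2 ⟨hbE _ (by omega), hbF i (Or.inr (by omega))⟩
  obtain ⟨p, hp⟩ : ∃ p, p + 1 = i₀ := ⟨i₀ - 1, sub_add_cancel _ 1⟩
  haveI hQ := flat_coker (E := M) p hp hbM hM hcone
  let fst := fun (q r : ℤ) (h : q + 1 = r) => ((CochainComplex.mappingCone.fst f).1.v q r h).hom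
  have hbij : ∀ (q r : ℤ) (h : q + 1 = r), q < m → Function.Bijective (fst q r h) := by
    intro q r h hq
    haveI := ModuleCat.subsingleton_of_isZero (hbF q (Or.inl hq))
    refine ⟨(injective_iff_map_eq_zero _).2 fun x hx => ?_, fun y =>
      ⟨((CochainComplex.mappingCone.inl f).v r q (by omega)).hom y,
        ConcreteCategory.congr_hom (CochainComplex.mappingCone.inl_v_fst_v f r q h) y⟩⟩
    refine (ConcreteCategory.congr_hom (CochainComplex.mappingCone.id_X f q r h) x).symm.trans ?_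
    change ((CochainComplex.mappingCone.inl f).v r q (by omega)).hom (fst q r h x) +
      ((CochainComplex.mappingCone.inr f).f q).hom (((CochainComplex.mappingCone.snd f).v q q (add_zero q)).hom x) = 0
    rw [hx, map_zero, zero_add, Subsingleton.elim (((CochainComplex.mappingCone.snd f).v q q (add_zero q)).hom x) 0,
      map_zero]
  let e₁ := LinearEquiv.ofBijective (fst i₀ m hi₀) (hbij i₀ m hi₀ (by omega))
  refine Module.Flat.of_linearEquiv (Submodule.Quotient.equiv (LinearMap.range ((CochainComplex.mappingCone f).d p i₀).hom) _ e₁ ?_).symm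
  ext y
  constructor
  · rintro ⟨_, ⟨x, rfl⟩, rfl⟩
    refine ⟨-fst p i₀ hp x, Eq.trans ?_ (ConcreteCategory.congr_hom (CochainComplex.mappingCone.d_fst_v f p i₀ m hp hi₀) x).symm⟩
    simp [fst]
  · rintro ⟨z, rfl⟩
    obtain ⟨x, hx⟩ := (hbij p i₀ hp (by omega)).surjective (-z)
    refine ⟨_, ⟨x, rfl⟩, ?_⟩
    refine (ConcreteCategory.congr_hom (CochainComplex.mappingCone.d_fst_v f p i₀ m hp hi₀) x).trans ?_
    rw [show z = -(-z) from (neg_neg z).symm, ← hx]
    simp [fst]

/-- criterion for tor amplitude -/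
theorem torAmplitude_of_complex {E : DRing.Cx A} {m n b i₀ : ℤ} (hi₀ : i₀ + 1 = m) (hb : ∀ i, b < i → IsZero (E.X i))
    (hflat : DRing.TermwiseFlat E) (hge : t.IsGE (DRing.toD E) m) (hle : t.IsLE (DRing.toD E) n)
    (hQ : Module.Flat A (E.X m ⧸ LinearMap.range (E.d i₀ m).hom)) :
    DRing.HasTorAmplitudeIn A m n (DRing.toD E) := by
  obtain ⟨F, hF, hFflat, ⟨e⟩⟩ := exists_trunc_flat E m n b hb hflat (fun i hi => exactAt_of_isLE_toD hle hi) i₀ hi₀ hQ
  haveI : E.IsGE m := (E.isGE_iff m).2 fun i hi => exactAt_of_isGE_toD hge hi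
  haveI := (E.quasiIso_πTruncGE_iff m).2 inferInstance
  exact ⟨F, hF, hFflat, ⟨e ≪≫ (asIso (DerivedCategory.Q.map (E.πTruncGE m))).symm⟩⟩

theorem isGE_of_torAmplitude {m n : ℤ} {K : Dual.D A} (h : DRing.HasTorAmplitudeIn A m n K) : t.IsGE K m := by
  obtain ⟨F, hF, -, ⟨e⟩⟩ := h
  haveI := isGE_toD_of_vanishes (n := m) fun i hi => hF i (Or.inl hi)
  exact t.isGE_of_iso e m

theorem isLE_of_torAmplitude {m n : ℤ} {K : Dual.D A} (h : DRing.HasTorAmplitudeIn A m n K) : t.IsLE K n := by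
  obtain ⟨F, hF, -, ⟨e⟩⟩ := h
  haveI := isLE_toD_of_vanishes (n := n) fun i hi => hF i (Or.inr hi)
  exact t.isLE_of_iso e n

theorem flat_coker_of_torAmplitude {P : DRing.Cx A} {K : Dual.D A} {m n b i₀ : ℤ} (hi₀ : i₀ + 1 = m)
    (hb : ∀ i, b < i → IsZero (P.X i)) (hp : ∀ i, Projective (P.X i)) (e : DRing.toD P ≅ K)
    (h : DRing.HasTorAmplitudeIn A m n K) : Module.Flat A (P.X m ⧸ LinearMap.range (P.d i₀ m).hom) := by
  obtain ⟨F, hF, hFflat, ⟨eF⟩⟩ := h
  haveI := isKProjective_of_le hb hp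
  obtain ⟨f, hf⟩ := exists_Q_map (e ≪≫ eF.symm).hom
  have hz : IsZero (DRing.toD (CochainComplex.mappingCone f)) :=
    Triangle.isZero₃_of_isIso₁ _ (DerivedCategory.mappingCone_triangle_distinguished f)
      (show IsIso (DerivedCategory.Q.map f) by rw [hf]; infer_instance)
  refine flat_coker_of_map f hi₀ hb (fun i => ?_) hF hFflat fun i hi =>
    exactAt_of_isLE_toD (n := i₀ - 1) (t.isLE_of_isZero hz _) (by omega)
  haveI := hp i
  haveI : Module.Projective A (P.X i) := (IsProjective.iff_projective (P.X i)).2 inferInstance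
  exact Module.Flat.of_projective

theorem torAmplitude_mono {m n m' n' : ℤ} {K : Dual.D A} (hm : m' ≤ m) (hn : n ≤ n')
    (h : DRing.HasTorAmplitudeIn A m n K) : DRing.HasTorAmplitudeIn A m' n' K := by
  obtain ⟨F, hF, hFflat, hiso⟩ := h
  exact ⟨F, fun i hi => hF i (by omega), hFflat, hiso⟩

theorem torAmplitude_of_iso {m n : ℤ} {K L : Dual.D A} (e : K ≅ L)
    (h : DRing.HasTorAmplitudeIn A m n K) : DRing.HasTorAmplitudeIn A m n L := by
  obtain ⟨F, hF, hFflat, ⟨eF⟩⟩ := h
  exact ⟨F, hF, hFflat, ⟨eF ≪≫ e⟩⟩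

theorem torAmplitude_shift {m n : ℤ} {K : Dual.D A} (c m' n' : ℤ) (hm : c + m' = m) (hn : c + n' = n)
    (h : DRing.HasTorAmplitudeIn A m n K) : DRing.HasTorAmplitudeIn A m' n' (K⟦c⟧) := by
  obtain ⟨F, hF, hFflat, ⟨eF⟩⟩ := h
  exact ⟨F⟦c⟧, fun i hi => (hF (i + c) (by omega)).of_iso (Iso.refl _), fun i => hFflat (i + c),
    ⟨(DerivedCategory.Q.commShiftIso c).app F ≪≫ (shiftFunctor (Dual.D A) c).mapIso eF⟩⟩

/-- tor amplitude of a cone -/
theorem torAmplitude_obj₃ (T : Triangle (Dual.D A)) (hT : T ∈ distTriang _) {a b : ℤ}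
    (h₁ : DRing.HasTorAmplitudeIn A (a + 1) (b + 1) T.obj₁) (h₂ : DRing.HasTorAmplitudeIn A a b T.obj₂) :
    DRing.HasTorAmplitudeIn A a b T.obj₃ := by
  have g1 := isGE_of_torAmplitude h₁
  have l1 := isLE_of_torAmplitude h₁
  have g2 := isGE_of_torAmplitude h₂
  have l2 := isLE_of_torAmplitude h₂
  have g3 : t.IsGE T.obj₃ a := t.isGE₂ _ (rot_of_distTriang _ hT) a g2 (t.isGE_shift T.obj₁ (a + 1) 1 a (by omega))
  have l3 : t.IsLE T.obj₃ b := t.isLE₂ _ (rot_of_distTriang _ hT) b l2 (t.isLE_shift T.obj₁ (b + 1) 1 b (by omega))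
  obtain ⟨P, hPb, hPp, hPK, ⟨eP⟩⟩ := exists_projective_le T.obj₁ (b + 1) l1
  obtain ⟨p, hp⟩ : ∃ p, p + 1 = a := ⟨a - 1, sub_add_cancel _ 1⟩
  haveI hQP := flat_coker_of_torAmplitude (i₀ := a) rfl hPb hPp eP h₁
  obtain ⟨F, hF, hFflat, ⟨eF⟩⟩ := h₂
  haveI := hPK
  obtain ⟨f, hf⟩ := exists_Q_map (F := F) (eP.hom ≫ T.mor₁ ≫ eF.inv)
  let M := CochainComplex.mappingCone f
  obtain ⟨i, -, -⟩ := exists_iso_of_arrow_iso _ _ (DerivedCategory.mappingCone_triangle_distinguished f) hT
    (Arrow.isoMk eP eF (show eP.hom ≫ T.mor₁ = DerivedCategory.Q.map f ≫ eF.hom by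
      rw [hf, Category.assoc, Category.assoc, Iso.inv_hom_id, Category.comp_id]))
  let e₃ : DRing.toD M ≅ T.obj₃ := Triangle.π₃.mapIso i
  refine torAmplitude_of_iso e₃ (torAmplitude_of_complex (b := b) hp (fun i hi => ?_) (fun i => ?_)
    (t.isGE_of_iso e₃.symm a) (t.isLE_of_iso e₃.symm b) ?_)
  · exact (CochainComplex.mappingCone.isZero_X_iff f i).2 ⟨hPb _ (by omega), hF i (Or.inr hi)⟩
  · haveI : Module.Projective A (P.X (i + 1)) := by
      haveI := hPp (i + 1)
      exact (IsProjective.iff_projective (P.X (i + 1))).2 inferInstance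
    haveI := hFflat i
    haveI : Module.Flat A (ModuleCat.of A (P.X (i + 1) × F.X i)) :=
      (flat_prod' : Module.Flat A (P.X (i + 1) × F.X i))
    exact Module.Flat.of_linearEquiv
      (HomologicalComplex.homotopyCofiber.XIsoBiprod f i (i + 1) rfl ≪≫ ModuleCat.biprodIsoProd _ _).toLinearEquiv
  haveI := hFflat a
  let fst := fun (q r : ℤ) (h : q + 1 = r) => ((CochainComplex.mappingCone.fst f).1.v q r h).hom
  let snd := fun (q : ℤ) => ((CochainComplex.mappingCone.snd f).v q q (add_zero q)).hom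
  let inr := fun (q : ℤ) => ((CochainComplex.mappingCone.inr f).f q).hom
  have hfd : ∀ x, fst a (a + 1) rfl ((M.d p a).hom x) = (P.d a (a + 1)).hom (-fst p a hp x) := fun x => by
    refine (ConcreteCategory.congr_hom (CochainComplex.mappingCone.d_fst_v f p a (a + 1) hp rfl) x).trans ?_
    simp [fst]
  let i : F.X a →ₗ[A] M.X a ⧸ LinearMap.range (M.d p a).hom := (Submodule.mkQ _) ∘ₗ inr a
  let π : (M.X a ⧸ LinearMap.range (M.d p a).hom) →ₗ[A] P.X (a + 1) ⧸ LinearMap.range (P.d a (a + 1)).hom :=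
    Submodule.liftQ _ ((Submodule.mkQ _) ∘ₗ fst a (a + 1) rfl) (by
      rintro _ ⟨x, rfl⟩
      exact (Submodule.Quotient.mk_eq_zero _).2 ⟨_, (hfd x).symm⟩)
  have hfi : ∀ x, fst a (a + 1) rfl (inr a x) = 0 := fun x =>
    ConcreteCategory.congr_hom (CochainComplex.mappingCone.inr_f_fst_v f a (a + 1) rfl) x
  refine flat_of_exact i π ((injective_iff_map_eq_zero _).2 fun x hx => ?_) (fun y => ?_) (fun y => ⟨fun hy => ?_, ?_⟩)
  · obtain ⟨w, hw⟩ := (Submodule.Quotient.mk_eq_zero _).1 hx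
    have h1 : (P.d a (a + 1)).hom (fst p a hp w) = 0 := by
      rw [← neg_eq_zero, ← map_neg, ← hfd, hw, hfi]
    obtain ⟨v, hv⟩ : fst p a hp w ∈ LinearMap.range (P.d p a).hom := by
      rw [range_eq_ker P hp rfl (exactAt_of_isGE_toD (t.isGE_of_iso eP.symm (a + 1)) (by omega))]
      exact h1
    haveI := ModuleCat.subsingleton_of_isZero (hF p (Or.inl (by omega)))
    have h2 : snd a ((M.d p a).hom w) = (f.f a).hom (fst p a hp w) + (F.d p a).hom (snd p w) :=
      ConcreteCategory.congr_hom (CochainComplex.mappingCone.d_snd_v f p a hp) w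
    have h3 : snd a (inr a x) = x := ConcreteCategory.congr_hom (CochainComplex.mappingCone.inr_f_snd_v f a) x
    rw [hw, h3, ← hv, show (f.f a).hom ((P.d p a).hom v) = (F.d p a).hom ((f.f p).hom v) from
      (ConcreteCategory.congr_hom (f.comm p a) v).symm, Subsingleton.elim ((f.f p).hom v) 0,
      Subsingleton.elim (snd p w) 0, map_zero, add_zero] at h2
    exact h2
  · obtain ⟨y, rfl⟩ := Submodule.Quotient.mk_surjective _ y
    exact ⟨Submodule.Quotient.mk (((CochainComplex.mappingCone.inl f).v (a + 1) a (by omega)).hom y),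
      congrArg Submodule.Quotient.mk (ConcreteCategory.congr_hom (CochainComplex.mappingCone.inl_v_fst_v f (a + 1) a rfl) y)⟩
  · obtain ⟨m, rfl⟩ := Submodule.Quotient.mk_surjective _ y
    obtain ⟨z, hz⟩ := (Submodule.Quotient.mk_eq_zero _).1 hy
    let w := ((CochainComplex.mappingCone.inl f).v a p (by omega)).hom z
    refine ⟨snd a (m + (M.d p a).hom w), ?_⟩
    change Submodule.Quotient.mk _ = Submodule.Quotient.mk m
    rw [Submodule.Quotient.eq]
    have h0 : fst a (a + 1) rfl (m + (M.d p a).hom w) = 0 := by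
      rw [map_add, hfd, ← hz, show fst p a hp w = z from
        ConcreteCategory.congr_hom (CochainComplex.mappingCone.inl_v_fst_v f a p hp) z, map_neg, add_neg_cancel]
    have h1 : inr a (snd a (m + (M.d p a).hom w)) = m + (M.d p a).hom w := by
      refine Eq.trans ?_ (ConcreteCategory.congr_hom (CochainComplex.mappingCone.id_X f a (a + 1) rfl) _)
      change _ = ((CochainComplex.mappingCone.inl f).v (a + 1) a (by omega)).hom (fst a (a + 1) rfl (m + (M.d p a).hom w)) + _
      rw [h0, map_zero, zero_add]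
      rfl
    rw [h1, add_sub_cancel_left]
    exact ⟨w, rfl⟩
  · rintro ⟨x, rfl⟩
    exact (congrArg Submodule.Quotient.mk (hfi x)).trans (Submodule.Quotient.mk_zero _)

/-- retracts -/
theorem torAmplitude_retract {m n : ℤ} {K L : Dual.D A} (r : Retract K L)
    (h : DRing.HasTorAmplitudeIn A m n L) : DRing.HasTorAmplitudeIn A m n K := by
  have hg := isGE_of_torAmplitude h
  have hl := isLE_of_torAmplitude h
  have g' : t.IsGE K m := (DerivedCategory.isGE_iff _ _).2 fun i hi =>
    IsZero.of_mono ((Hm i).map r.i) ((DerivedCategory.isGE_iff _ _).1 hg i hi)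
  have l' : t.IsLE K n := (DerivedCategory.isLE_iff _ _).2 fun i hi =>
    IsZero.of_mono ((Hm i).map r.i) ((DerivedCategory.isLE_iff _ _).1 hl i hi)
  obtain ⟨P, hPb, hPp, hPK, ⟨eP⟩⟩ := exists_projective_le K n l'
  obtain ⟨Q, hQb, hQp, hQK, ⟨eQ⟩⟩ := exists_projective_le L n hl
  haveI := hPK; haveI := hQK
  obtain ⟨i₀, hi₀⟩ : ∃ i₀, i₀ + 1 = m := ⟨m - 1, sub_add_cancel _ 1⟩
  haveI hQ := flat_coker_of_torAmplitude hi₀ hQb hQp eQ h
  obtain ⟨ι, hι⟩ := exists_Q_map (eP.hom ≫ r.i ≫ eQ.inv)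
  obtain ⟨ρ, hρ⟩ := exists_Q_map (eQ.hom ≫ r.r ≫ eP.inv)
  obtain ⟨h'⟩ := homotopy_of_Q_map_eq (ι ≫ ρ) (𝟙 P) (by
    rw [Functor.map_comp, CategoryTheory.Functor.map_id, hι, hρ]
    simp only [Category.assoc, Iso.inv_hom_id_assoc, r.retract_assoc, Iso.hom_inv_id])
  have e := h'.comm m
  rw [dNext_eq h'.hom (show (ComplexShape.up ℤ).Rel m (m + 1) from rfl),
    prevD_eq h'.hom (show (ComplexShape.up ℤ).Rel i₀ m from hi₀)] at e
  have hflat : DRing.TermwiseFlat P := fun i => by
    haveI := hPp i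
    haveI : Module.Projective A (P.X i) := (IsProjective.iff_projective (P.X i)).2 inferInstance
    exact Module.Flat.of_projective
  haveI := hflat (m + 1)
  let RP := LinearMap.range (P.d i₀ m).hom
  let RQ := LinearMap.range (Q.d i₀ m).hom
  let s : (P.X m ⧸ RP) →ₗ[A] (Q.X m ⧸ RQ) × P.X (m + 1) :=
    LinearMap.prod (Submodule.mapQ RP RQ (ι.f m).hom (by
        rintro _ ⟨x, rfl⟩
        exact ⟨_, ConcreteCategory.congr_hom (ι.comm i₀ m) x⟩))
      (Submodule.liftQ RP (P.d m (m + 1)).hom (by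
        rintro _ ⟨x, rfl⟩
        exact ConcreteCategory.congr_hom (P.d_comp_d i₀ m (m + 1)) x))
  let t' : (Q.X m ⧸ RQ) × P.X (m + 1) →ₗ[A] (P.X m ⧸ RP) :=
    LinearMap.coprod (Submodule.mapQ RQ RP (ρ.f m).hom (by
        rintro _ ⟨x, rfl⟩
        exact ⟨_, ConcreteCategory.congr_hom (ρ.comm i₀ m) x⟩))
      (-(RP.mkQ ∘ₗ (h'.hom (m + 1) m).hom))
  have hts : t' ∘ₗ s = LinearMap.id := by
    refine Submodule.linearMap_qext _ (LinearMap.ext fun x => ?_)
    have e' := ConcreteCategory.congr_hom e x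
    change (ρ.f m).hom ((ι.f m).hom x) = (h'.hom (m + 1) m).hom ((P.d m (m + 1)).hom x) +
      (P.d i₀ m).hom ((h'.hom m i₀).hom x) + x at e'
    change Submodule.Quotient.mk (p := RP) ((ρ.f m).hom ((ι.f m).hom x)) +
      -Submodule.Quotient.mk (p := RP) ((h'.hom (m + 1) m).hom ((P.d m (m + 1)).hom x)) = Submodule.Quotient.mk (p := RP) x
    rw [e', ← sub_eq_add_neg, ← Submodule.Quotient.mk_sub, Submodule.Quotient.eq]
    exact ⟨(h'.hom m i₀).hom x, by abel⟩
  exact torAmplitude_of_iso eP (torAmplitude_of_complex hi₀ hPb hflat (t.isGE_of_iso eP.symm m)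
    (t.isLE_of_iso eP.symm n) (haveI := flat_prod' (A := A) (M := Q.X m ⧸ RQ) (P := P.X (m + 1)); Module.Flat.of_retract s t' hts))

/-- perfect amplitude from pseudo-coherence and tor amplitude -/
theorem perfectAmplitude_of_approx {K : Dual.D A} {p m n : ℤ} (hp : p + 1 + 1 = m) (hmn : m ≤ n) (hK : Approx p K)
    (h : DRing.HasTorAmplitudeIn A m n K) :
    ∃ E : DRing.Cx A, DRing.VanishesOutside E m n ∧ DRing.TermwiseFiniteProjective E ∧ Nonempty (DRing.toD E ≅ K) := by
  obtain ⟨E, C, α, g, k, hE, hT, hC⟩ := hK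
  obtain ⟨F, hF, hFflat, ⟨eF⟩⟩ := h
  obtain ⟨a, b, hab⟩ := hE.bdd
  haveI := hE.isKProjective
  obtain ⟨f, hf⟩ := exists_Q_map (α ≫ eF.inv)
  obtain ⟨i, -, -⟩ := exists_iso_of_arrow_iso _ _ (DerivedCategory.mappingCone_triangle_distinguished f) hT
    (Arrow.isoMk (Iso.refl _) eF (show 𝟙 _ ≫ α = DerivedCategory.Q.map f ≫ eF.hom by
      rw [hf, Category.id_comp, Category.assoc, Iso.inv_hom_id, Category.comp_id]))
  have hM : t.IsLE (DRing.toD (CochainComplex.mappingCone f)) p :=
    haveI : t.IsLE (Triangle.π₃.obj (Triangle.mk α g k)) p := hC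
    t.isLE_of_iso (Triangle.π₃.mapIso i).symm p
  have hfp : DRing.TermwiseFiniteProjective E := fun i => by
    haveI := (hE.ff i).2
    exact ⟨(hE.ff i).1, inferInstance⟩
  have hQ := flat_coker_of_map f (i₀ := p + 1) hp (fun i hi => hab i (Or.inr hi))
    (fun i => haveI := (hfp i).2; Module.Flat.of_projective) hF hFflat
    (fun i hi => exactAt_of_isLE_toD hM (by omega))
  have hq : ∀ i, m ≤ i → QuasiIsoAt f i := fun i hi => by
    obtain ⟨h1, -⟩ := (isLE_obj₃_iff _ (DerivedCategory.mappingCone_triangle_distinguished f) (p + 1) p rfl).1 hM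
    rw [quasiIsoAt_iff_isIso_homologyMap]
    exact (NatIso.isIso_map_iff (DerivedCategory.homologyFunctorFactors (ModuleCat.{u} A) i) f).1 (h1 i (by omega))
  obtain ⟨E', hE', hE'fp, ⟨e'⟩⟩ := exists_trunc_projective E m n b (fun i hi => hab i (Or.inr hi)) hfp
    (fun i hi => by
      haveI := hq i (by omega)
      exact (quasiIsoAt_iff_exactAt' f i (HomologicalComplex.ExactAt.of_isZero (hF i (Or.inr hi)))).1 inferInstance)
    (p + 1) hp (projective_coker E hfp hQ)
  haveI : F.IsStrictlyGE m := (F.isStrictlyGE_iff m).2 fun j hj => hF j (Or.inl hj)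
  haveI := (F.quasiIso_πTruncGE_iff m).2 inferInstance
  haveI := (CochainComplex.quasiIso_truncGEMap_iff (φ := f) (n := m)).2 hq
  exact ⟨E', hE', hE'fp, ⟨e' ≪≫ asIso (DerivedCategory.Q.map (CochainComplex.truncGEMap f m)) ≪≫
    (asIso (DerivedCategory.Q.map (F.πTruncGE m))).symm ≪≫ eF⟩⟩

theorem perfect_iff (K : Dual.D A) :
    DRing.IsPerfect A K ↔ (∀ n, Approx n K) ∧ DRing.HasFiniteTorDimCx A K := by
  constructor
  · rintro ⟨E, a, b, hab, hfp, ⟨e⟩⟩
    exact ⟨fun n => approx_of_iso e (forall_approx_of_projective b (fun i hi => hab i (Or.inr hi)) hfp n),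
      a, b, E, hab, fun i => haveI := (hfp i).2; Module.Flat.of_projective, ⟨e⟩⟩
  · rintro ⟨hK, m, n, h⟩
    obtain ⟨E, hE, hfp, e⟩ := perfectAmplitude_of_approx (p := m - 2) (by omega) (le_max_left m n) (hK _)
      (torAmplitude_mono le_rfl (le_max_right m n) h)
    exact ⟨E, m, _, hE, hfp, e⟩

theorem finiteTorDim_obj₃ (T : Triangle (Dual.D A)) (hT : T ∈ distTriang _)
    (h₁ : DRing.HasFiniteTorDimCx A T.obj₁) (h₂ : DRing.HasFiniteTorDimCx A T.obj₂) :
    DRing.HasFiniteTorDimCx A T.obj₃ := by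
  obtain ⟨a, b, h₁⟩ := h₁
  obtain ⟨c, d, h₂⟩ := h₂
  exact ⟨min (a - 1) c, max (b - 1) d, torAmplitude_obj₃ T hT (torAmplitude_mono (by omega) (by omega) h₁)
    (torAmplitude_mono (min_le_right _ _) (le_max_right _ _) h₂)⟩

theorem finiteTorDim_shift {K : Dual.D A} (c : ℤ) (h : DRing.HasFiniteTorDimCx A K) :
    DRing.HasFiniteTorDimCx A (K⟦c⟧) := by
  obtain ⟨a, b, h⟩ := h
  exact ⟨a - c, b - c, torAmplitude_shift c _ _ (by omega) (by omega) h⟩

theorem perfect_shift {K : Dual.D A} (c : ℤ) (h : DRing.IsPerfect A K) : DRing.IsPerfect A (K⟦c⟧) := by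
  rw [perfect_iff] at h ⊢
  exact ⟨fun n => approx_shift c n rfl (h.1 _), finiteTorDim_shift c h.2⟩

theorem perfect_obj₃ (T : Triangle (Dual.D A)) (hT : T ∈ distTriang _)
    (h₁ : DRing.IsPerfect A T.obj₁) (h₂ : DRing.IsPerfect A T.obj₂) : DRing.IsPerfect A T.obj₃ := by
  rw [perfect_iff] at h₁ h₂ ⊢
  exact ⟨fun n => approx_obj₃ T hT n (h₁.1 _) (h₂.1 n), finiteTorDim_obj₃ T hT h₁.2 h₂.2⟩

theorem perfect_of_iso {K L : Dual.D A} (e : K ≅ L) (h : DRing.IsPerfect A K) : DRing.IsPerfect A L := by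
  obtain ⟨E, a, b, hab, hfp, ⟨e'⟩⟩ := h
  exact ⟨E, a, b, hab, hfp, ⟨e' ≪≫ e⟩⟩

end Groth.Agent.PseudoCoh
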