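import Groth.Agent.PseudoCoh.Basic
import Groth.Agent.KProjRes.Derived
import Groth.Agent.KInjRes.DerivedCat

/-!
# Pseudo-coherence under derived base change
-/

set_option autoImplicit false

universe u

open CategoryTheory CategoryTheory.Limits CategoryTheory.Pretriangulated DerivedCategory DerivedCategory.TStructure

attribute [local instance] HasDerivedCategory.standard

noncomputable section

namespace Groth.Agent.PseudoCoh

variable {A B : Type u} [CommRing A] [CommRing B] (φ : A →+* B)

/-- termwise extension of scalars -/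
abbrev Fc := (ModuleCat.extendScalars.{u, u, u} φ).mapHomologicalComplex (ComplexShape.up ℤ)

/-- the quotient to the homotopy category -/
abbrev qK (A : Type u) [CommRing A] := HomotopyCategory.quotient (ModuleCat.{u} A) (ComplexShape.up ℤ)

/-- extension–restriction on the homotopy categories -/
def kAdj := Groth.Agent.KInjRes.mapKAdj (ModuleCat.extendRestrictScalarsAdj.{u, u, u} φ) (ComplexShape.up ℤ)

lemma eq_zero_of_homEquiv {C D : Type*} [Category C] [Category D] [Preadditive C] [Preadditive D]
    {F : C ⥤ D} {G : D ⥤ C} [G.Additive] (adj : F ⊣ G) {X : C} {Y : D} (g : F.obj X ⟶ Y)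
    (h : adj.homEquiv X Y g = 0) : g = 0 :=
  (adj.homEquiv X Y).injective (h.trans (by rw [Adjunction.homEquiv_unit, Functor.map_zero, comp_zero]))

theorem isKProjective_extend (P : DRing.Cx A) [CochainComplex.IsKProjective P] :
    CochainComplex.IsKProjective ((Fc φ).obj P) where
  nonempty_homotopy_zero {L} f hL := by
    have hr : (((ModuleCat.restrictScalars.{u} φ).mapHomologicalComplex (ComplexShape.up ℤ)).obj L).Acyclic :=
      fun i => (hL i).map (ModuleCat.restrictScalars.{u} φ)
    obtain ⟨h⟩ := CochainComplex.IsKProjective.nonempty_homotopy_zero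
      (((Groth.Agent.KInjRes.mapHCAdj (ModuleCat.extendRestrictScalarsAdj.{u, u, u} φ) (ComplexShape.up ℤ)).homEquiv P L) f) hr
    refine ⟨HomotopyCategory.homotopyOfEq _ _ ?_⟩
    have h0 := HomotopyCategory.eq_of_homotopy _ _ h
    rw [Functor.map_zero] at h0
    rw [Functor.map_zero]
    refine eq_zero_of_homEquiv (kAdj φ) (X := (qK A).obj P) (Y := (qK B).obj L) _ (Eq.trans ?_ h0)
    rw [Adjunction.homEquiv_unit]
    exact ((qK A).map_comp _ _).symm

theorem BFF.extend {E : DRing.Cx A} (hE : BFF E) : BFF ((Fc φ).obj E) := by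
  obtain ⟨⟨a, b, hab⟩, hff⟩ := hE
  refine ⟨⟨a, b, fun i hi => (ModuleCat.extendScalars.{u, u, u} φ).map_isZero (hab i hi)⟩, fun i => ?_⟩
  letI := φ.toAlgebra
  obtain ⟨h1, h2⟩ := hff i
  exact ⟨(inferInstance : Module.Finite B (TensorProduct A B (E.X i))),
    (inferInstance : Module.Free B (TensorProduct A B (E.X i)))⟩

theorem isLE_extend (M : DRing.Cx A) [CochainComplex.IsKProjective M] (n : ℤ)
    (hM : t.IsLE (DRing.toD M) n) : t.IsLE (DRing.toD ((Fc φ).obj M)) n := by
  rw [t.isLE_iff_orthogonal n (n + 1) rfl]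
  intro Y f hY
  obtain ⟨N, hN, ⟨e⟩⟩ := Y.exists_iso_Q_obj_of_isGE (n + 1)
  haveI := isKProjective_extend φ M
  suffices hf : ∀ g : (qK B).obj ((Fc φ).obj M) ⟶ (qK B).obj N, g = 0 by
    obtain ⟨g, hg⟩ := (CochainComplex.IsKProjective.Qh_map_bijective ((Fc φ).obj M) ((qK B).obj N)).surjective
      ((quotientCompQhIso (ModuleCat.{u} B)).hom.app _ ≫ f ≫ e.hom ≫ (quotientCompQhIso (ModuleCat.{u} B)).inv.app N)
    rw [hf g, Functor.map_zero] at hg
    rw [← cancel_epi ((quotientCompQhIso (ModuleCat.{u} B)).hom.app ((Fc φ).obj M)), ← cancel_mono e.hom,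
      ← cancel_mono ((quotientCompQhIso (ModuleCat.{u} B)).inv.app N), Category.assoc, Category.assoc, ← hg]
    simp
  intro g
  refine eq_zero_of_homEquiv (kAdj φ) (X := (qK A).obj M) (Y := (qK B).obj N) _ ?_
  apply (CochainComplex.IsKProjective.Qh_map_bijective M _).injective
  rw [Functor.map_zero]
  haveI : CochainComplex.IsStrictlyGE (((ModuleCat.restrictScalars.{u} φ).mapHomologicalComplex (ComplexShape.up ℤ)).obj N) (n + 1) := by
    rw [CochainComplex.isStrictlyGE_iff]
    exact fun i hi => (ModuleCat.restrictScalars.{u} φ).map_isZero (N.isZero_of_isStrictlyGE (n + 1) i hi)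
  have h1 : t.IsLE (DerivedCategory.Qh.obj ((qK A).obj M)) n :=
    t.isLE_of_iso ((quotientCompQhIso (ModuleCat.{u} A)).app M).symm n
  have h2 : t.IsGE (DerivedCategory.Qh.obj (((ModuleCat.restrictScalars.{u} φ).mapHomotopyCategory (ComplexShape.up ℤ)).obj
      ((qK B).obj N))) (n + 1) :=
    t.isGE_of_iso ((quotientCompQhIso (ModuleCat.{u} A)).app
      (((ModuleCat.restrictScalars.{u} φ).mapHomologicalComplex (ComplexShape.up ℤ)).obj N)).symm (n + 1)
  exact t.zero_of_isLE_of_isGE _ n (n + 1) (by omega) h1 h2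

theorem approx_lBaseChange [DRing.HasLBaseChange φ] {n : ℤ} {K : Dual.D A} (hK : Approx n K) :
    Approx n ((DRing.LBaseChange φ).obj K) := by
  obtain ⟨E, C, α, g, k, hE, hT, hC⟩ := hK
  obtain ⟨P, hP, _, ⟨e⟩⟩ := Groth.Agent.KProjRes.exists_kProjective_iso K
  haveI := hP
  haveI := hE.isKProjective
  obtain ⟨f, hf⟩ : ∃ f : E ⟶ P, DerivedCategory.Q.map f = α ≫ e.inv := by
    obtain ⟨f, hf⟩ := (CochainComplex.IsKProjective.Qh_map_bijective E ((qK A).obj P)).surjective
      ((quotientCompQhIso (ModuleCat.{u} A)).hom.app E ≫ (α ≫ e.inv) ≫ (quotientCompQhIso (ModuleCat.{u} A)).inv.app P)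
    obtain ⟨f, rfl⟩ := (qK A).map_surjective f
    refine ⟨f, ?_⟩
    have e' := (quotientCompQhIso (ModuleCat.{u} A)).hom.naturality f
    change DerivedCategory.Qh.map ((qK A).map f) ≫ _ = _ at e'
    rw [hf, Category.assoc, Category.assoc, Iso.inv_hom_id_app] at e'
    exact ((cancel_epi _).1 e').symm.trans (Category.comp_id _)
  have hM : t.IsLE (DRing.toD (CochainComplex.mappingCone f)) n := by
    obtain ⟨i, -, -⟩ := exists_iso_of_arrow_iso _ _ (DerivedCategory.mappingCone_triangle_distinguished f) hT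
      (Arrow.isoMk (Iso.refl _) e ((Category.id_comp α).trans (show α = DerivedCategory.Q.map f ≫ e.hom by
        rw [hf, Category.assoc, Iso.inv_hom_id, Category.comp_id])))
    haveI : t.IsLE (Triangle.π₃.obj (Triangle.mk α g k)) n := hC
    exact t.isLE_of_iso (Triangle.π₃.mapIso i).symm n
  haveI : CochainComplex.IsKProjective (CochainComplex.mappingCone f) := by
    rw [CochainComplex.isKProjective_iff_leftOrthogonal]
    exact (HomotopyCategory.subcategoryAcyclic (ModuleCat.{u} A)).leftOrthogonal.ext_of_isTriangulatedClosed₃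
      _ (HomotopyCategory.mappingCone_triangleh_distinguished f)
      ((CochainComplex.isKProjective_iff_leftOrthogonal E).1 inferInstance)
      ((CochainComplex.isKProjective_iff_leftOrthogonal P).1 inferInstance)
  have hFM := isLE_extend φ _ n hM
  have hApprox : Approx n (DRing.toD ((Fc φ).obj P)) :=
    ⟨(Fc φ).obj E, DRing.toD (CochainComplex.mappingCone ((Fc φ).map f)), DerivedCategory.Q.map ((Fc φ).map f), _, _,
      hE.extend φ, DerivedCategory.mappingCone_triangle_distinguished ((Fc φ).map f),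
      t.isLE_of_iso (DerivedCategory.Q.mapIso (CochainComplex.mappingCone.mapHomologicalComplexIso f _)) n⟩
  exact approx_of_iso ((Groth.Agent.KProjRes.lBaseChangeIso φ P).symm ≪≫ (DRing.LBaseChange φ).mapIso e) hApprox

end Groth.Agent.PseudoCoh
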