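import Groth.Agent.PseudoCoh.Descent

/-!
# Base change of tor amplitude; flat base change
-/

set_option autoImplicit false

universe u

open CategoryTheory CategoryTheory.Limits CategoryTheory.Pretriangulated DerivedCategory DerivedCategory.TStructure
open scoped TensorProduct

attribute [local instance] HasDerivedCategory.standard

noncomputable section

namespace Groth.Agent.PseudoCoh

variable {A B : Type u} [CommRing A] [CommRing B] (φ : A →+* B)

/-- `B ⊗ -` of an exact sequence with flat cokernels is exact -/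
theorem exactAt_extend {P : DRing.Cx A} {p n q : ℤ} (hp : p + 1 = n) (hq : n + 1 = q) (hx : P.ExactAt n)
    (hQ : Module.Flat A (P.X q ⧸ LinearMap.range (P.d n q).hom)) : ((Fc φ).obj P).ExactAt n := by
  letI := φ.toAlgebra
  haveI := hQ
  let l : (P.X n ⧸ LinearMap.range (P.d p n).hom) →ₗ[A] P.X q := Submodule.liftQ _ (P.d n q).hom (by
    rintro _ ⟨x, rfl⟩
    exact ConcreteCategory.congr_hom (P.d_comp_d p n q) x)
  have hl : Function.Injective l := by
    rw [← LinearMap.ker_eq_bot, Submodule.ker_liftQ, ← range_eq_ker P hp hq hx, Submodule.mkQ_map_self]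
  have hinj : Function.Injective (l.lTensor B) :=
    LinearMap.lTensor_injective_of_exact_of_flat (LinearMap.range (P.d n q).hom).mkQ (Submodule.mkQ_surjective _) l hl
      (LinearMap.exact_iff.2 (by rw [Submodule.ker_mkQ]; exact (Submodule.range_liftQ _ _ _).symm)) B
  rw [HomologicalComplex.exactAt_iff' _ p n q (by simp; omega) (by simp; omega), ShortComplex.moduleCat_exact_iff]
  intro (y : B ⊗[A] P.X n) hy
  have hy' : (P.d n q).hom.lTensor B y = 0 := hy
  have h0 : (LinearMap.range (P.d p n).hom).mkQ.lTensor B y = 0 := hinj (by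
    rw [map_zero, ← LinearMap.comp_apply, ← LinearMap.lTensor_comp, Submodule.liftQ_mkQ]
    exact hy')
  obtain ⟨z, hz⟩ := (lTensor_exact B (LinearMap.exact_map_mkQ_range (P.d p n).hom) (Submodule.mkQ_surjective _) y).1 h0
  exact ⟨z, hz⟩

theorem flat_coker_below {P : DRing.Cx A} {a : ℤ} (hflat : ∀ i, Module.Flat A (P.X i)) (hx : ∀ i, i < a → P.ExactAt i)
    {i₀ : ℤ} (hi₀ : i₀ + 1 = a) (hQ : Module.Flat A (P.X a ⧸ LinearMap.range (P.d i₀ a).hom)) (p n : ℤ) (hp : p + 1 = n)
    (hn : n ≤ a) : Module.Flat A (P.X n ⧸ LinearMap.range (P.d p n).hom) := by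
  obtain ⟨j, hj⟩ : ∃ j : ℕ, n + j = a := ⟨(a - n).toNat, by omega⟩
  induction j generalizing p n with
  | zero =>
    obtain rfl : n = a := by simpa using hj
    obtain rfl : p = i₀ := by omega
    exact hQ
  | succ j ih =>
    haveI := ih n (n + 1) rfl (by omega) (by push_cast at hj ⊢; omega)
    haveI := hflat (n + 1)
    let π := (LinearMap.range (P.d n (n + 1)).hom).mkQ
    have hk : Module.Flat A (LinearMap.range (P.d n (n + 1)).hom) :=
      haveI := flat_ker π (Submodule.mkQ_surjective _)
      Module.Flat.of_linearEquiv (LinearEquiv.ofEq _ (LinearMap.ker π) (Submodule.ker_mkQ _).symm)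
    haveI := hk
    exact Module.Flat.of_linearEquiv ((Submodule.quotEquivOfEq _ _ (range_eq_ker P hp rfl (hx n (by omega)))).trans
      (P.d n (n + 1)).hom.quotKerEquivRange)

theorem flat_extend_coker {P : DRing.Cx A} {i j : ℤ} (hQ : Module.Flat A (P.X j ⧸ LinearMap.range (P.d i j).hom)) :
    Module.Flat B (((Fc φ).obj P).X j ⧸ LinearMap.range (((Fc φ).obj P).d i j).hom) := by
  let F := ModuleCat.extendScalars.{u, u, u} φ
  let S : ShortComplex (ModuleCat.{u} A) := ShortComplex.mk (P.d i j) (ModuleCat.ofHom (LinearMap.range (P.d i j).hom).mkQ)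
    (ModuleCat.hom_ext (LinearMap.ext fun w => (Submodule.Quotient.mk_eq_zero _).2 ⟨w, rfl⟩))
  haveI : PreservesFiniteColimits F :=
    haveI := (ModuleCat.extendRestrictScalarsAdj.{u, u, u} φ).leftAdjoint_preservesColimits
    inferInstance
  haveI : Epi S.g := (ModuleCat.epi_iff_surjective _).2 (Submodule.mkQ_surjective _)
  have hS : (S.map F).Exact ∧ Epi (F.map S.g) := by
    have := (Functor.preservesFiniteColimits_tfae F).out 3 1
    exact this.1 inferInstance S ⟨(ShortComplex.moduleCat_exact_iff _).2 fun x hx =>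
      (Submodule.Quotient.mk_eq_zero _).1 hx, inferInstance⟩
  haveI hF : Module.Flat B (F.obj S.X₃) := by
    letI := φ.toAlgebra
    haveI := hQ
    exact (inferInstance : Module.Flat B (B ⊗[A] (P.X j ⧸ LinearMap.range (P.d i j).hom)))
  exact Module.Flat.of_linearEquiv ((Submodule.quotEquivOfEq _ _ hS.1.moduleCat_range_eq_ker).trans
    ((F.map S.g).hom.quotKerEquivOfSurjective ((ModuleCat.epi_iff_surjective _).1 hS.2)))

theorem torAmplitude_lBaseChange [DRing.HasLBaseChange φ] {K : Dual.D A} {a b : ℤ}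
    (h : DRing.HasTorAmplitudeIn A a b K) : DRing.HasTorAmplitudeIn B a b ((DRing.LBaseChange φ).obj K) := by
  obtain ⟨P, hPb, hPp, hPK, ⟨e⟩⟩ := exists_projective_le K b (isLE_of_torAmplitude h)
  haveI := hPK
  obtain ⟨i₀, hi₀⟩ : ∃ i₀, i₀ + 1 = a := ⟨a - 1, sub_add_cancel _ 1⟩
  have hQ := flat_coker_of_torAmplitude hi₀ hPb hPp e h
  have hflat : ∀ i, Module.Flat A (P.X i) := fun i => by
    haveI := hPp i
    haveI : Module.Projective A (P.X i) := (IsProjective.iff_projective (P.X i)).2 inferInstance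
    exact Module.Flat.of_projective
  have hx : ∀ i, i < a → P.ExactAt i := fun i hi =>
    exactAt_of_isGE_toD (haveI := isGE_of_torAmplitude h; t.isGE_of_iso e.symm a) hi
  refine torAmplitude_of_iso ((Groth.Agent.KProjRes.lBaseChangeIso φ P).symm ≪≫ (DRing.LBaseChange φ).mapIso e)
    (torAmplitude_of_complex hi₀ (fun i hi => (ModuleCat.extendScalars.{u, u, u} φ).map_isZero (hPb i hi)) (fun i => ?_) ?_
      (isLE_toD_of_vanishes fun i hi => (ModuleCat.extendScalars.{u, u, u} φ).map_isZero (hPb i hi)) (flat_extend_coker φ hQ))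
  · letI := φ.toAlgebra
    haveI := hflat i
    exact (inferInstance : Module.Flat B (B ⊗[A] P.X i))
  · refine (DerivedCategory.isGE_iff _ _).2 fun i hi => ?_
    exact (exactAt_extend φ (sub_add_cancel i 1) rfl (hx i hi)
      (flat_coker_below hflat hx hi₀ hQ i (i + 1) rfl (by omega))).isZero_homology.of_iso
      ((DerivedCategory.homologyFunctorFactors (ModuleCat.{u} B) i).app _)

theorem isIso_Q_map_extend (hφ : φ.Flat) {P K : DRing.Cx A} (q : P ⟶ K) [IsIso (DerivedCategory.Q.map q)] :
    IsIso (DerivedCategory.Q.map ((Fc φ).map q)) := by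
  let F := ModuleCat.extendScalars.{u, u, u} φ
  rw [DerivedCategory.isIso_iff]
  intro j
  haveI : IsIso (HomologicalComplex.homologyMap q j) :=
    (NatIso.isIso_map_iff (DerivedCategory.homologyFunctorFactors (ModuleCat.{u} A) j) q).1
      ((inferInstance : IsIso ((DerivedCategory.homologyFunctor (ModuleCat.{u} A) j).map (DerivedCategory.Q.map q))))
  refine (NatIso.isIso_map_iff (DerivedCategory.homologyFunctorFactors (ModuleCat.{u} B) j) _).2 ?_
  haveI := ModuleCat.preservesFiniteLimits_extendScalars_of_flat hφ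
  haveI : PreservesFiniteColimits F :=
    haveI := (ModuleCat.extendRestrictScalarsAdj.{u, u, u} φ).leftAdjoint_preservesColimits
    inferInstance
  have hQ : QuasiIsoAt q j := (quasiIsoAt_iff_isIso_homologyMap q j).2 inferInstance
  exact (quasiIsoAt_iff_isIso_homologyMap _ j).1 inferInstance

/-- along a flat map derived base change is computed termwise -/
theorem nonempty_flat_lBaseChangeIso (hφ : φ.Flat) [DRing.HasLBaseChange φ] (K : DRing.Cx A) :
    Nonempty ((DRing.LBaseChange φ).obj (DRing.toD K) ≅ DRing.toD ((Fc φ).obj K)) := by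
  obtain ⟨P, f, hP, -, hf⟩ := Groth.Agent.KProjRes.exists_kProjective K
  haveI := hP; haveI := hf
  haveI : IsIso (DerivedCategory.Q.map f) := inferInstance
  haveI := isIso_Q_map_extend φ hφ f
  exact ⟨(DRing.LBaseChange φ).mapIso (asIso (DerivedCategory.Q.map f)).symm ≪≫
    Groth.Agent.KProjRes.lBaseChangeIso φ P ≪≫ asIso (DerivedCategory.Q.map ((Fc φ).map f))⟩

/-- derived base change of a module along a flat map -/
theorem nonempty_flat_lBaseChange_inD {S : Type u} [CommRing S] [Algebra A S] [Module.Flat A S]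
    [DRing.HasLBaseChange (algebraMap A S)] (M : Type u) [AddCommGroup M] [Module A M] :
    Nonempty ((DRing.LBaseChange (algebraMap A S)).obj (Dual.inD A M) ≅ Dual.inD S (S ⊗[A] M)) := by
  obtain ⟨e⟩ := nonempty_flat_lBaseChangeIso (algebraMap A S) (RingHom.flat_algebraMap_iff.2 inferInstance)
    ((HomologicalComplex.single (ModuleCat.{u} A) (ComplexShape.up ℤ) 0).obj (ModuleCat.of A M))
  obtain ⟨e'⟩ := nonempty_extendEquiv (A := A) (S := S) (ModuleCat.of A M)
  exact ⟨(DRing.LBaseChange (algebraMap A S)).mapIso ((DerivedCategory.singleFunctorIsoCompQ (ModuleCat.{u} A) 0).app _) ≪≫ e ≪≫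
    DerivedCategory.Q.mapIso (((HomologicalComplex.singleMapHomologicalComplex
      (ModuleCat.extendScalars.{u, u, u} (algebraMap A S)) (ComplexShape.up ℤ) 0).app (ModuleCat.of A M)) ≪≫
      (HomologicalComplex.single (ModuleCat.{u} S) (ComplexShape.up ℤ) 0).mapIso
        (LinearEquiv.toModuleIso (X₂ := S ⊗[A] M) e')) ≪≫
    ((DerivedCategory.singleFunctorIsoCompQ (ModuleCat.{u} S) 0).app (ModuleCat.of S (S ⊗[A] M))).symm⟩

end Groth.Agent.PseudoCoh
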