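import Groth.Prelude.Def_DRing2
import Mathlib.Algebra.Homology.DerivedCategory.KProjective
import Mathlib.Algebra.Homology.DerivedCategory.TStructure
import Mathlib.CategoryTheory.Triangulated.TStructure.TruncLTGE
import Mathlib.Algebra.Category.ModuleCat.Projective
import Mathlib.Algebra.Category.ModuleCat.Biproducts
import Mathlib.RingTheory.Finiteness.Prod
import Mathlib.LinearAlgebra.FreeModule.Finite.Basic

/-!
# `m`-pseudo-coherence through triangles
-/

set_option autoImplicit false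

universe u

open CategoryTheory CategoryTheory.Limits CategoryTheory.Pretriangulated DerivedCategory DerivedCategory.TStructure

attribute [local instance] HasDerivedCategory.standard

noncomputable section

namespace Groth.Agent.PseudoCoh

variable {A : Type u} [CommRing A]

local notation "Hm" => DerivedCategory.homologyFunctor (ModuleCat A)

/-- the cone is `≤ m - 1` iff the map is an iso above `m` and an epi at `m` -/
theorem isLE_obj₃_iff (T : Triangle (Dual.D A)) (hT : T ∈ distTriang _) (m n : ℤ) (h : n + 1 = m) :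
    t.IsLE T.obj₃ n ↔ (∀ i, m < i → IsIso ((Hm i).map T.mor₁)) ∧ Epi ((Hm m).map T.mor₁) := by
  constructor
  · intro hle
    have hz : ∀ i, n < i → IsZero ((Hm i).obj T.obj₃) := (DerivedCategory.isLE_iff T.obj₃ n).1 hle
    have he : ∀ i, m ≤ i → Epi ((Hm i).map T.mor₁) := fun i hi =>
      (HomologySequence.epi_homologyMap_mor₁_iff T hT i).2 ((hz i (by omega)).eq_of_tgt _ _)
    refine ⟨fun i hi => ?_, he m le_rfl⟩
    haveI := he i hi.le
    haveI := (HomologySequence.mono_homologyMap_mor₁_iff T hT (i - 1) i (by omega)).2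
      ((hz (i - 1) (by omega)).eq_of_src _ _)
    exact isIso_of_mono_of_epi _
  · rintro ⟨hiso, hepi⟩
    refine (DerivedCategory.isLE_iff T.obj₃ n).2 fun i hi => ?_
    have h2 : (Hm i).map T.mor₂ = 0 := by
      rw [← HomologySequence.epi_homologyMap_mor₁_iff T hT i]
      rcases (show m ≤ i by omega).lt_or_eq with h' | rfl
      · haveI := hiso i h'; infer_instance
      · exact hepi
    have h3 : HomologySequence.δ T i (i + 1) rfl = 0 := by
      rw [← HomologySequence.mono_homologyMap_mor₁_iff T hT i (i + 1) rfl]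
      haveI := hiso (i + 1) (by omega)
      infer_instance
    exact (HomologySequence.exact₃ T hT i (i + 1) rfl).isZero_X₂ h2 h3

/-- bounded complexes of finite free modules -/
structure BFF (E : DRing.Cx A) : Prop where
  bdd : ∃ a b : ℤ, DRing.VanishesOutside E a b
  ff : DRing.TermwiseFiniteFree E

theorem BFF.projective_X {E : DRing.Cx A} (hE : BFF E) (i : ℤ) : Projective (E.X i) :=
  haveI := (hE.ff i).2
  ModuleCat.projective_of_free (Module.Free.chooseBasis A (E.X i))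

theorem BFF.isKProjective {E : DRing.Cx A} (hE : BFF E) : CochainComplex.IsKProjective E := by
  obtain ⟨a, b, hb⟩ := hE.bdd
  haveI : E.IsStrictlyLE b := (E.isStrictlyLE_iff b).2 fun i hi => hb i (Or.inr hi)
  haveI := fun i => hE.projective_X i
  exact E.isKProjective_of_projective b

/-- `K` receives a map from a bounded finite free complex with cone `≤ n` -/
def Approx (n : ℤ) (K : Dual.D A) : Prop :=
  ∃ (E : DRing.Cx A) (C : Dual.D A) (α : DRing.toD E ⟶ K) (g : K ⟶ C) (h : C ⟶ (DRing.toD E)⟦(1 : ℤ)⟧),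
    BFF E ∧ Triangle.mk α g h ∈ distTriang _ ∧ t.IsLE C n

theorem approx_iff {n m : ℤ} (h : n + 1 = m) (K : Dual.D A) : DRing.IsPseudoCoherent A m K ↔ Approx n K := by
  constructor
  · rintro ⟨E, a, b, α, hab, hff, hiso, hepi⟩
    obtain ⟨C, g, k, hT⟩ := distinguished_cocone_triangle α
    exact ⟨E, C, α, g, k, ⟨⟨a, b, hab⟩, hff⟩, hT, (isLE_obj₃_iff _ hT m n h).2 ⟨hiso, hepi⟩⟩
  · rintro ⟨E, C, α, g, k, ⟨⟨a, b, hab⟩, hff⟩, hT, hC⟩
    obtain ⟨h1, h2⟩ := (isLE_obj₃_iff _ hT m n h).1 hC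
    exact ⟨E, a, b, α, hab, hff, h1, h2⟩

theorem approx_mono {n n' : ℤ} (h : n ≤ n') {K : Dual.D A} : Approx n K → Approx n' K := by
  rintro ⟨E, C, α, g, k, hE, hT, hC⟩
  exact ⟨E, C, α, g, k, hE, hT, t.isLE_of_le C n n' h⟩

theorem approx_of_iso {n : ℤ} {K L : Dual.D A} (e : K ≅ L) : Approx n K → Approx n L := by
  rintro ⟨E, C, α, g, k, hE, hT, hC⟩
  exact ⟨E, C, α ≫ e.hom, e.inv ≫ g, k, hE, isomorphic_distinguished _ hT _
    (Triangle.isoMk _ _ (Iso.refl _) e.symm (Iso.refl _) (by simp [Triangle.mk]) (by simp [Triangle.mk])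
      (by simp [Triangle.mk])), hC⟩

/-- the cone of a composition lies between the two cones -/
theorem isLE_cone_comp {X Y Z C₁ C₂ C₃ : Dual.D A} {f : X ⟶ Y} {g : Y ⟶ Z} {a₁ : Y ⟶ C₁} {b₁ : C₁ ⟶ X⟦(1 : ℤ)⟧}
    {a₂ : Z ⟶ C₂} {b₂ : C₂ ⟶ Y⟦(1 : ℤ)⟧} {a₃ : Z ⟶ C₃} {b₃ : C₃ ⟶ X⟦(1 : ℤ)⟧}
    (h₁ : Triangle.mk f a₁ b₁ ∈ distTriang _) (h₂ : Triangle.mk g a₂ b₂ ∈ distTriang _)
    (h₃ : Triangle.mk (f ≫ g) a₃ b₃ ∈ distTriang _) (n : ℤ) (hC₁ : t.IsLE C₁ n) (hC₂ : t.IsLE C₂ n) :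
    t.IsLE C₃ n :=
  t.isLE₂ _ (Triangulated.someOctahedron rfl h₁ h₂ h₃).mem n hC₁ hC₂

section Truncation

variable (E : DRing.Cx A) (m : ℤ)

/-- the terms of the brutal truncation -/
def cutSub (i : ℤ) : Submodule A (E.X i) := if m ≤ i then ⊤ else ⊥

lemma cutSub_d (i j : ℤ) (x : E.X i) (hx : x ∈ cutSub E m i) : (E.d i j).hom x ∈ cutSub E m j := by
  unfold cutSub at *
  by_cases hj : m ≤ j
  · rw [if_pos hj]; trivial
  · rw [if_neg hj, Submodule.mem_bot]
    by_cases hij : (ComplexShape.up ℤ).Rel i j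
    · rw [if_neg (show ¬ m ≤ i by change i + 1 = j at hij; omega), Submodule.mem_bot] at hx
      rw [hx, map_zero]
    · rw [E.shape i j hij]; rfl

/-- the brutal truncation `σ_{≥ m}` -/
def cut : DRing.Cx A where
  X i := ModuleCat.of A (cutSub E m i)
  d i j := ModuleCat.ofHom ((E.d i j).hom.restrict (cutSub_d E m i j))
  shape i j hij := ModuleCat.hom_ext (LinearMap.ext fun x => Subtype.ext (by
    simp [E.shape i j hij]))
  d_comp_d' i j k _ _ := ModuleCat.hom_ext (LinearMap.ext fun x => Subtype.ext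
    (ConcreteCategory.congr_hom (E.d_comp_d i j k) x.1))

/-- `σ_{≥ m} E → E` -/
def cutι : cut E m ⟶ E where
  f i := ModuleCat.ofHom (cutSub E m i).subtype
  comm' _ _ _ := rfl

lemma cut_isZero {i : ℤ} (hi : i < m) : IsZero ((cut E m).X i) := by
  haveI : Subsingleton (cutSub E m i) := by
    rw [cutSub, if_neg (by omega)]; infer_instance
  exact ModuleCat.isZero_of_subsingleton (ModuleCat.of A (cutSub E m i))

lemma isIso_cutι_f {i : ℤ} (hi : m ≤ i) : IsIso ((cutι E m).f i) := by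
  refine (ConcreteCategory.isIso_iff_bijective _).2 ⟨Subtype.val_injective, fun x => ⟨⟨x, ?_⟩, rfl⟩⟩
  rw [cutSub, if_pos hi]; trivial

variable {E}

theorem BFF.cut (hE : BFF E) : BFF (cut E m) := by
  obtain ⟨⟨a, b, hab⟩, hff⟩ := hE
  refine ⟨⟨a, b, fun i hi => ?_⟩, fun i => ?_⟩
  · haveI := ModuleCat.subsingleton_of_isZero (hab i hi)
    exact ModuleCat.isZero_of_subsingleton (ModuleCat.of A (cutSub E m i))
  · change Module.Finite A (cutSub E m i) ∧ Module.Free A (cutSub E m i)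
    obtain ⟨h1, h2⟩ := hff i
    by_cases hi : m ≤ i
    · have e : cutSub E m i ≃ₗ[A] E.X i :=
        (LinearEquiv.ofEq _ ⊤ (by rw [cutSub, if_pos hi])).trans Submodule.topEquiv
      exact ⟨Module.Finite.equiv e.symm, Module.Free.of_equiv e.symm⟩
    · haveI : Subsingleton (cutSub E m i) := by rw [cutSub, if_neg hi]; infer_instance
      exact ⟨inferInstance, Module.Free.of_subsingleton A _⟩

theorem isIso_homology_cutι {i : ℤ} (hi : m < i) : IsIso (HomologicalComplex.homologyMap (cutι E m) i) := by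
  obtain ⟨p, rfl⟩ : ∃ p, p + 1 = i := ⟨i - 1, sub_add_cancel i 1⟩
  rw [← quasiIsoAt_iff_isIso_homologyMap,
    quasiIsoAt_iff' (cutι E m) p (p + 1) (p + 1 + 1) (by simp) (by simp)]
  haveI := isIso_cutι_f E m (show m ≤ p by omega)
  haveI := isIso_cutι_f E m (show m ≤ p + 1 by omega)
  haveI := isIso_cutι_f E m (show m ≤ p + 1 + 1 by omega)
  let φ := (HomologicalComplex.shortComplexFunctor' (ModuleCat.{u} A) (ComplexShape.up ℤ) p (p + 1) (p + 1 + 1)).map (cutι E m)
  haveI : IsIso φ.τ₁ := ‹IsIso ((cutι E m).f p)›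
  haveI : IsIso φ.τ₂ := ‹IsIso ((cutι E m).f (p + 1))›
  haveI : IsIso φ.τ₃ := ‹IsIso ((cutι E m).f (p + 1 + 1))›
  exact ShortComplex.quasiIso_of_epi_of_isIso_of_mono φ

theorem epi_homology_cutι : Epi (HomologicalComplex.homologyMap (cutι E m) m) := by
  haveI := isIso_cutι_f E m le_rfl
  haveI := isIso_cutι_f E m (show m ≤ m + 1 by omega)
  haveI : Epi (HomologicalComplex.cyclesMap (cutι E m) m) := by
    haveI : IsSplitEpi (HomologicalComplex.cyclesMap (cutι E m) m) :=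
      ⟨⟨(cut E m).liftCycles (E.iCycles m ≫ inv ((cutι E m).f m)) (m + 1) (by simp) (by
          rw [← cancel_mono ((cutι E m).f (m + 1)), Category.assoc, Category.assoc, zero_comp,
            ← (cutι E m).comm m (m + 1), IsIso.inv_hom_id_assoc, E.iCycles_d]),
        by rw [← cancel_mono (E.iCycles m), Category.assoc, HomologicalComplex.cyclesMap_i,
          HomologicalComplex.liftCycles_i_assoc, Category.assoc, IsIso.inv_hom_id, Category.comp_id, Category.id_comp]⟩⟩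
    infer_instance
  exact epi_of_epi_fac (HomologicalComplex.homologyπ_naturality (cutι E m) m)

theorem approx_cut (hE : BFF E) {n : ℤ} (h : n + 1 = m) :
    ∃ (C : Dual.D A) (g : DRing.toD E ⟶ C) (k : C ⟶ (DRing.toD (PseudoCoh.cut E m))⟦(1 : ℤ)⟧),
      Triangle.mk (DerivedCategory.Q.map (cutι E m)) g k ∈ distTriang _ ∧ t.IsLE C n := by
  obtain ⟨C, g, k, hT⟩ := distinguished_cocone_triangle (DerivedCategory.Q.map (cutι E m))
  refine ⟨C, g, k, hT, (isLE_obj₃_iff _ hT m n h).2 ⟨fun i hi => ?_, ?_⟩⟩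
  · haveI := isIso_homology_cutι (E := E) m hi
    exact (NatIso.isIso_map_iff (DerivedCategory.homologyFunctorFactors (ModuleCat.{u} A) i) (cutι E m)).2 this
  · exact ((MorphismProperty.epimorphisms (ModuleCat.{u} A)).arrow_mk_iso_iff
      (Arrow.isoMk ((DerivedCategory.homologyFunctorFactors (ModuleCat.{u} A) m).app _)
        ((DerivedCategory.homologyFunctorFactors (ModuleCat.{u} A) m).app _)
        ((DerivedCategory.homologyFunctorFactors (ModuleCat.{u} A) m).hom.naturality (cutι E m)).symm)).2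
      (epi_homology_cutι (E := E) m)

end Truncation

/-- morphisms from a bounded above projective complex concentrated in degrees `≥ n + 1` to objects `≤ n` vanish -/
theorem eq_zero_of_isLE {P : DRing.Cx A} [CochainComplex.IsKProjective P] {n : ℤ}
    (hP : ∀ i ≤ n, IsZero (P.X i)) {C : Dual.D A} [hC : t.IsLE C n] (f : DRing.toD P ⟶ C) : f = 0 := by
  obtain ⟨L, hL, ⟨e⟩⟩ := C.exists_iso_Q_obj_of_isLE n
  obtain ⟨g, hg⟩ := (CochainComplex.IsKProjective.Qh_map_bijective P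
    ((HomotopyCategory.quotient _ _).obj L)).surjective
    ((quotientCompQhIso (ModuleCat.{u} A)).hom.app P ≫ f ≫ e.hom ≫ (quotientCompQhIso (ModuleCat.{u} A)).inv.app L)
  obtain ⟨g, rfl⟩ := (HomotopyCategory.quotient _ _).map_surjective g
  have h0 : g = 0 := HomologicalComplex.hom_ext _ _ fun i => by
    by_cases hi : i ≤ n
    · exact (hP i hi).eq_of_src _ _
    · exact (L.isZero_of_isStrictlyLE n i (by omega)).eq_of_tgt _ _
  rw [h0, Functor.map_zero, Functor.map_zero] at hg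
  rw [← cancel_epi ((quotientCompQhIso (ModuleCat.{u} A)).hom.app P), ← cancel_mono e.hom,
    ← cancel_mono ((quotientCompQhIso (ModuleCat.{u} A)).inv.app L), Category.assoc, Category.assoc, ← hg]
  simp

/-- the mapping cone of bounded finite free complexes -/
theorem BFF.mappingCone {P Q : DRing.Cx A} (hP : BFF P) (hQ : BFF Q) (f : P ⟶ Q) :
    BFF (CochainComplex.mappingCone f) := by
  obtain ⟨⟨a, b, hab⟩, hPf⟩ := hP
  obtain ⟨⟨a', b', hab'⟩, hQf⟩ := hQ
  have e : ∀ i, Nonempty ((CochainComplex.mappingCone f).X i ≅ ModuleCat.of A (P.X (i + 1) × Q.X i)) := fun i =>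
    ⟨HomologicalComplex.homotopyCofiber.XIsoBiprod f i (i + 1) rfl ≪≫ ModuleCat.biprodIsoProd _ _⟩
  refine ⟨⟨min (a - 1) a', max b b', fun i hi => ?_⟩, fun i => ?_⟩
  · obtain ⟨e⟩ := e i
    haveI := ModuleCat.subsingleton_of_isZero (hab (i + 1) (by omega))
    haveI := ModuleCat.subsingleton_of_isZero (hab' i (by omega))
    exact (ModuleCat.isZero_of_subsingleton (ModuleCat.of A (P.X (i + 1) × Q.X i))).of_iso e
  · obtain ⟨e⟩ := e i
    obtain ⟨h1, h2⟩ := hPf (i + 1)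
    obtain ⟨h3, h4⟩ := hQf i
    haveI h5 : Module.Finite A (ModuleCat.of A (P.X (i + 1) × Q.X i)) :=
      (inferInstance : Module.Finite A (P.X (i + 1) × Q.X i))
    haveI h6 : Module.Free A (ModuleCat.of A (P.X (i + 1) × Q.X i)) :=
      (inferInstance : Module.Free A (P.X (i + 1) × Q.X i))
    exact ⟨Module.Finite.equiv e.toLinearEquiv.symm, Module.Free.of_equiv e.toLinearEquiv.symm⟩

/-- pseudo-coherence of the third vertex -/
theorem approx_obj₃ (T : Triangle (Dual.D A)) (hT : T ∈ distTriang _) (n : ℤ)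
    (h₁ : Approx (n + 1) T.obj₁) (h₂ : Approx n T.obj₂) : Approx n T.obj₃ := by
  obtain ⟨P, C₁, α, a₁, b₁, hP, hT₁, hC₁⟩ := h₁
  obtain ⟨Q, C₂, β, a₂, b₂, hQ, hT₂, hC₂⟩ := h₂
  obtain ⟨C₀, a₀, b₀, hT₀, hC₀⟩ := approx_cut (n + 1 + 1) hP (n := n + 1) rfl
  obtain ⟨C₁', a₁', b₁', hT₁'⟩ := distinguished_cocone_triangle (DerivedCategory.Q.map (cutι P (n + 1 + 1)) ≫ α)
  have hC₁' : t.IsLE C₁' (n + 1) := isLE_cone_comp hT₀ hT₁ hT₁' (n + 1) hC₀ hC₁
  haveI := (hP.cut (n + 1 + 1)).isKProjective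
  have hC₂' : t.IsLE C₂ (n + 1) := t.isLE_of_le C₂ n (n + 1)
  obtain ⟨(γ : DRing.toD (cut P (n + 1 + 1)) ⟶ DRing.toD Q), hγ⟩ := Triangle.coyoneda_exact₂ _ hT₂
    ((DerivedCategory.Q.map (cutι P (n + 1 + 1)) ≫ α) ≫ T.mor₁)
    (eq_zero_of_isLE (fun i hi => cut_isZero P _ (by omega)) (hC := hC₂') _)
  obtain ⟨g, hg⟩ := (CochainComplex.IsKProjective.Qh_map_bijective (cut P (n + 1 + 1))
    ((HomotopyCategory.quotient _ _).obj Q)).surjective
    ((quotientCompQhIso (ModuleCat.{u} A)).hom.app _ ≫ γ ≫ (quotientCompQhIso (ModuleCat.{u} A)).inv.app Q)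
  obtain ⟨g, rfl⟩ := (HomotopyCategory.quotient _ _).map_surjective g
  have hgγ : DerivedCategory.Q.map g = γ := by
    have e := (quotientCompQhIso (ModuleCat.{u} A)).hom.naturality g
    change DerivedCategory.Qh.map ((HomotopyCategory.quotient (ModuleCat.{u} A) (ComplexShape.up ℤ)).map g) ≫ _ = _ at e
    rw [hg, Category.assoc, Category.assoc, Iso.inv_hom_id_app] at e
    rw [← cancel_epi ((quotientCompQhIso (ModuleCat.{u} A)).hom.app (cut P (n + 1 + 1))), ← e]
    exact congrArg _ (Category.comp_id γ)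
  subst hgγ
  obtain ⟨N, aN, bN, hTN⟩ := distinguished_cocone_triangle
    ((DerivedCategory.Q.map (cutι P (n + 1 + 1)) ≫ α) ≫ T.mor₁)
  have hTS := DerivedCategory.mappingCone_triangle_distinguished g
  have o₁ := Triangulated.someOctahedron (u₁₃ := (DerivedCategory.Q.map (cutι P (n + 1 + 1)) ≫ α) ≫ T.mor₁)
    hγ.symm hTS hT₂ hTN
  have o₂ := Triangulated.someOctahedron (u₁₃ := (DerivedCategory.Q.map (cutι P (n + 1 + 1)) ≫ α) ≫ T.mor₁)
    rfl hT₁' (show Triangle.mk T.mor₁ T.mor₂ T.mor₃ ∈ distTriang _ from hT) hTN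
  have hM := rot_of_distTriang _ o₂.mem
  obtain ⟨C, c, d, hTC⟩ := distinguished_cocone_triangle (o₁.m₁ ≫ o₂.m₃)
  exact ⟨CochainComplex.mappingCone g, C, o₁.m₁ ≫ o₂.m₃, c, d, (hP.cut _).mappingCone hQ g, hTC,
    isLE_cone_comp o₁.mem hM hTC n hC₂ (t.isLE_shift C₁' (n + 1) 1 n (by omega))⟩

lemma isIso_units_smul_id (u : ℤˣ) (X : ModuleCat.{u} A) : IsIso (u • 𝟙 X) :=
  ⟨⟨u • 𝟙 X, by simp [smul_smul], by simp [smul_smul]⟩⟩

lemma isIso_of_units_smul {X Y : ModuleCat.{u} A} (u : ℤˣ) (f : X ⟶ Y) (h : IsIso (u • f)) : IsIso f := by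
  haveI := isIso_units_smul_id u Y
  rw [show f = (u • f) ≫ (u • 𝟙 Y) by simp [smul_smul]]
  infer_instance

lemma epi_of_units_smul {X Y : ModuleCat.{u} A} (u : ℤˣ) (f : X ⟶ Y) (h : Epi (u • f)) : Epi f := by
  haveI := isIso_units_smul_id u Y
  rw [show f = (u • f) ≫ (u • 𝟙 Y) by simp [smul_smul]]
  infer_instance

theorem approx_shift {n : ℤ} {K : Dual.D A} (a n' : ℤ) (h : a + n' = n) (hK : Approx n K) : Approx n' (K⟦a⟧) := by
  obtain ⟨E, C, α, g, k, hE, hT, hC⟩ := hK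
  obtain ⟨⟨p, q, hpq⟩, hff⟩ := hE
  have hE' : BFF (E⟦a⟧) := ⟨⟨p - a, q - a, fun i hi => (hpq (i + a) (by omega)).of_iso (Iso.refl _)⟩,
    fun i => hff (i + a)⟩
  have hS := Triangle.shift_distinguished _ hT a
  let β : DRing.toD (E⟦a⟧) ⟶ K⟦a⟧ := (DerivedCategory.Q.commShiftIso a).hom.app E ≫ α⟦a⟧'
  obtain ⟨C', g', k', hT'⟩ := distinguished_cocone_triangle β
  refine ⟨E⟦a⟧, C', β, g', k', hE', hT', ?_⟩
  have hC₀ : t.IsLE (C⟦a⟧) n' := t.isLE_shift C n a n' h
  refine (isLE_obj₃_iff _ hT' (n' + 1) n' rfl).2 ?_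
  obtain ⟨h1, h2⟩ := (isLE_obj₃_iff _ hS (n' + 1) n' rfl).1 hC₀
  change (∀ i, n' + 1 < i → IsIso ((Hm i).map β)) ∧ Epi ((Hm (n' + 1)).map β)
  refine ⟨fun i hi => ?_, ?_⟩
  · have h3 := h1 i hi
    change IsIso ((Hm i).map (a.negOnePow • α⟦a⟧')) at h3
    rw [Functor.map_units_smul] at h3
    haveI := isIso_of_units_smul _ _ h3
    rw [Functor.map_comp]
    infer_instance
  · change Epi ((Hm (n' + 1)).map (a.negOnePow • α⟦a⟧')) at h2
    rw [Functor.map_units_smul] at h2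
    haveI := epi_of_units_smul _ _ h2
    rw [Functor.map_comp]
    infer_instance

theorem approx_shift_iff {n : ℤ} {K : Dual.D A} (a n' : ℤ) (h : a + n' = n) : Approx n' (K⟦a⟧) ↔ Approx n K :=
  ⟨fun hK => approx_of_iso ((shiftEquiv (Dual.D A) a).unitIso.symm.app K) (approx_shift (-a) n (by omega) hK),
    approx_shift a n' h⟩

/-- pseudo-coherence of the middle vertex -/
theorem approx_obj₂ (T : Triangle (Dual.D A)) (hT : T ∈ distTriang _) (n : ℤ)
    (h₁ : Approx n T.obj₁) (h₃ : Approx n T.obj₃) : Approx n T.obj₂ :=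
  approx_obj₃ _ (inv_rot_of_distTriang _ hT) n (approx_shift (-1) (n + 1) (by omega) h₃) h₁

/-- pseudo-coherence of the first vertex -/
theorem approx_obj₁ (T : Triangle (Dual.D A)) (hT : T ∈ distTriang _) (n : ℤ)
    (h₂ : Approx (n + 1) T.obj₂) (h₃ : Approx n T.obj₃) : Approx (n + 1) T.obj₁ :=
  (approx_shift_iff 1 n (by omega)).1 (approx_obj₃ _ (rot_of_distTriang _ hT) n h₂ h₃)

end Groth.Agent.PseudoCoh
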