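import Groth.Agent.PseudoCoh.Basic

/-!
# Direct summands of pseudo-coherent objects
-/

set_option autoImplicit false

universe u

open CategoryTheory CategoryTheory.Limits CategoryTheory.Pretriangulated DerivedCategory DerivedCategory.TStructure

attribute [local instance] HasDerivedCategory.standard

noncomputable section

namespace Groth.Agent.PseudoCoh

variable {A : Type u} [CommRing A]

open scoped ZeroObject in
theorem approx_of_isLE {K : Dual.D A} {n : ℤ} (h : t.IsLE K n) : Approx n K := by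
  haveI := ModuleCat.subsingleton_of_isZero (isZero_zero (ModuleCat.{u} A))
  have hz : IsZero (0 : DRing.Cx A) := isZero_zero _
  have hX : ∀ i, IsZero ((0 : DRing.Cx A).X i) := fun i =>
    (HomologicalComplex.eval (ModuleCat.{u} A) (ComplexShape.up ℤ) i).map_isZero hz
  have hQ : IsZero (DRing.toD (0 : DRing.Cx A)) := DerivedCategory.Q.map_isZero hz
  refine ⟨0, K, 0, 𝟙 K, 0, ⟨⟨0, 0, fun i _ => hX i⟩, fun i => ?_⟩,
    isomorphic_distinguished _ (contractible_distinguished₁ K) _
      (Triangle.isoMk _ _ hQ.isoZero (Iso.refl _) (Iso.refl _) (hQ.eq_of_src _ _) (by simp [Triangle.mk])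
        ((zero_comp : (0 : K ⟶ (DRing.toD (0 : DRing.Cx A))⟦(1 : ℤ)⟧) ≫ _ = 0).trans comp_zero.symm)), h⟩
  haveI := ModuleCat.subsingleton_of_isZero (hX i)
  exact ⟨inferInstance, Module.Free.of_subsingleton A _⟩

theorem exists_isLE {K : Dual.D A} {n : ℤ} (h : Approx n K) : ∃ N : ℤ, t.IsLE K N := by
  obtain ⟨E, C, α, g, k, ⟨⟨a, b, hab⟩, -⟩, hT, hC⟩ := h
  haveI : E.IsStrictlyLE b := (E.isStrictlyLE_iff b).2 fun i hi => hab i (Or.inr hi)
  haveI : t.IsLE (DRing.toD E) b := (inferInstance : (DerivedCategory.Q.obj E).IsLE b)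
  exact ⟨max n b, t.isLE₂ _ hT (max n b) (t.isLE_of_le (DRing.toD E) b (max n b) (le_max_right n b))
    (t.isLE_of_le C n _ (le_max_left n b))⟩

/-- a direct summand of an `m`-pseudo-coherent object is one -/
theorem approx_biprod_left {n : ℤ} {K L : Dual.D A} [HasBinaryBiproduct K L] (h : Approx n (K ⊞ L)) :
    Approx n K := by
  obtain ⟨N, hN⟩ := exists_isLE h
  have hN' : t.IsLE K N := by
    rw [t.isLE_iff_orthogonal N (N + 1) rfl]
    intro Y f hY
    rw [← Category.id_comp f, ← biprod.inl_fst (X := K) (Y := L), Category.assoc,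
      t.zero (biprod.fst ≫ f : K ⊞ L ⟶ Y) N (N + 1), comp_zero]
  have h1 := rot_of_distTriang _ (binaryBiproductTriangle_distinguished K L)
  have hinr : Triangle.mk (biprod.inr : L ⟶ K ⊞ L) biprod.fst 0 ∈ distTriang _ :=
    isomorphic_distinguished _ (binaryBiproductTriangle_distinguished L K) _
      (Triangle.isoMk _ _ (Iso.refl L) (biprod.braiding K L) (Iso.refl K)
        (show biprod.inr ≫ (biprod.braiding K L).hom = 𝟙 L ≫ biprod.inl by apply biprod.hom_ext <;> simp)
        (show biprod.fst ≫ 𝟙 K = (biprod.braiding K L).hom ≫ biprod.snd by simp)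
        (show (0 : K ⟶ L⟦(1 : ℤ)⟧) ≫ (𝟙 L)⟦(1 : ℤ)⟧' = 𝟙 K ≫ (0 : K ⟶ L⟦(1 : ℤ)⟧) by simp))
  obtain ⟨C, a, b, hT⟩ := distinguished_cocone_triangle ((biprod.snd : K ⊞ L ⟶ L) ≫ (biprod.inr : L ⟶ K ⊞ L))
  have o := Triangulated.someOctahedron rfl
    (show Triangle.mk (biprod.snd : K ⊞ L ⟶ L) _ _ ∈ distTriang _ from h1) hinr hT
  have key : ∀ j : ℕ, ∀ r, n ≤ r → N - j ≤ r → Approx r K := by
    intro j
    induction j with
    | zero => exact fun r _ hr => approx_mono (by omega) (approx_of_isLE hN')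
    | succ j ih =>
      intro r hr hr'
      have hK1 : Approx (r + 1) (K⟦(1 : ℤ)⟧) := approx_shift 1 (r + 1) rfl (ih (1 + (r + 1)) (by omega) (by omega))
      have hC : Approx r C := approx_obj₃ _ hT r (approx_mono (by omega) h) (approx_mono hr h)
      exact approx_obj₃ _ o.mem r hK1 hC
  exact key (N - n).toNat n le_rfl (by omega)

theorem approx_biprod {n : ℤ} {K L : Dual.D A} [HasBinaryBiproduct K L] (h : Approx n (K ⊞ L)) :
    Approx n K ∧ Approx n L :=
  ⟨approx_biprod_left h, approx_biprod_left (approx_of_iso (biprod.braiding K L) h)⟩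

end Groth.Agent.PseudoCoh
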