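import Groth.Agent.PseudoCoh.Criteria
import Mathlib.RingTheory.Noetherian.Basic
import Mathlib.Algebra.Homology.DerivedCategory.FullyFaithful

/-!
# Pseudo-coherence from finiteness of cohomology
-/

set_option autoImplicit false

universe u

open CategoryTheory CategoryTheory.Limits CategoryTheory.Pretriangulated DerivedCategory DerivedCategory.TStructure

attribute [local instance] HasDerivedCategory.standard

noncomputable section

namespace Groth.Agent.PseudoCoh

variable {A : Type u} [CommRing A]

local notation "Hm" => DerivedCategory.homologyFunctor (ModuleCat A)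

lemma finite_of_exact {S : ShortComplex (ModuleCat.{u} A)} (hS : S.Exact) (h1 : Module.Finite A S.X₁)
    (h3 : Module.Finite A (LinearMap.range S.g.hom)) : Module.Finite A S.X₂ := by
  haveI := h1; haveI := h3
  haveI : Module.Finite A (LinearMap.ker S.g.hom) := by
    rw [← hS.moduleCat_range_eq_ker]; infer_instance
  haveI : Module.Finite A (S.X₂ ⧸ LinearMap.ker S.g.hom) :=
    Module.Finite.equiv S.g.hom.quotKerEquivRange.symm
  exact Module.Finite.of_submodule_quotient (LinearMap.ker S.g.hom)

/-- one step of the approximation -/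
theorem approx_pred {n m l : ℤ} (h : n + 1 = m) (h' : m + 1 = l) {K : Dual.D A}
    (hK : Approx m K) (hfin : Module.Finite A ((Hm m).obj K))
    (hker : ∀ E : DRing.Cx A, BFF E → ∀ f : DRing.toD E ⟶ K,
      (∀ i, l < i → IsIso ((Hm i).map f)) → Epi ((Hm l).map f) →
      Module.Finite A (LinearMap.ker ((Hm l).map f).hom)) : Approx n K := by
  obtain ⟨E, C, α, g, k, hE, hT, hC⟩ := hK
  obtain ⟨h1, h2⟩ := (isLE_obj₃_iff _ hT l m h').1 hC
  haveI : Module.Finite A ((Hm m).obj C) := by
    refine finite_of_exact (HomologySequence.exact₃ _ hT m l h') hfin ?_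
    have hr : LinearMap.range (HomologySequence.δ (Triangle.mk α g k) m l h').hom = LinearMap.ker ((Hm l).map α).hom :=
      (HomologySequence.exact₁ _ hT m l h').moduleCat_range_eq_ker
    exact Module.Finite.iff_fg.2 (hr.symm ▸ Module.Finite.iff_fg.1 (hker E hE α h1 h2))
  exact approx_obj₂ _ hT n (approx_toD hE n) (approx_of_finite (hC := hC) h ‹_›)

theorem approx_of_finitePresentation {n m l : ℤ} (h : n + 1 = m) (h' : m + 1 = l) {K : Dual.D A} [hK : t.IsLE K l]
    (hfin : Module.Finite A ((Hm m).obj K)) (hfp : Module.FinitePresentation A ((Hm l).obj K)) : Approx n K := by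
  refine approx_pred h h' (approx_of_finite h' (haveI := hfp; inferInstance)) hfin fun E hE f h1 h2 => ?_
  have hx : ∀ i, l < i → E.ExactAt i := fun i hi => by
    rw [HomologicalComplex.exactAt_iff_isZero_homology]
    exact ((isZero_of_isLE K l i hi).of_iso (@asIso _ _ _ _ ((Hm i).map f) (h1 i hi))).of_iso
      ((DerivedCategory.homologyFunctorFactors (ModuleCat.{u} A) i).app E).symm
  haveI : Module.Finite A ((Hm l).obj (DRing.toD E)) :=
    haveI : Module.Finite A ((HomologicalComplex.homologyFunctor (ModuleCat.{u} A) (ComplexShape.up ℤ) l).obj E) :=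
      (homology_finite hE l hx).1
    Module.Finite.equiv ((DerivedCategory.homologyFunctorFactors (ModuleCat.{u} A) l).app E).toLinearEquiv.symm
  haveI := hfp
  exact Module.Finite.iff_fg.2 (Module.FinitePresentation.fg_ker ((Hm l).map f).hom ((ModuleCat.epi_iff_surjective _).1 h2))

theorem finite_homology_noetherian [IsNoetherianRing A] {E : DRing.Cx A} (hE : BFF E) (i : ℤ) :
    Module.Finite A ((Hm i).obj (DRing.toD E)) := by
  obtain ⟨m, rfl⟩ : ∃ m, m + 1 = i := ⟨i - 1, sub_add_cancel i 1⟩
  let S := E.sc' m (m + 1) (m + 1 + 1)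
  haveI : Module.Finite A S.X₂ := (hE.ff (m + 1)).1
  haveI : Module.Finite A S.moduleCatLeftHomologyData.H :=
    (inferInstance : Module.Finite A (LinearMap.ker S.g.hom ⧸ LinearMap.range S.moduleCatToCycles))
  exact Module.Finite.equiv ((DerivedCategory.homologyFunctorFactors (ModuleCat.{u} A) (m + 1)).app E ≪≫
    ShortComplex.homologyMapIso (E.isoSc' m (m + 1) (m + 1 + 1) (by simp) (by simp)) ≪≫
    S.moduleCatHomologyIso).toLinearEquiv.symm

theorem approx_noetherian_iff [IsNoetherianRing A] {n m : ℤ} (h : n + 1 = m) (K : Dual.D A) :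
    Approx n K ↔ (∃ b, t.IsLE K b) ∧ ∀ i, m ≤ i → Module.Finite A ((Hm i).obj K) := by
  subst h
  constructor
  · refine fun hK => ⟨exists_isLE hK, fun i hi => ?_⟩
    obtain ⟨E, C, α, g, k, hE, hT, hC⟩ := hK
    obtain ⟨h1, h2⟩ := (isLE_obj₃_iff _ hT (n + 1) n rfl).1 hC
    haveI := finite_homology_noetherian hE i
    refine Module.Finite.of_surjective ((Hm i).map α).hom ((ModuleCat.epi_iff_surjective _).1 ?_)
    rcases hi.lt_or_eq with hi' | rfl
    · haveI : IsIso ((Hm i).map α) := h1 i hi'
      infer_instance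
    · exact h2
  · rintro ⟨⟨b, hb⟩, hfin⟩
    suffices key : ∀ (j : ℕ) (p : ℤ), n ≤ p → b ≤ p + j → Approx p K from key (b - n).toNat n le_rfl (by omega)
    intro j
    induction j with
    | zero => exact fun p _ hp => approx_mono (show b ≤ p by omega) (approx_of_isLE hb)
    | succ j ih =>
      intro p hp hp'
      refine approx_pred rfl rfl (ih (p + 1) (by omega) (by omega)) (hfin _ (by omega)) fun E hE f _ _ => ?_
      haveI := finite_homology_noetherian hE (p + 1 + 1)
      infer_instance

end Groth.Agent.PseudoCoh
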