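import Groth.Agent.PseudoCoh.Devissage
import Groth.Agent.PseudoCoh.Finite
import Mathlib.Algebra.Module.FinitePresentation
import Mathlib.Algebra.Homology.DerivedCategory.SingleTriangle

/-!
# Pseudo-coherence over coherent rings
-/

set_option autoImplicit false

universe u

open CategoryTheory CategoryTheory.Limits CategoryTheory.Pretriangulated DerivedCategory DerivedCategory.TStructure

attribute [local instance] HasDerivedCategory.standard

noncomputable section

namespace Groth.Agent.PseudoCoh

variable {A : Type u} [CommRing A]

local notation "Hm" => DerivedCategory.homologyFunctor (ModuleCat A)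

lemma isLE_inD (M : Type u) [AddCommGroup M] [Module A M] : t.IsLE (Dual.inD A M) 0 :=
  (DerivedCategory.isLE_iff _ 0).2 fun i hi =>
    DerivedCategory.isZero_of_isLE ((DerivedCategory.singleFunctor (ModuleCat.{u} A) 0).obj (ModuleCat.of A M)) 0 i hi

/-- finite projective modules are pseudo-coherent -/
theorem approx_inD_of_projective (M : Type u) [AddCommGroup M] [Module A M] [Module.Finite A M] [Module.Projective A M]
    (n : ℤ) : Approx n (Dual.inD A M) := by
  let E : DRing.Cx A := (HomologicalComplex.single (ModuleCat.{u} A) (ComplexShape.up ℤ) 0).obj (ModuleCat.of A M)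
  refine approx_of_iso ((DerivedCategory.singleFunctorIsoCompQ (ModuleCat.{u} A) 0).app (ModuleCat.of A M)).symm
    (forall_approx_of_projective (E := E) 0 (fun i hi => HomologicalComplex.isZero_single_obj_X _ _ _ _ hi.ne') (fun i => ?_) n)
  rcases eq_or_ne i 0 with rfl | hi
  · let e := (HomologicalComplex.singleObjXSelf (ComplexShape.up ℤ) (0 : ℤ) (ModuleCat.of A M)).toLinearEquiv
    exact ⟨Module.Finite.equiv e.symm, Module.Projective.of_equiv e.symm⟩
  · haveI := ModuleCat.subsingleton_of_isZero (HomologicalComplex.isZero_single_obj_X (ComplexShape.up ℤ) (0 : ℤ)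
      (ModuleCat.of A M) i hi)
    haveI := Module.Free.of_subsingleton A (E.X i)
    exact ⟨inferInstance, Module.Projective.of_free⟩

lemma fp_of_injective {M N : Type u} [AddCommGroup M] [Module A M] [AddCommGroup N] [Module A N] (g : M →ₗ[A] N)
    (hg : Function.Injective g) (h : Module.FinitePresentation A (LinearMap.range g)) : Module.FinitePresentation A M :=
  Module.FinitePresentation.of_equiv (LinearEquiv.ofInjective g hg).symm

variable (hA : ∀ I : Ideal A, I.FG → Module.FinitePresentation A I)

include hA in
theorem fp_of_finite_inj (r : ℕ) : ∀ (M : Type u) [AddCommGroup M] [Module A M] [Module.Finite A M]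
    (g : M →ₗ[A] (Fin r → A)), Function.Injective g → Module.FinitePresentation A M := by
  induction r with
  | zero =>
    intro M _ _ _ g hg
    haveI := hg.subsingleton
    infer_instance
  | succ r ih =>
    intro M _ _ _ g hg
    let f : M →ₗ[A] A := LinearMap.proj 0 ∘ₗ g
    haveI : Module.FinitePresentation A (LinearMap.range f) :=
      hA (LinearMap.range f) (Module.Finite.iff_fg.1 inferInstance)
    haveI : Module.Finite A (LinearMap.ker f.rangeRestrict) :=
      Module.Finite.iff_fg.2 (Module.FinitePresentation.fg_ker f.rangeRestrict f.surjective_rangeRestrict)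
    haveI := ih (LinearMap.ker f.rangeRestrict)
      (LinearMap.funLeft A A (Fin.succ : Fin r → Fin (r + 1)) ∘ₗ g ∘ₗ (LinearMap.ker f.rangeRestrict).subtype)
      fun x y h => by
        refine Subtype.ext (hg (funext fun i => ?_))
        cases i using Fin.cases with
        | zero => exact (congrArg Subtype.val x.2).trans (congrArg Subtype.val y.2).symm
        | succ j => exact congrFun h j
    exact Module.finitePresentation_of_ker f.rangeRestrict f.surjective_rangeRestrict

include hA in
theorem fp_of_fg_pi (r : ℕ) (N : Submodule A (Fin r → A)) (hN : N.FG) : Module.FinitePresentation A N :=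
  haveI : Module.Finite A N := Module.Finite.iff_fg.2 hN
  fp_of_finite_inj hA r N N.subtype N.injective_subtype

include hA in
/-- finitely generated submodules of finitely presented modules are finitely presented -/
theorem fp_of_fg {M : Type u} [AddCommGroup M] [Module A M] [Module.FinitePresentation A M] (N : Submodule A M)
    (hN : N.FG) : Module.FinitePresentation A N := by
  obtain ⟨r, π, hπ⟩ := Module.Finite.exists_fin' A M
  have hk : (LinearMap.ker π).FG := Module.FinitePresentation.fg_ker π hπ
  have hc : (N.comap π).FG := by
    refine Submodule.fg_of_fg_map_of_fg_inf_ker π ?_ ?_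
    · rw [Submodule.map_comap_eq_of_surjective hπ]; exact hN
    · rwa [inf_eq_right.2 (LinearMap.ker_le_comap π)]
  haveI := fp_of_fg_pi hA r _ hc
  let f : N.comap π →ₗ[A] N := π.restrict fun x hx => hx
  refine Module.finitePresentation_of_surjective f (fun y => ?_) ?_
  · obtain ⟨x, hx⟩ := hπ y.1
    exact ⟨⟨x, by rw [Submodule.mem_comap, hx]; exact y.2⟩, Subtype.ext hx⟩
  · have hf : (LinearMap.ker f).map (N.comap π).subtype = LinearMap.ker π := by
      ext x
      constructor
      · rintro ⟨y, hy, rfl⟩
        exact congrArg Subtype.val hy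
      · intro hx
        exact ⟨⟨x, by rw [Submodule.mem_comap, hx]; exact zero_mem N⟩, Subtype.ext hx, rfl⟩
    exact Submodule.fg_of_fg_map_injective _ (N.comap π).injective_subtype (hf.symm ▸ hk)

include hA in
theorem fp_ker {M N : Type u} [AddCommGroup M] [Module A M] [AddCommGroup N] [Module A N]
    [Module.FinitePresentation A M] [Module.FinitePresentation A N] (f : M →ₗ[A] N) :
    Module.FinitePresentation A (LinearMap.ker f) := by
  haveI := fp_of_fg hA (LinearMap.range f) (Module.Finite.iff_fg.1 inferInstance)
  refine fp_of_fg hA _ ?_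
  rw [← LinearMap.ker_rangeRestrict]
  exact Module.FinitePresentation.fg_ker f.rangeRestrict f.surjective_rangeRestrict

include hA in
theorem fp_homology {E : DRing.Cx A} (hE : BFF E) (i : ℤ) : Module.FinitePresentation A ((Hm i).obj (DRing.toD E)) := by
  obtain ⟨m, rfl⟩ : ∃ m, m + 1 = i := ⟨i - 1, sub_add_cancel i 1⟩
  let S := E.sc' m (m + 1) (m + 1 + 1)
  haveI hfp : ∀ j, Module.FinitePresentation A (E.X j) := fun j => by
    haveI := (hE.ff j).1; haveI := (hE.ff j).2
    exact Module.finitePresentation_of_projective A _
  haveI : Module.FinitePresentation A S.X₂ := hfp (m + 1)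
  haveI : Module.FinitePresentation A S.X₃ := hfp (m + 1 + 1)
  haveI : Module.Finite A S.X₁ := (hE.ff m).1
  haveI := fp_ker hA S.g.hom
  haveI : Module.FinitePresentation A S.moduleCatLeftHomologyData.H :=
    (Module.finitePresentation_of_surjective _ (Submodule.mkQ_surjective _) (by
      rw [Submodule.ker_mkQ]
      exact Module.Finite.iff_fg.1 inferInstance) :
      Module.FinitePresentation A (LinearMap.ker S.g.hom ⧸ LinearMap.range S.moduleCatToCycles))
  exact Module.FinitePresentation.of_equiv ((DerivedCategory.homologyFunctorFactors (ModuleCat.{u} A) (m + 1)).app E ≪≫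
    ShortComplex.homologyMapIso (E.isoSc' m (m + 1) (m + 1 + 1) (by simp) (by simp)) ≪≫
    S.moduleCatHomologyIso).toLinearEquiv.symm

include hA in
/-- finitely presented modules over a coherent ring are pseudo-coherent -/
theorem approx_inD_fp (M : Type u) [AddCommGroup M] [Module A M] [Module.FinitePresentation A M] (n : ℤ) :
    Approx n (Dual.inD A M) := by
  suffices key : ∀ (k : ℕ) (M : Type u) [AddCommGroup M] [Module A M] [Module.FinitePresentation A M],
      Approx (-(k : ℤ)) (Dual.inD A M) from approx_mono (show -((-n).toNat : ℤ) ≤ n by omega) (key (-n).toNat M)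
  intro k
  induction k with
  | zero => exact fun M _ _ _ => approx_of_isLE (by simpa using isLE_inD (A := A) M)
  | succ k ih =>
    intro M _ _ _
    obtain ⟨r, π, hπ⟩ := Module.Finite.exists_fin' A M
    haveI := fp_ker hA π
    let S : ShortComplex (ModuleCat.{u} A) := ShortComplex.mk (ModuleCat.ofHom (LinearMap.ker π).subtype) (ModuleCat.ofHom π)
      (ModuleCat.hom_ext (LinearMap.ext fun x => x.2))
    have hS : S.ShortExact :=
      { exact := (ShortComplex.moduleCat_exact_iff _).2 fun x hx => ⟨⟨x, hx⟩, rfl⟩
        mono_f := (ModuleCat.mono_iff_injective _).2 (LinearMap.ker π).subtype_injective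
        epi_g := (ModuleCat.epi_iff_surjective _).2 hπ }
    refine approx_obj₃ _ hS.singleTriangle_distinguished _ ?_ (approx_inD_of_projective (Fin r → A) _)
    rw [show -((k + 1 : ℕ) : ℤ) + 1 = -(k : ℤ) by push_cast; ring]
    exact ih (LinearMap.ker π)

end Groth.Agent.PseudoCoh
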