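import Groth.Agent.PseudoCoh.Resolution

/-!
# Criteria for pseudo-coherence
-/

set_option autoImplicit false

universe u

open CategoryTheory CategoryTheory.Limits CategoryTheory.Pretriangulated DerivedCategory DerivedCategory.TStructure

attribute [local instance] HasDerivedCategory.standard

noncomputable section

namespace Groth.Agent.PseudoCoh

variable {A : Type u} [CommRing A]

local notation "Hm" => DerivedCategory.homologyFunctor (ModuleCat A)

/-- `C ≤ n` with finitely generated `H^n` is approximated up to `n - 1` -/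
theorem approx_of_finite {C : Dual.D A} {n m : ℤ} (h : n + 1 = m) [hC : t.IsLE C m]
    (hfin : Module.Finite A ((Hm m).obj C)) : Approx n C := by
  obtain ⟨L, hL, ⟨e⟩⟩ := C.exists_iso_Q_obj_of_isLE m
  haveI : Module.Finite A (L.homology m) :=
    haveI := hfin
    Module.Finite.equiv ((Hm m).mapIso e ≪≫ (DerivedCategory.homologyFunctorFactors (ModuleCat.{u} A) m).app L).toLinearEquiv
  have hz : L.d m (m + 1) = 0 := (L.isZero_of_isStrictlyLE m (m + 1) (by omega)).eq_of_tgt _ _
  haveI := L.isIso_iCycles m (m + 1) (by simp) hz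
  let π' : L.X m ⟶ L.homology m := CategoryTheory.inv (L.iCycles m) ≫ L.homologyπ m
  obtain ⟨r, g, hg⟩ := Module.Finite.exists_fin' A (L.homology m)
  haveI : Projective (ModuleCat.of A (Fin r → A)) :=
    ModuleCat.projective_of_free (M := ModuleCat.of A (Fin r → A)) (Pi.basisFun A (Fin r))
  let ψ : ModuleCat.of A (Fin r → A) ⟶ L.X m := Projective.factorThru (ModuleCat.ofHom g) π'
  let E : DRing.Cx A := (HomologicalComplex.single (ModuleCat.{u} A) (ComplexShape.up ℤ) m).obj (ModuleCat.of A (Fin r → A))
  have hEX : ∀ i, i ≠ m → IsZero (E.X i) := fun i hi => HomologicalComplex.isZero_single_obj_X _ _ _ _ hi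
  have hE : BFF E := by
    refine ⟨⟨m, m, fun i hi => hEX i (by omega)⟩, fun i => ?_⟩
    rcases eq_or_ne i m with rfl | hi
    · let e' := (HomologicalComplex.singleObjXSelf (ComplexShape.up ℤ) i (ModuleCat.of A (Fin r → A))).toLinearEquiv
      exact ⟨Module.Finite.equiv e'.symm, Module.Free.of_equiv e'.symm⟩
    · haveI := ModuleCat.subsingleton_of_isZero (hEX i hi)
      exact ⟨inferInstance, Module.Free.of_subsingleton A _⟩
  let f : E ⟶ L := HomologicalComplex.mkHomFromSingle ψ fun j hj => by
    obtain rfl : m + 1 = j := hj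
    rw [hz, comp_zero]
  obtain ⟨C', a, b, hT⟩ := distinguished_cocone_triangle (DerivedCategory.Q.map f)
  refine approx_of_iso e.symm ⟨E, C', DerivedCategory.Q.map f, a, b, hE, hT, (isLE_obj₃_iff _ hT m n h).2 ⟨fun i hi => ?_, ?_⟩⟩
  · have h1 : IsIso (HomologicalComplex.homologyMap f i) := by
      refine ⟨0, ?_, ?_⟩
      · exact (HomologicalComplex.ExactAt.isZero_homology (HomologicalComplex.exactAt_single_obj _ _ _ _ (by omega))).eq_of_src _ _
      · exact (L.exactAt_of_isLE m i (by omega)).isZero_homology.eq_of_src _ _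
    exact (NatIso.isIso_map_iff (DerivedCategory.homologyFunctorFactors (ModuleCat.{u} A) i) f).2 h1
  · have h1 : Epi (HomologicalComplex.homologyMap f m) := by
      have hπ : ψ ≫ π' = ModuleCat.ofHom g := Projective.factorThru_comp _ _
      haveI : Epi (ψ ≫ π') := (ModuleCat.epi_iff_surjective _).2 (by rw [hπ]; exact hg)
      have hEz : E.d m (m + 1) = 0 := (hEX (m + 1) (by omega)).eq_of_tgt _ _
      haveI := E.isIso_iCycles m (m + 1) (by simp) hEz
      refine epi_of_epi_fac (f := CategoryTheory.inv (E.iCycles m) ≫ E.homologyπ m)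
        (h := (HomologicalComplex.singleObjXSelf (ComplexShape.up ℤ) m (ModuleCat.of A (Fin r → A))).hom ≫ ψ ≫ π') ?_
      have hc : HomologicalComplex.cyclesMap f m ≫ L.iCycles m = E.iCycles m ≫ f.f m := HomologicalComplex.cyclesMap_i f m
      rw [Category.assoc, HomologicalComplex.homologyπ_naturality, (IsIso.eq_comp_inv _).2 hc]
      simp [π', f]
    exact ((MorphismProperty.epimorphisms (ModuleCat.{u} A)).arrow_mk_iso_iff
      (Arrow.isoMk ((DerivedCategory.homologyFunctorFactors (ModuleCat.{u} A) m).app _)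
        ((DerivedCategory.homologyFunctorFactors (ModuleCat.{u} A) m).app _)
        ((DerivedCategory.homologyFunctorFactors (ModuleCat.{u} A) m).hom.naturality f).symm)).2 h1

open scoped ZeroObject in
theorem approx_toD {E : DRing.Cx A} (hE : BFF E) (n : ℤ) : Approx n (DRing.toD E) :=
  ⟨E, 0, 𝟙 _, 0, 0, hE, contractible_distinguished _, t.isLE_of_isZero (isZero_zero _) _⟩

open scoped ZeroObject in
theorem forall_approx_of_pc' {K : Dual.D A} (hK : DRing.IsPseudoCoherent' A K) (n : ℤ) : Approx n K := by
  obtain ⟨E, b, hb, hff, ⟨e⟩⟩ := hK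
  refine approx_of_iso e ?_
  have hE : BFF (cut E (n + 1)) := by
    refine ⟨⟨n + 1, b, fun i hi => ?_⟩, fun i => ?_⟩
    · rcases hi with hi | hi
      · exact cut_isZero E _ hi
      · haveI := ModuleCat.subsingleton_of_isZero (hb i hi)
        exact ModuleCat.isZero_of_subsingleton (ModuleCat.of A (cutSub E (n + 1) i))
    · change Module.Finite A (cutSub E (n + 1) i) ∧ Module.Free A (cutSub E (n + 1) i)
      obtain ⟨h1, h2⟩ := hff i
      by_cases hi : n + 1 ≤ i
      · have e : cutSub E (n + 1) i ≃ₗ[A] E.X i :=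
          (LinearEquiv.ofEq _ ⊤ (by rw [cutSub, if_pos hi])).trans Submodule.topEquiv
        exact ⟨Module.Finite.equiv e.symm, Module.Free.of_equiv e.symm⟩
      · haveI : Subsingleton (cutSub E (n + 1) i) := by rw [cutSub, if_neg hi]; infer_instance
        exact ⟨inferInstance, Module.Free.of_subsingleton A _⟩
  obtain ⟨C, g, k, hT⟩ := distinguished_cocone_triangle (DerivedCategory.Q.map (cutι E (n + 1)))
  refine ⟨_, C, _, g, k, hE, hT, (isLE_obj₃_iff _ hT (n + 1) n rfl).2 ⟨fun i hi => ?_, ?_⟩⟩
  · have h1 := isIso_homology_cutι (E := E) (n + 1) hi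
    exact (NatIso.isIso_map_iff (DerivedCategory.homologyFunctorFactors (ModuleCat.{u} A) i) (cutι E (n + 1))).2 h1
  · exact ((MorphismProperty.epimorphisms (ModuleCat.{u} A)).arrow_mk_iso_iff
      (Arrow.isoMk ((DerivedCategory.homologyFunctorFactors (ModuleCat.{u} A) (n + 1)).app _)
        ((DerivedCategory.homologyFunctorFactors (ModuleCat.{u} A) (n + 1)).app _)
        ((DerivedCategory.homologyFunctorFactors (ModuleCat.{u} A) (n + 1)).hom.naturality (cutι E (n + 1))).symm)).2
      (epi_homology_cutι (E := E) (n + 1))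

theorem pc'_iff (K : Dual.D A) : DRing.IsPseudoCoherent' A K ↔ ∀ n, Approx n K :=
  ⟨forall_approx_of_pc', exists_pc' K⟩

theorem forall_pc_iff (K : Dual.D A) : (∀ m, DRing.IsPseudoCoherent A m K) ↔ DRing.IsPseudoCoherent' A K := by
  rw [pc'_iff]
  exact ⟨fun h n => (approx_iff rfl K).1 (h (n + 1)), fun h m => (approx_iff (sub_add_cancel m 1) K).2 (h _)⟩

/-- the brutal truncation of a bounded above complex of finitely generated projectives -/
theorem forall_approx_of_projective {E : DRing.Cx A} (b : ℤ) (hb : DRing.VanishesAbove E b)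
    (hfp : DRing.TermwiseFiniteProjective E) (n : ℤ) : Approx n (DRing.toD E) := by
  haveI : E.IsStrictlyLE b := (E.isStrictlyLE_iff b).2 hb
  haveI : t.IsLE (DRing.toD E) b := (inferInstance : (DerivedCategory.Q.obj E).IsLE b)
  suffices key : ∀ (j : ℕ) (n : ℤ), b ≤ n + j → Approx n (DRing.toD E) from key (b - n).toNat n (by omega)
  intro j
  induction j with
  | zero => exact fun n hn => approx_mono (show b ≤ n by omega) (approx_of_isLE inferInstance)
  | succ j ih =>
    intro n hn
    obtain ⟨E', C, α, g, k, hE', hT, hC⟩ := ih (n + 1) (by omega)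
    obtain ⟨⟨a', b', hab'⟩, hff'⟩ := hE'
    haveI := (BFF.isKProjective ⟨⟨a', b', hab'⟩, hff'⟩ : CochainComplex.IsKProjective E')
    obtain ⟨f, hf⟩ := (CochainComplex.IsKProjective.Qh_map_bijective E' ((HomotopyCategory.quotient _ _).obj E)).surjective
      ((quotientCompQhIso (ModuleCat.{u} A)).hom.app E' ≫ α ≫ (quotientCompQhIso (ModuleCat.{u} A)).inv.app E)
    obtain ⟨f, rfl⟩ := (HomotopyCategory.quotient _ _).map_surjective f
    have hfα : DerivedCategory.Q.map f = α := by
      have e' := (quotientCompQhIso (ModuleCat.{u} A)).hom.naturality f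
      change DerivedCategory.Qh.map ((HomotopyCategory.quotient (ModuleCat.{u} A) (ComplexShape.up ℤ)).map f) ≫ _ = _ at e'
      rw [hf, Category.assoc, Category.assoc, Iso.inv_hom_id_app] at e'
      exact ((cancel_epi _).1 e').symm.trans (Category.comp_id _)
    subst hfα
    obtain ⟨i, -, -⟩ := exists_iso_of_arrow_iso _ _ hT (DerivedCategory.mappingCone_triangle_distinguished f) (Iso.refl _)
    let M := CochainComplex.mappingCone f
    have hM : t.IsLE (DRing.toD M) (n + 1) :=
      haveI : t.IsLE (Triangle.π₃.obj (Triangle.mk (DerivedCategory.Q.map f) g k)) (n + 1) := hC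
      t.isLE_of_iso (Triangle.π₃.mapIso i) (n + 1)
    have hMX : ∀ i, max b' b < i → IsZero (M.X i) := fun i hi =>
      (CochainComplex.mappingCone.isZero_X_iff f i).2 ⟨hab' _ (Or.inr (by omega)), hb i (by omega)⟩
    have hMfp : ∀ i, Module.Finite A (M.X i) ∧ Module.Projective A (M.X i) := fun i => by
      obtain ⟨h1, h2⟩ := hff' (i + 1)
      obtain ⟨h3, h4⟩ := hfp i
      let e : M.X i ≅ ModuleCat.of A (E'.X (i + 1) × E.X i) :=
        HomologicalComplex.homotopyCofiber.XIsoBiprod f i (i + 1) rfl ≪≫ ModuleCat.biprodIsoProd _ _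
      haveI h5 : Module.Finite A (ModuleCat.of A (E'.X (i + 1) × E.X i)) :=
        (inferInstance : Module.Finite A (E'.X (i + 1) × E.X i))
      haveI h6 : Module.Projective A (ModuleCat.of A (E'.X (i + 1) × E.X i)) :=
        (inferInstance : Module.Projective A (E'.X (i + 1) × E.X i))
      exact ⟨Module.Finite.equiv e.toLinearEquiv.symm, Module.Projective.of_equiv e.toLinearEquiv.symm⟩
    have hfin : Module.Finite A ((Hm (n + 1)).obj (DRing.toD M)) := by
      haveI : Module.Finite A ((HomologicalComplex.homologyFunctor (ModuleCat.{u} A) (ComplexShape.up ℤ) (n + 1)).obj M) :=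
        finite_homology_of_projective M (n + 1) (max b' b) hMX hMfp fun i hi => by
        rw [HomologicalComplex.exactAt_iff_isZero_homology]
        exact ((DerivedCategory.isLE_iff _ _).1 hM i hi).of_iso
          ((DerivedCategory.homologyFunctorFactors (ModuleCat.{u} A) i).app M).symm
      exact Module.Finite.equiv ((DerivedCategory.homologyFunctorFactors (ModuleCat.{u} A) (n + 1)).app M).toLinearEquiv.symm
    exact approx_obj₂ _ (DerivedCategory.mappingCone_triangle_distinguished f) n (approx_toD ⟨⟨a', b', hab'⟩, hff'⟩ n)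
      (approx_of_finite (hC := hM) rfl hfin)

end Groth.Agent.PseudoCoh
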