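import Groth.Agent.PseudoCoh.TorAmp
import Groth.Agent.PseudoCoh.Biprod
import Groth.Agent.PseudoCoh.Finite
import Groth.Agent.PseudoCoh.BaseChange
import Mathlib.Algebra.Category.ModuleCat.Descent
import Mathlib.RingTheory.Finiteness.Descent
import Mathlib.RingTheory.Localization.Finiteness
import Mathlib.RingTheory.Flat.FaithfullyFlat.Basic

/-!
# Flat base change and descent of pseudo-coherence
-/

set_option autoImplicit false

universe u

open CategoryTheory CategoryTheory.Limits CategoryTheory.Pretriangulated DerivedCategory DerivedCategory.TStructure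
open scoped TensorProduct

attribute [local instance] HasDerivedCategory.standard

noncomputable section

namespace Groth.Agent.PseudoCoh

variable {A B : Type u} [CommRing A] [CommRing B] (φ : A →+* B)

local notation "Hm" => DerivedCategory.homologyFunctor (ModuleCat A)
local notation "Hb" => DerivedCategory.homologyFunctor (ModuleCat B)

/-- flat base change commutes with cohomology -/
def flatHomologyIso (hφ : φ.Flat) (K : DRing.Cx A) (i : ℤ) :
    (Hb i).obj (DRing.toD ((Fc φ).obj K)) ≅ (ModuleCat.extendScalars.{u, u, u} φ).obj ((Hm i).obj (DRing.toD K)) :=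
  haveI := ModuleCat.preservesFiniteLimits_extendScalars_of_flat hφ
  haveI : PreservesFiniteColimits (ModuleCat.extendScalars.{u, u, u} φ) :=
    haveI := (ModuleCat.extendRestrictScalarsAdj.{u, u, u} φ).leftAdjoint_preservesColimits
    inferInstance
  (DerivedCategory.homologyFunctorFactors (ModuleCat.{u} B) i).app _ ≪≫
    (K.sc i).mapHomologyIso (ModuleCat.extendScalars.{u, u, u} φ) ≪≫
    (ModuleCat.extendScalars.{u, u, u} φ).mapIso ((DerivedCategory.homologyFunctorFactors (ModuleCat.{u} A) i).app K).symm

/-- `extendScalars` along `algebraMap` is the tensor product -/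
theorem nonempty_extendEquiv {S : Type u} [CommRing S] [inst : Algebra A S] (M : ModuleCat.{u} A) :
    Nonempty ((ModuleCat.extendScalars.{u, u, u} (algebraMap A S)).obj M ≃ₗ[S] S ⊗[A] M) := by
  suffices key : ∀ (ψ : A →+* S) (i : Algebra A S), i = ψ.toAlgebra →
      Nonempty ((ModuleCat.extendScalars.{u, u, u} ψ).obj M ≃ₗ[S] (letI := i; S ⊗[A] M)) from
    key (algebraMap A S) inst (Algebra.algebra_ext _ _ fun _ => rfl)
  rintro ψ i rfl
  exact ⟨LinearEquiv.refl _ _⟩

theorem flat_of_surjective {R : Type u} [CommRing R] {M₀ M N Q : Type u} [AddCommGroup M₀] [Module R M₀] [AddCommGroup M]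
    [Module R M] [AddCommGroup N] [Module R N] [AddCommGroup Q] [Module R Q] (d : M₀ →ₗ[R] M) (g : M →ₗ[R] N)
    (hg : Function.Surjective g) (hk : LinearMap.range d = LinearMap.ker g) (e : N ≃ₗ[R] Q)
    (h : Module.Flat R (M ⧸ LinearMap.range d)) : Module.Flat R Q :=
  haveI := h
  Module.Flat.of_linearEquiv (e.symm.trans ((Submodule.quotEquivOfEq _ _ hk).trans (g.quotKerEquivOfSurjective hg)).symm)

variable {ι : Type} [Finite ι] {C : ι → Type u} [∀ i, CommRing (C i)] [∀ i, Algebra A (C i)]
  [∀ i, Module.Flat A (C i)]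

lemma flat_algebraMap (i : ι) : (algebraMap A (C i)).Flat := RingHom.flat_algebraMap_iff.2 inferInstance

/-- a family of flat algebras along which finiteness and vanishing of modules descend -/
structure IsDescentFamily (C : ι → Type u) [∀ i, CommRing (C i)] [∀ i, Algebra A (C i)] : Prop where
  finite : ∀ (M : Type u) [AddCommGroup M] [Module A M], (∀ i, Module.Finite (C i) (C i ⊗[A] M)) → Module.Finite A M
  subsingleton : ∀ (M : Type u) [AddCommGroup M] [Module A M], (∀ i, Subsingleton (C i ⊗[A] M)) → Subsingleton M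

variable (hC : IsDescentFamily (A := A) C)

include hC in
theorem isLE_descent (K : DRing.Cx A) (n : ℤ)
    (h : ∀ i, t.IsLE (DRing.toD ((Fc (algebraMap A (C i))).obj K)) n) : t.IsLE (DRing.toD K) n := by
  refine (DerivedCategory.isLE_iff _ _).2 fun j hj => ?_
  have : Subsingleton ((Hm j).obj (DRing.toD K)) := hC.subsingleton _ fun i =>
    haveI := ModuleCat.subsingleton_of_isZero (((DerivedCategory.isLE_iff _ _).1 (h i) j hj).of_iso
      (flatHomologyIso _ (flat_algebraMap i) K j).symm)
    (nonempty_extendEquiv (S := C i) ((Hm j).obj (DRing.toD K))).some.symm.toEquiv.subsingleton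
  exact @ModuleCat.isZero_of_subsingleton _ _ _ this

include hC in
theorem approx_descent (K : DRing.Cx A) (n : ℤ)
    (h : ∀ i, Approx n (DRing.toD ((Fc (algebraMap A (C i))).obj K))) : Approx n (DRing.toD K) := by
  choose bs hbs using fun i => exists_isLE (h i)
  obtain ⟨b, hb⟩ : ∃ b, ∀ i, bs i ≤ b := (Set.finite_range bs).bddAbove.imp fun b hb i => hb ⟨i, rfl⟩
  have hK : t.IsLE (DRing.toD K) b := isLE_descent hC K b fun i =>
    haveI := hbs i
    t.isLE_of_le _ (bs i) b (hb i)
  suffices key : ∀ (j : ℕ) (p : ℤ), n ≤ p → b ≤ p + j → Approx p (DRing.toD K) from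
    key (b - n).toNat n le_rfl (by omega)
  intro j
  induction j with
  | zero => exact fun p _ hp => approx_mono (show b ≤ p by simpa using hp) (approx_of_isLE hK)
  | succ j ih =>
    intro p hp hp'
    obtain ⟨E, X, α, g, k, hE, hT, hX⟩ := ih (p + 1) (by omega) (by omega)
    haveI := hE.isKProjective
    obtain ⟨f, hf⟩ := exists_Q_map α
    subst hf
    obtain ⟨e, -, -⟩ := exists_iso_of_arrow_iso _ _ (DerivedCategory.mappingCone_triangle_distinguished f) hT (Iso.refl _)
    let M := CochainComplex.mappingCone f
    have hM : t.IsLE (DRing.toD M) (p + 1) :=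
      haveI : t.IsLE (Triangle.π₃.obj (Triangle.mk (DerivedCategory.Q.map f) g k)) (p + 1) := hX
      t.isLE_of_iso (Triangle.π₃.mapIso e).symm _
    refine approx_obj₂ _ (DerivedCategory.mappingCone_triangle_distinguished f) p (approx_toD hE p)
      (approx_of_finite (hC := hM) rfl (hC.finite _ fun i => ?_))
    have h3 : Approx p (DRing.toD (CochainComplex.mappingCone ((Fc (algebraMap A (C i))).map f))) :=
      approx_obj₃ _ (DerivedCategory.mappingCone_triangle_distinguished ((Fc (algebraMap A (C i))).map f)) p
        (approx_toD (hE.extend _) _) (approx_mono hp (h i))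
    have h4 : Approx p (DRing.toD ((Fc (algebraMap A (C i))).obj M)) := approx_of_iso
      (DerivedCategory.Q.mapIso (CochainComplex.mappingCone.mapHomologicalComplexIso f _)).symm h3
    haveI := finite_HD rfl h4 fun q hq =>
      ((ModuleCat.extendScalars.{u, u, u} (algebraMap A (C i))).map_isZero ((DerivedCategory.isLE_iff _ _).1 hM q hq)).of_iso
        (flatHomologyIso _ (flat_algebraMap i) M q)
    exact Module.Finite.equiv ((flatHomologyIso _ (flat_algebraMap i) M (p + 1)).toLinearEquiv.trans
      (nonempty_extendEquiv (S := C i) ((Hm (p + 1)).obj (DRing.toD M))).some)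

include hC in
/-- flatness descends -/
theorem flat_descent (M : Type u) [AddCommGroup M] [Module A M] (h : ∀ i, Module.Flat (C i) (C i ⊗[A] M)) :
    Module.Flat A M := by
  rw [Module.Flat.iff_lTensor_preserves_injective_linearMap]
  intro V W _ _ _ _ g hg
  rw [← LinearMap.ker_eq_bot]
  refine (Submodule.subsingleton_iff_eq_bot).1 (hC.subsingleton _ fun i => ?_)
  haveI := h i
  haveI : Module.Flat A (C i ⊗[A] M) := Module.Flat.trans A (C i) (C i ⊗[A] M)
  have hi : Function.Injective ((g.lTensor M).lTensor (C i)) := by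
    have e : ((g.lTensor M).lTensor (C i)) ∘ₗ (TensorProduct.assoc A (C i) M V).toLinearMap =
        (TensorProduct.assoc A (C i) M W).toLinearMap ∘ₗ g.lTensor (C i ⊗[A] M) := by
      ext x m v; rfl
    refine Function.Injective.of_comp_right ?_ (TensorProduct.assoc A (C i) M V).surjective
    rw [← LinearEquiv.coe_coe, ← LinearMap.coe_comp, e, LinearMap.coe_comp]
    exact (TensorProduct.assoc A (C i) M W).injective.comp
      (Module.Flat.lTensor_preserves_injective_linearMap g hg)
  refine subsingleton_of_forall_eq 0 fun x => ?_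
  apply Module.Flat.lTensor_preserves_injective_linearMap (M := C i) _ (LinearMap.ker (g.lTensor M)).injective_subtype
  apply hi
  rw [map_zero, map_zero, ← LinearMap.comp_apply, ← LinearMap.lTensor_comp, LinearMap.comp_ker_subtype,
    LinearMap.lTensor_zero, LinearMap.zero_apply]

include hC in
theorem isGE_descent (K : DRing.Cx A) (n : ℤ)
    (h : ∀ i, t.IsGE (DRing.toD ((Fc (algebraMap A (C i))).obj K)) n) : t.IsGE (DRing.toD K) n := by
  refine (DerivedCategory.isGE_iff _ _).2 fun j hj => ?_
  have : Subsingleton ((Hm j).obj (DRing.toD K)) := hC.subsingleton _ fun i =>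
    haveI := ModuleCat.subsingleton_of_isZero (((DerivedCategory.isGE_iff _ _).1 (h i) j hj).of_iso
      (flatHomologyIso _ (flat_algebraMap i) K j).symm)
    (nonempty_extendEquiv (S := C i) ((Hm j).obj (DRing.toD K))).some.symm.toEquiv.subsingleton
  exact @ModuleCat.isZero_of_subsingleton _ _ _ this

include hC in
theorem torAmplitude_descent (K : DRing.Cx A) (a b : ℤ)
    (h : ∀ i, DRing.HasTorAmplitudeIn (C i) a b (DRing.toD ((Fc (algebraMap A (C i))).obj K))) :
    DRing.HasTorAmplitudeIn A a b (DRing.toD K) := by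
  have hle := isLE_descent hC K b fun i => isLE_of_torAmplitude (h i)
  have hge := isGE_descent hC K a fun i => isGE_of_torAmplitude (h i)
  obtain ⟨P, hPb, hPp, hPK, ⟨e⟩⟩ := exists_projective_le (DRing.toD K) b hle
  haveI := hPK
  obtain ⟨q, hq⟩ := exists_Q_map e.hom
  haveI hiso : IsIso (DerivedCategory.Q.map q) := by rw [hq]; infer_instance
  obtain ⟨i₀, hi₀⟩ : ∃ i₀, i₀ + 1 = a := ⟨a - 1, sub_add_cancel _ 1⟩
  have hflat : DRing.TermwiseFlat P := fun i => by
    haveI := hPp i
    haveI : Module.Projective A (P.X i) := (IsProjective.iff_projective (P.X i)).2 inferInstance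
    exact Module.Flat.of_projective
  refine torAmplitude_of_iso e (torAmplitude_of_complex hi₀ hPb hflat (t.isGE_of_iso e.symm a) (t.isLE_of_iso e.symm b)
    (flat_descent hC _ fun i => ?_))
  let F := ModuleCat.extendScalars.{u, u, u} (algebraMap A (C i))
  haveI hiso' : IsIso (DerivedCategory.Q.map ((Fc (algebraMap A (C i))).map q)) := by
    rw [DerivedCategory.isIso_iff]
    intro j
    haveI : IsIso (HomologicalComplex.homologyMap q j) :=
      (NatIso.isIso_map_iff (DerivedCategory.homologyFunctorFactors (ModuleCat.{u} A) j) q).1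
        ((inferInstance : IsIso ((DerivedCategory.homologyFunctor (ModuleCat.{u} A) j).map (DerivedCategory.Q.map q))))
    refine (NatIso.isIso_map_iff (DerivedCategory.homologyFunctorFactors (ModuleCat.{u} (C i)) j) _).2 ?_
    haveI := ModuleCat.preservesFiniteLimits_extendScalars_of_flat (flat_algebraMap (A := A) (C := C) i)
    haveI : PreservesFiniteColimits F :=
      haveI := (ModuleCat.extendRestrictScalarsAdj.{u, u, u} (algebraMap A (C i))).leftAdjoint_preservesColimits
      inferInstance
    have hQ : QuasiIsoAt q j := (quasiIsoAt_iff_isIso_homologyMap q j).2 inferInstance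
    exact (quasiIsoAt_iff_isIso_homologyMap _ j).1 inferInstance
  have hFp : ∀ j, Projective (((Fc (algebraMap A (C i))).obj P).X j) := fun j => by
    haveI := hPp j
    haveI := Functor.preservesProjectiveObjects_of_adjunction_of_preservesEpimorphisms
      (ModuleCat.extendRestrictScalarsAdj.{u, u, u} (algebraMap A (C i)))
    exact F.projective_obj (P.X j)
  haveI hQ := flat_coker_of_torAmplitude hi₀ (fun j hj => F.map_isZero (hPb j hj)) hFp (asIso (DerivedCategory.Q.map ((Fc (algebraMap A (C i))).map q)))
    (h i)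
  let S : ShortComplex (ModuleCat.{u} A) := ShortComplex.mk (P.d i₀ a) (ModuleCat.ofHom (LinearMap.range (P.d i₀ a).hom).mkQ)
    (ModuleCat.hom_ext (LinearMap.ext fun w => (Submodule.Quotient.mk_eq_zero _).2 ⟨w, rfl⟩))
  obtain ⟨e'⟩ := nonempty_extendEquiv (A := A) (S := C i) (ModuleCat.of A (P.X a ⧸ LinearMap.range (P.d i₀ a).hom))
  haveI : PreservesFiniteColimits F :=
    haveI := (ModuleCat.extendRestrictScalarsAdj.{u, u, u} (algebraMap A (C i))).leftAdjoint_preservesColimits
    inferInstance
  haveI : Epi S.g := (ModuleCat.epi_iff_surjective _).2 (Submodule.mkQ_surjective _)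
  have hS : (S.map F).Exact ∧ Epi (F.map S.g) := by
    have := (Functor.preservesFiniteColimits_tfae F).out 3 1
    exact this.1 inferInstance S ⟨(ShortComplex.moduleCat_exact_iff _).2 fun x hx =>
      (Submodule.Quotient.mk_eq_zero _).1 hx, inferInstance⟩
  have hk : LinearMap.range (((Fc (algebraMap A (C i))).obj P).d i₀ a).hom = LinearMap.ker (F.map S.g).hom :=
    hS.1.moduleCat_range_eq_ker
  exact flat_of_surjective _ _ ((ModuleCat.epi_iff_surjective _).1 hS.2) hk e' hQ

include hC in
theorem perfect_descent (K : DRing.Cx A)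
    (h : ∀ i, DRing.IsPerfect (C i) (DRing.toD ((Fc (algebraMap A (C i))).obj K))) :
    DRing.IsPerfect A (DRing.toD K) := by
  choose hpc a b hab using fun i => (perfect_iff _).1 (h i)
  obtain ⟨a', ha'⟩ : ∃ a', ∀ i, a' ≤ a i := (Set.finite_range a).bddBelow.imp fun a' ha i => ha ⟨i, rfl⟩
  obtain ⟨b', hb'⟩ : ∃ b', ∀ i, b i ≤ b' := (Set.finite_range b).bddAbove.imp fun b' hb i => hb ⟨i, rfl⟩
  exact (perfect_iff _).2 ⟨fun n => approx_descent hC K n fun i => hpc i n,
    a', b', torAmplitude_descent hC K a' b' fun i => torAmplitude_mono (ha' i) (hb' i) (hab i)⟩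

theorem isDescentFamily_of_faithfullyFlat (S : Type u) [CommRing S] [Algebra A S] [Module.FaithfullyFlat A S] :
    IsDescentFamily (A := A) (fun _ : Unit => S) where
  finite M _ _ h := haveI := h (); Module.Finite.of_finite_tensorProduct_of_faithfullyFlat (T := S)
  subsingleton M _ _ h := haveI := h (); Module.FaithfullyFlat.lTensor_reflects_triviality A S M

theorem isDescentFamily_away {r : ℕ} (f : Fin r → A) (hf : Ideal.span (Set.range f) = ⊤) :
    IsDescentFamily (A := A) (fun i => Localization.Away (f i)) where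
  finite M _ _ h := by
    refine Module.Finite.of_localizationSpan' (Set.range f) hf (Rₚ := fun g => Localization.Away g.1)
      (fun g => TensorProduct.mk A (Localization.Away g.1) M 1) ?_
    rintro ⟨_, i, rfl⟩
    exact h i
  subsingleton M _ _ h := by
    refine subsingleton_of_forall_eq 0 fun x => ?_
    suffices x ∈ (⊥ : Submodule A M) from this
    refine Submodule.mem_of_span_eq_top_of_smul_pow_mem _ _ hf x ?_
    rintro ⟨_, i, rfl⟩
    obtain ⟨⟨_, n, rfl⟩, hn⟩ := (IsLocalizedModule.eq_zero_iff (Submonoid.powers (f i))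
      (TensorProduct.mk A (Localization.Away (f i)) M 1)).1 (@Subsingleton.elim _ (h i) _ 0 : TensorProduct.mk A (Localization.Away (f i)) M 1 x = 0)
    exact ⟨n, hn⟩

end Groth.Agent.PseudoCoh
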