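import Groth.Agent.PseudoCoh.TorAmp
import Mathlib.CategoryTheory.Triangulated.TStructure.TruncLTGE
import Mathlib.Algebra.Homology.DerivedCategory.ShortExact

/-!
# Dévissage along cohomology modules
-/

set_option autoImplicit false

universe u

open CategoryTheory CategoryTheory.Limits CategoryTheory.Pretriangulated DerivedCategory DerivedCategory.TStructure

attribute [local instance] HasDerivedCategory.standard

noncomputable section

namespace Groth.Agent.PseudoCoh

variable {A : Type u} [CommRing A]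

local notation "Hm" => DerivedCategory.homologyFunctor (ModuleCat A)

/-- `M[-i]` -/
abbrev singleD (i : ℤ) (M : ModuleCat.{u} A) : Dual.D A := (DerivedCategory.singleFunctor (ModuleCat.{u} A) i).obj M

/-- `M[-i]` as a shift of `M[0]` -/
def singleDIso (i : ℤ) (M : ModuleCat.{u} A) : (Dual.inD A M)⟦-i⟧ ≅ singleD i M :=
  ((DerivedCategory.singleFunctors (ModuleCat.{u} A)).shiftIso (-i) i 0 (by omega)).app M

lemma approx_singleD_iff (i n n' : ℤ) (h : n' + i = n) (M : ModuleCat.{u} A) :
    Approx n (singleD i M) ↔ Approx n' (Dual.inD A M) :=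
  ⟨fun hK => (approx_shift_iff (-i) n (by omega)).1 (approx_of_iso (singleDIso i M).symm hK),
    fun hK => approx_of_iso (singleDIso i M) (approx_shift (-i) n (by omega) hK)⟩

variable (Φ : Dual.D A → Prop) (hiso : ∀ {X Y : Dual.D A}, (X ≅ Y) → Φ X → Φ Y)
  (hext : ∀ T ∈ distTriang (Dual.D A), Φ T.obj₁ → Φ T.obj₃ → Φ T.obj₂)

include hiso hext in
/-- dévissage: `K` is built from its cohomology modules above `c` and an object `≤ c` with the same cohomology there -/
theorem devissage_homology (c : ℤ) (K : Dual.D A)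
    (hbase : ∀ K' : Dual.D A, t.IsLE K' c → (∀ i, i ≤ c → Nonempty ((Hm i).obj K' ≅ (Hm i).obj K)) → Φ K')
    (b : ℤ) (hb : t.IsLE K b) (hH : ∀ i, c < i → Φ (singleD i ((Hm i).obj K))) : Φ K := by
  suffices key : ∀ (j : ℕ) (K' : Dual.D A) (d : ℤ), d = c + j → t.IsLE K' d →
      (∀ i, i ≤ d → Nonempty ((Hm i).obj K' ≅ (Hm i).obj K)) → Φ K' from
    key (b - c).toNat K _ rfl (t.isLE_of_le K b _ (by omega)) fun i _ => ⟨Iso.refl _⟩
  intro j
  induction j with
  | zero =>
    intro K' d hd hle he
    exact hbase K' (t.isLE_of_le K' d c (by simp at hd; omega)) fun i hi => he i (by simp at hd; omega)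
  | succ j ih =>
    intro K' d hd hle he
    let T := (t.triangleLTGE d).obj K'
    have hT : T ∈ distTriang (Dual.D A) := t.triangleLTGE_distinguished d K'
    have h1 : t.IsLE T.obj₁ (d - 1) := inferInstanceAs (t.IsLE ((t.triangleLTGE d).obj K').obj₁ (d - 1))
    have h3 : t.IsGE T.obj₃ d := inferInstanceAs (t.IsGE ((t.triangleLTGE d).obj K').obj₃ d)
    have z1 : ∀ i, d - 1 < i → IsZero ((Hm i).obj T.obj₁) := (DerivedCategory.isLE_iff _ _).1 h1
    have z3 : ∀ i, i < d → IsZero ((Hm i).obj T.obj₃) := (DerivedCategory.isGE_iff _ _).1 h3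
    have h3' : t.IsLE T.obj₃ d := by
      haveI : t.IsLE (T.obj₁⟦(1 : ℤ)⟧) (d - 1 - 1) := t.isLE_shift T.obj₁ (d - 1) 1 (d - 1 - 1) (by omega)
      exact t.isLE₂ _ (rot_of_distTriang _ hT) d hle (t.isLE_of_le (T.obj₁⟦(1 : ℤ)⟧) (d - 1 - 1) d)
    refine hext T hT (ih T.obj₁ (d - 1) (by omega) h1 fun i hi => ?_) ?_
    · haveI : Mono ((Hm i).map T.mor₁) :=
        (HomologySequence.mono_homologyMap_mor₁_iff T hT (i - 1) i (by omega)).2 ((z3 _ (by omega)).eq_of_src _ _)
      haveI : Epi ((Hm i).map T.mor₁) :=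
        (HomologySequence.epi_homologyMap_mor₁_iff T hT i).2 ((z3 _ (by omega)).eq_of_tgt _ _)
      haveI := isIso_of_mono_of_epi ((Hm i).map T.mor₁)
      obtain ⟨e⟩ := he i (by omega)
      exact ⟨asIso ((Hm i).map T.mor₁) ≪≫ e⟩
    · haveI : Mono ((Hm d).map T.mor₂) :=
        (HomologySequence.mono_homologyMap_mor₂_iff T hT d).2 ((z1 _ (by omega)).eq_of_src _ _)
      haveI : Epi ((Hm d).map T.mor₂) :=
        (HomologySequence.epi_homologyMap_mor₂_iff T hT d (d + 1) rfl).2 ((z1 _ (by omega)).eq_of_tgt _ _)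
      have hd2 := isIso_of_mono_of_epi ((Hm d).map T.mor₂)
      haveI : T.obj₃.IsGE d := h3
      haveI : T.obj₃.IsLE d := h3'
      obtain ⟨M, ⟨e⟩⟩ := DerivedCategory.exists_iso_singleFunctor_obj_of_isGE_of_isLE T.obj₃ d
      obtain ⟨e'⟩ := he d le_rfl
      have eM : (Hm d).obj K ≅ M := e'.symm ≪≫ @asIso _ _ _ _ ((Hm d).map T.mor₂) hd2 ≪≫ (Hm d).mapIso e ≪≫
        (DerivedCategory.singleFunctorCompHomologyFunctorIso (ModuleCat.{u} A) d).app M
      exact hiso ((DerivedCategory.singleFunctor (ModuleCat.{u} A) d).mapIso eM ≪≫ e.symm) (hH d (by omega))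

include hiso hext in
/-- dévissage for objects with bounded cohomology -/
theorem devissage_bounded (hzero : ∀ K : Dual.D A, IsZero K → Φ K) (K : Dual.D A) (a b : ℤ)
    (ha : t.IsGE K a) (hb : t.IsLE K b) (hH : ∀ i, Φ (singleD i ((Hm i).obj K))) : Φ K := by
  refine devissage_homology Φ hiso hext (a - 1) K (fun K' hK' he => hzero K' ?_) b hb fun i _ => hH i
  rw [IsZero.iff_id_eq_zero]
  haveI : t.IsGE K' a := (DerivedCategory.isGE_iff _ _).2 fun i hi => by
    obtain ⟨e⟩ := he i (by omega)
    exact ((DerivedCategory.isGE_iff _ _).1 ha i hi).of_iso e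
  exact t.zero_of_isLE_of_isGE _ (a - 1) a (by omega) hK' inferInstance

section Termwise

variable (K : DRing.Cx A) (d : ℤ)

/-- the inclusion of brutal truncations -/
def cutStep : cut K (d + 1) ⟶ cut K d where
  f i := ModuleCat.ofHom (Submodule.inclusion (show cutSub K (d + 1) i ≤ cutSub K d i by
    unfold cutSub
    split_ifs <;> first | exact le_rfl | exact bot_le | omega))
  comm' _ _ _ := rfl

/-- the projection on the lowest term -/
def cutProj : cut K d ⟶ (HomologicalComplex.single (ModuleCat.{u} A) (ComplexShape.up ℤ) d).obj (K.X d) :=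
  HomologicalComplex.mkHomToSingle ((cutι K d).f d) fun i hi =>
    (cut_isZero K d (show i < d by change i + 1 = d at hi; omega)).eq_of_src _ _

/-- the short complex of a step of the brutal filtration -/
def cutSES : ShortComplex (DRing.Cx A) := ShortComplex.mk (cutStep K d) (cutProj K d) (by
  refine HomologicalComplex.hom_ext _ _ fun i => ?_
  rcases eq_or_ne i d with rfl | hi
  · exact (cut_isZero K (i + 1) (show i < i + 1 by omega)).eq_of_src _ _
  · exact (HomologicalComplex.isZero_single_obj_X _ _ _ _ hi).eq_of_tgt _ _)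

theorem cutSES_shortExact : (cutSES K d).ShortExact := by
  refine HomologicalComplex.shortExact_of_degreewise_shortExact _ fun i => ?_
  haveI hm : Mono ((cutStep K d).f i) := (ModuleCat.mono_iff_injective _).2 (Submodule.inclusion_injective (by unfold cutSub; split_ifs <;> first | exact le_rfl | exact bot_le | omega))
  rcases eq_or_ne i d with rfl | hi
  · haveI := isIso_cutι_f K i (le_refl i)
    haveI : IsIso ((cutProj K i).f i) := by
      rw [show (cutProj K i).f i = _ from HomologicalComplex.mkHomToSingle_f _ _]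
      infer_instance
    exact { exact := (ShortComplex.exact_iff_mono _
              ((cut_isZero K (i + 1) (show i < i + 1 by omega)).eq_of_src _ _)).2 (inferInstanceAs (Mono ((cutProj K i).f i)))
            mono_f := hm
            epi_g := inferInstanceAs (Epi ((cutProj K i).f i)) }
  · have hz : IsZero (((HomologicalComplex.single (ModuleCat.{u} A) (ComplexShape.up ℤ) d).obj (K.X d)).X i) :=
      HomologicalComplex.isZero_single_obj_X _ _ _ _ hi
    haveI hs : Epi ((cutStep K d).f i) := (ModuleCat.epi_iff_surjective _).2 fun ⟨x, hx⟩ => ⟨⟨x, by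
      unfold cutSub at hx ⊢
      split_ifs at hx ⊢ <;> first | exact hx | trivial | omega⟩, rfl⟩
    exact { exact := (ShortComplex.exact_iff_epi _ (hz.eq_of_tgt _ _)).2 hs
            mono_f := hm
            epi_g := ⟨fun _ _ _ => hz.eq_of_src _ _⟩ }

include hiso hext in
/-- dévissage along the terms of a complex -/
theorem devissage_terms (hH : ∀ i, Φ (singleD i (K.X i))) (c b : ℤ) (hbase : Φ (DRing.toD (cut K b))) (hcb : c ≤ b) :
    Φ (DRing.toD (cut K c)) := by
  obtain ⟨j, rfl⟩ : ∃ j : ℕ, c + j = b := ⟨(b - c).toNat, by omega⟩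
  clear hcb
  induction j generalizing c with
  | zero => simpa using hbase
  | succ j ih =>
    have h : Φ (DRing.toD (cut K (c + 1))) := ih (c + 1) (by
      rw [show c + 1 + (j : ℤ) = c + ((j + 1 : ℕ) : ℤ) by push_cast; ring]; exact hbase)
    exact hext _ (DerivedCategory.triangleOfSES_distinguished (cutSES_shortExact K c)) h
      (hiso ((DerivedCategory.singleFunctorIsoCompQ (ModuleCat.{u} A) c).app (K.X c)) (hH c))

theorem isIso_cutι {a : ℤ} (h : ∀ i, i < a → IsZero (K.X i)) : IsIso (cutι K a) :=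
  haveI : ∀ i, IsIso ((cutι K a).f i) := fun i => by
    rcases lt_or_ge i a with hi | hi
    · exact isIso_of_source_target_iso_zero _ (cut_isZero K a hi).isoZero (h i hi).isoZero
    · exact isIso_cutι_f K a hi
  HomologicalComplex.Hom.isIso_of_components _

theorem isZero_toD_cut {b : ℤ} (h : ∀ i, b ≤ i → IsZero (K.X i)) : IsZero (DRing.toD (cut K b)) := by
  refine DerivedCategory.Q.map_isZero ?_
  rw [IsZero.iff_id_eq_zero]
  refine HomologicalComplex.hom_ext _ _ fun i => ?_
  rcases lt_or_ge i b with hi | hi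
  · exact (cut_isZero K b hi).eq_of_src _ _
  · haveI := isIso_cutι_f K b hi
    exact ((h i hi).of_iso (asIso ((cutι K b).f i))).eq_of_src _ _

include hiso hext in
theorem devissage_terms_bounded (hzero : ∀ K : Dual.D A, IsZero K → Φ K) (a b : ℤ)
    (hab : DRing.VanishesOutside K a b) (hH : ∀ i, Φ (singleD i (K.X i))) : Φ (DRing.toD K) := by
  haveI := isIso_cutι K fun i (hi : i < a) => hab i (Or.inl hi)
  exact hiso (DerivedCategory.Q.mapIso (asIso (cutι K a))) (devissage_terms Φ hiso hext K hH a (max a (b + 1))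
    (hzero _ (isZero_toD_cut K fun i hi => hab i (Or.inr (by omega)))) (le_max_left _ _))

end Termwise

end Groth.Agent.PseudoCoh
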