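import Groth.Agent.PseudoCoh.TorAmp
import Groth.Agent.PseudoCoh.Criteria
import Mathlib.RingTheory.Filtration
import Mathlib.Algebra.Homology.DerivedCategory.Linear

/-!
# Ext from pseudo-coherent objects by cocycles, and Artin-Rees
-/

set_option autoImplicit false

universe u

open CategoryTheory CategoryTheory.Limits DerivedCategory DerivedCategory.TStructure

attribute [local instance] HasDerivedCategory.standard

noncomputable section

namespace Groth.Agent.PseudoCoh

variable {A : Type u} [CommRing A]

section HomLemmas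

variable {P : Type u} [AddCommGroup P] [Module A P] [Module.Finite A P] [Module.Projective A P]
variable (M : Type u) [AddCommGroup M] [Module A M]

/-- maps out of a finite projective module from values on generators -/
theorem exists_hom_param : ∃ (k : ℕ) (r : (Fin k → A) →ₗ[A] P) (Φ : (Fin k → M) →ₗ[A] (P →ₗ[A] M)),
    ∀ f : P →ₗ[A] M, Φ (fun a => f (r (Pi.single a 1))) = f := by
  classical
  obtain ⟨k, r, hr⟩ := Module.Finite.exists_fin' A P
  obtain ⟨s, hs⟩ := Module.projective_lifting_property r LinearMap.id hr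
  refine ⟨k, r, (LinearMap.lcomp A M s).comp ((LinearMap.lsum A (fun _ : Fin k => A) A).toLinearMap.comp
    (LinearMap.pi fun a => (LinearMap.ringLmapEquivSelf A A M).symm.toLinearMap.comp (LinearMap.proj a))), fun f => ?_⟩
  refine LinearMap.ext fun x => ?_
  have e : (LinearMap.lsum A (fun _ : Fin k => A) A) (fun a => (LinearMap.ringLmapEquivSelf A A M).symm (f (r (Pi.single a 1)))) =
      f ∘ₗ r := by
    refine LinearMap.pi_ext' fun a => LinearMap.ext_ring ?_
    simp [LinearMap.lsum_apply, Pi.single_apply]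
  refine (LinearMap.congr_fun e (s x)).trans ?_
  exact congrArg f (LinearMap.congr_fun hs x)

theorem finite_hom [Module.Finite A M] : Module.Finite A (P →ₗ[A] M) := by
  obtain ⟨k, r, Φ, hΦ⟩ := exists_hom_param (A := A) (P := P) M
  exact Module.Finite.of_surjective Φ fun f => ⟨_, hΦ f⟩

variable {M}

theorem mem_smul_hom (J : Ideal A) (f : P →ₗ[A] M) (hf : ∀ x, f x ∈ (J • ⊤ : Submodule A M)) :
    f ∈ (J • ⊤ : Submodule A (P →ₗ[A] M)) := by
  classical
  obtain ⟨k, r, Φ, hΦ⟩ := exists_hom_param (A := A) (P := P) M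
  rw [← hΦ f]
  have h : (fun a => f (r (Pi.single a 1))) ∈ (J • ⊤ : Submodule A (Fin k → M)) := by
    rw [← Finset.univ_sum_single (fun a => f (r (Pi.single a 1)))]
    refine sum_mem fun a _ => ?_
    have := Submodule.mem_map_of_mem (f := LinearMap.single A (fun _ : Fin k => M) a) (hf (r (Pi.single a 1)))
    rw [Submodule.map_smul''] at this
    exact Submodule.smul_mono le_rfl le_top this
  have := Submodule.mem_map_of_mem (f := Φ) h
  rw [Submodule.map_smul''] at this
  exact Submodule.smul_mono le_rfl le_top this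

theorem apply_mem_smul (J : Ideal A) {f : P →ₗ[A] M} (hf : f ∈ (J • ⊤ : Submodule A (P →ₗ[A] M))) (x : P) :
    f x ∈ (J • ⊤ : Submodule A M) := by
  have := Submodule.mem_map_of_mem (f := LinearMap.applyₗ x) hf
  rw [Submodule.map_smul''] at this
  exact Submodule.smul_mono le_rfl le_top this

end HomLemmas

section Cocycles

variable (P : DRing.Cx A) (j : ℤ) (M : ModuleCat.{u} A)

/-- cocycles of degree `j` with values in `M` -/
def cocycles : Submodule A (P.X j →ₗ[A] M) := LinearMap.ker (LinearMap.lcomp A M (P.d (j - 1) j).hom)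

theorem mem_cocycles {f : P.X j →ₗ[A] M} : f ∈ cocycles P j M ↔ f ∘ₗ (P.d (j - 1) j).hom = 0 := Iff.rfl

/-- the chain map of a cocycle -/
def cocycleMap (z : cocycles P j M) :
    P ⟶ (HomologicalComplex.single (ModuleCat.{u} A) (ComplexShape.up ℤ) j).obj M :=
  HomologicalComplex.mkHomToSingle (ModuleCat.ofHom z.1) fun i hi => by
    obtain rfl : i = j - 1 := by change i + 1 = j at hi; omega
    exact ModuleCat.hom_ext z.2

theorem cocycleMap_f (z : cocycles P j M) :
    (cocycleMap P j M z).f j ≫ (HomologicalComplex.singleObjXSelf (ComplexShape.up ℤ) j M).hom = ModuleCat.ofHom z.1 := by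
  refine (congrArg (· ≫ _) (HomologicalComplex.mkHomToSingle_f _ _)).trans ?_
  exact (Category.assoc _ _ _).trans ((congrArg (_ ≫ ·) (Iso.inv_hom_id _)).trans (Category.comp_id _))

theorem cocycleMap_eq (g : P ⟶ (HomologicalComplex.single (ModuleCat.{u} A) (ComplexShape.up ℤ) j).obj M)
    (z : cocycles P j M)
    (h : g.f j ≫ (HomologicalComplex.singleObjXSelf (ComplexShape.up ℤ) j M).hom = ModuleCat.ofHom z.1) :
    g = cocycleMap P j M z :=
  HomologicalComplex.to_single_hom_ext ((cancel_mono (HomologicalComplex.singleObjXSelf (ComplexShape.up ℤ) j M).hom).1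
    (h.trans (cocycleMap_f P j M z).symm))

/-- the class of a cocycle -/
def cocycleClass : cocycles P j M →ₗ[A]
    (DRing.toD P ⟶ DRing.toD ((HomologicalComplex.single (ModuleCat.{u} A) (ComplexShape.up ℤ) j).obj M)) where
  toFun z := DerivedCategory.Q.map (cocycleMap P j M z)
  map_add' z w := by
    rw [← cocycleMap_eq P j M (cocycleMap P j M z + cocycleMap P j M w) (z + w)]
    · exact DerivedCategory.Q.map_add
    · rw [HomologicalComplex.add_f_apply, Preadditive.add_comp, cocycleMap_f, cocycleMap_f]; rfl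
  map_smul' a z := by
    rw [← cocycleMap_eq P j M (a • cocycleMap P j M z) (a • z)]
    · exact DerivedCategory.Q.map_smul a _
    · rw [HomologicalComplex.smul_f_apply, Linear.smul_comp, cocycleMap_f]; rfl

theorem cocycleClass_surjective [CochainComplex.IsKProjective P] : Function.Surjective (cocycleClass P j M) := by
  intro α
  obtain ⟨g, rfl⟩ := exists_Q_map α
  have hz : ((g.f j ≫ (HomologicalComplex.singleObjXSelf (ComplexShape.up ℤ) j M).hom).hom) ∈ cocycles P j M := by
    have e : P.d (j - 1) j ≫ g.f j ≫ (HomologicalComplex.singleObjXSelf (ComplexShape.up ℤ) j M).hom = 0 := by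
      rw [← Category.assoc, ← g.comm (j - 1) j, HomologicalComplex.single_obj_d, comp_zero, zero_comp]
    exact congrArg ModuleCat.Hom.hom e
  exact ⟨⟨_, hz⟩, congrArg DerivedCategory.Q.map (cocycleMap_eq P j M g ⟨_, hz⟩ rfl).symm⟩

theorem cocycleClass_eq_zero [CochainComplex.IsKProjective P] (z : cocycles P j M) (h : cocycleClass P j M z = 0) :
    ∃ s : P.X (j + 1) →ₗ[A] M, s ∘ₗ (P.d j (j + 1)).hom = z.1 := by
  obtain ⟨hh⟩ := homotopy_of_Q_map_eq (cocycleMap P j M z) 0 (h.trans (DerivedCategory.Q.map_zero _ _).symm)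
  refine ⟨(hh.hom (j + 1) j ≫ (HomologicalComplex.singleObjXSelf (ComplexShape.up ℤ) j M).hom).hom, ?_⟩
  have e := hh.comm j
  rw [dNext_eq hh.hom (show (ComplexShape.up ℤ).Rel j (j + 1) from rfl),
    prevD_eq hh.hom (show (ComplexShape.up ℤ).Rel (j - 1) j by simp), HomologicalComplex.single_obj_d, comp_zero,
    add_zero, HomologicalComplex.zero_f, add_zero] at e
  have e' := congrArg ModuleCat.Hom.hom (cocycleMap_f P j M z)
  rw [e, Category.assoc] at e'
  exact e'

variable {M} {N : ModuleCat.{u} A}

/-- composition of cocycles with a module map -/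
def cocyclesPush (φ : M ⟶ N) : cocycles P j M →ₗ[A] cocycles P j N :=
  ((LinearMap.llcomp A (P.X j) M N φ.hom).comp (cocycles P j M).subtype).codRestrict _ fun z => by
    rw [mem_cocycles]
    change (φ.hom ∘ₗ z.1) ∘ₗ _ = 0
    rw [LinearMap.comp_assoc, (mem_cocycles P j M).1 z.2, LinearMap.comp_zero]

theorem cocycleClass_push (φ : M ⟶ N) (z : cocycles P j M) :
    cocycleClass P j M z ≫ DerivedCategory.Q.map ((HomologicalComplex.single (ModuleCat.{u} A) (ComplexShape.up ℤ) j).map φ) =
      cocycleClass P j N (cocyclesPush P j φ z) := by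
  refine (DerivedCategory.Q.map_comp _ _).symm.trans (congrArg DerivedCategory.Q.map (cocycleMap_eq P j N _ _ ?_))
  rw [HomologicalComplex.comp_f, HomologicalComplex.single_map_f_self, Category.assoc, Category.assoc, Category.assoc,
    Iso.inv_hom_id, Category.comp_id, ← Category.assoc, cocycleMap_f]
  rfl

end Cocycles

section Ext

/-- a module shifted is the module in another degree -/
def shiftSingleIso (p j : ℤ) (h : p + j = 0) :
    DerivedCategory.singleFunctor (ModuleCat.{u} A) 0 ⋙ shiftFunctor (Dual.D A) p ≅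
      HomologicalComplex.single (ModuleCat.{u} A) (ComplexShape.up ℤ) j ⋙ DerivedCategory.Q :=
  (DerivedCategory.singleFunctors (ModuleCat.{u} A)).shiftIso p j 0 h ≪≫ DerivedCategory.singleFunctorIsoCompQ _ j

variable {K : Dual.D A} {P : DRing.Cx A} (e : DRing.toD P ≅ K) (p j : ℤ) (h : p + j = 0)

/-- the class in Ext of a cocycle -/
def extClass (M : ModuleCat.{u} A) : cocycles P j M →ₗ[A] (K ⟶ (Dual.inD A M)⟦p⟧) :=
  (Linear.rightComp A K ((shiftSingleIso p j h).inv.app M)).comp ((Linear.leftComp A _ e.inv).comp (cocycleClass P j M))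

theorem extClass_surjective [CochainComplex.IsKProjective P] (M : ModuleCat.{u} A) :
    Function.Surjective (extClass e p j h M) := fun α => by
  obtain ⟨z, hz⟩ := cocycleClass_surjective P j M (e.hom ≫ α ≫ (shiftSingleIso p j h).hom.app M)
  refine ⟨z, ?_⟩
  change (e.inv ≫ cocycleClass P j M z) ≫ (shiftSingleIso p j h).inv.app M = α
  rw [hz]
  simp only [Iso.inv_hom_id_assoc, Category.assoc]
  rw [Iso.hom_inv_id_app]
  exact Category.comp_id α

theorem extClass_push {M N : ModuleCat.{u} A} (φ : M ⟶ N) (z : cocycles P j M) :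
    extClass e p j h M z ≫ ((DerivedCategory.singleFunctor (ModuleCat.{u} A) 0).map φ)⟦p⟧' =
      extClass e p j h N (cocyclesPush P j φ z) := by
  change ((e.inv ≫ cocycleClass P j M z) ≫ _) ≫ _ = (e.inv ≫ cocycleClass P j N _) ≫ _
  rw [← cocycleClass_push, Category.assoc, Category.assoc, Category.assoc, Category.assoc,
    show ((shiftSingleIso p j h).inv.app M) ≫ ((DerivedCategory.singleFunctor (ModuleCat.{u} A) 0).map φ)⟦p⟧' =
      DerivedCategory.Q.map ((HomologicalComplex.single (ModuleCat.{u} A) (ComplexShape.up ℤ) j).map φ) ≫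
        (shiftSingleIso p j h).inv.app N from ((shiftSingleIso p j h).inv.naturality φ).symm]

theorem extClass_eq_zero [CochainComplex.IsKProjective P] {M : ModuleCat.{u} A} (z : cocycles P j M)
    (hz : extClass e p j h M z = 0) : ∃ s : P.X (j + 1) →ₗ[A] M, s ∘ₗ (P.d j (j + 1)).hom = z.1 := by
  refine cocycleClass_eq_zero P j M z ?_
  change (e.inv ≫ cocycleClass P j M z) ≫ _ = 0 at hz
  rwa [← cancel_mono ((shiftSingleIso p j h).inv.app M), ← cancel_epi e.inv, zero_comp, comp_zero, ← Category.assoc]

theorem extClass_of_boundary [CochainComplex.IsKProjective P] {M : ModuleCat.{u} A} (z : cocycles P j M)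
    (s : P.X (j + 1) →ₗ[A] M) (hz : s ∘ₗ (P.d j (j + 1)).hom = z.1) : extClass e p j h M z = 0 := by
  have h0 : cocycleClass P j M z = 0 := by
    change DerivedCategory.Q.map (cocycleMap P j M z) = 0
    classical
    let S := (HomologicalComplex.single (ModuleCat.{u} A) (ComplexShape.up ℤ) j).obj M
    let hom : ∀ a b : ℤ, P.X a ⟶ S.X b := fun a b =>
      if hab : a = j + 1 ∧ b = j then eqToHom (by rw [hab.1]) ≫ ModuleCat.ofHom s ≫
        (HomologicalComplex.singleObjXSelf (ComplexShape.up ℤ) j M).inv ≫ eqToHom (by rw [hab.2]) else 0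
    let g := Homotopy.nullHomotopicMap hom
    have hg : g = cocycleMap P j M z := cocycleMap_eq P j M g z (by
      simp only [g, Homotopy.nullHomotopicMap_f (show (ComplexShape.up ℤ).Rel (j - 1) j by simp)
        (show (ComplexShape.up ℤ).Rel j (j + 1) from rfl), hom, HomologicalComplex.single_obj_d, S]
      simp only [comp_zero, add_zero, and_self, ↓reduceDIte, eqToHom_refl, Category.id_comp, Category.comp_id,
        Category.assoc, Iso.inv_hom_id]
      exact ModuleCat.hom_ext hz)
    rw [← hg]
    have hn : ∀ a b : ℤ, ¬(ComplexShape.up ℤ).Rel b a → hom a b = 0 := fun a b hr => by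
      simp only [hom]
      rw [dif_neg]
      rintro ⟨rfl, rfl⟩
      exact hr rfl
    exact (DerivedCategory.Q_map_eq_of_homotopy (ModuleCat.{u} A) (Homotopy.nullHomotopy hom hn)).trans (DerivedCategory.Q.map_zero _ _)
  change (e.inv ≫ cocycleClass P j M z) ≫ _ = 0
  rw [h0, comp_zero, zero_comp]

end Ext

end Groth.Agent.PseudoCoh
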