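import Groth.Agent.PseudoCoh.Devissage
import Groth.Agent.PseudoCoh.Coherent

/-!
# Vanishing of morphisms to modules
-/

set_option autoImplicit false

universe u

open CategoryTheory CategoryTheory.Limits CategoryTheory.Pretriangulated DerivedCategory DerivedCategory.TStructure

attribute [local instance] HasDerivedCategory.standard

noncomputable section

namespace Groth.Agent.PseudoCoh

variable {A : Type u} [CommRing A]

/-- the single complex in degree `j` in terms of shifts -/
def toDSingleIso (j k : ℤ) (h : j + k = 0) (M : ModuleCat.{u} A) :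
    DRing.toD ((HomologicalComplex.single (ModuleCat.{u} A) (ComplexShape.up ℤ) j).obj M) ≅ (Dual.inD A M)⟦k⟧ :=
  ((DerivedCategory.singleFunctorIsoCompQ (ModuleCat.{u} A) j).app M).symm ≪≫ (singleDIso j M).symm ≪≫
    eqToIso (by rw [show k = -j by omega])

lemma eq_zero_of_subsingleton {K : Dual.D A} {P : DRing.Cx A} (e : DRing.toD P ≅ K) {j k : ℤ} (h : j + k = 0)
    {M : ModuleCat.{u} A} (hs : Subsingleton (K ⟶ (Dual.inD A M)⟦k⟧))
    (f : DRing.toD P ⟶ DRing.toD ((HomologicalComplex.single (ModuleCat.{u} A) (ComplexShape.up ℤ) j).obj M)) : f = 0 := by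
  rw [← cancel_epi e.inv, ← cancel_mono (toDSingleIso j k h M).hom]
  exact hs.elim _ _

/-- `range d` is projective when cocycles in degree `j` factor through `d` -/
theorem projective_range {P : DRing.Cx A} (hP : CochainComplex.IsKProjective P) (hp : ∀ i, Projective (P.X i))
    {j k : ℤ} (hjk : j + 1 = k)
    (hz : ∀ (M : ModuleCat.{u} A)
      (f : DRing.toD P ⟶ DRing.toD ((HomologicalComplex.single (ModuleCat.{u} A) (ComplexShape.up ℤ) j).obj M)), f = 0) :
    Module.Projective A (LinearMap.range (P.d j k).hom) ∧ Module.Projective A (P.X k ⧸ LinearMap.range (P.d j k).hom) ∧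
      ∀ i, i + 1 = j → LinearMap.range (P.d i j).hom = LinearMap.ker (P.d j k).hom := by
  haveI := hP
  haveI hpk : Module.Projective A (P.X k) := by
    haveI := hp k
    exact (IsProjective.iff_projective (P.X k)).2 inferInstance
  let c : P.X j ⟶ ModuleCat.of A (LinearMap.range (P.d j k).hom) := ModuleCat.ofHom (P.d j k).hom.rangeRestrict
  obtain ⟨s, hs⟩ := exists_factor hjk c (fun i _ => ModuleCat.hom_ext (LinearMap.ext fun x => Subtype.ext
    (ConcreteCategory.congr_hom (P.d_comp_d i j k) x))) (hz _)
  have hsec : s.hom ∘ₗ (LinearMap.range (P.d j k).hom).subtype = LinearMap.id := LinearMap.ext fun ⟨y, x, hx⟩ => by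
    subst hx
    exact ConcreteCategory.congr_hom hs x
  let p : P.X k →ₗ[A] P.X k := LinearMap.id - (LinearMap.range (P.d j k).hom).subtype ∘ₗ s.hom
  refine ⟨Module.Projective.of_split _ s.hom hsec, ?_, fun i hi => ?_⟩
  · refine Module.Projective.of_split (Submodule.liftQ _ p fun y hy => ?_) (LinearMap.range (P.d j k).hom).mkQ
      (Submodule.linearMap_qext _ (LinearMap.ext fun y => ?_))
    · change y - _ = 0
      exact sub_eq_zero.2 (congrArg Subtype.val (LinearMap.congr_fun hsec ⟨y, hy⟩)).symm
    · change Submodule.Quotient.mk (y - (s.hom y).1) = Submodule.Quotient.mk y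
      rw [Submodule.Quotient.eq, sub_sub_cancel_left]
      exact neg_mem (s.hom y).2
  · refine le_antisymm ?_ fun x hx => ?_
    · rintro _ ⟨x, rfl⟩
      exact ConcreteCategory.congr_hom (P.d_comp_d i j k) x
    · let c' : P.X j ⟶ ModuleCat.of A (P.X j ⧸ LinearMap.range (P.d i j).hom) := ModuleCat.ofHom (Submodule.mkQ _)
      obtain ⟨s', hs'⟩ := exists_factor hjk c' (fun i' hi' => ModuleCat.hom_ext (LinearMap.ext fun x => by
        obtain rfl : i' = i := by omega
        exact (Submodule.Quotient.mk_eq_zero _).2 ⟨x, rfl⟩)) (hz _)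
      refine (Submodule.Quotient.mk_eq_zero _).1 ((ConcreteCategory.congr_hom hs' x).symm.trans ?_)
      change s'.hom ((P.d j k).hom x) = 0
      rw [show (P.d j k).hom x = 0 from hx, map_zero]

end Groth.Agent.PseudoCoh
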