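import Groth.Agent.PseudoCoh.Biprod
import Mathlib.Algebra.Homology.ShortComplex.ModuleCat
import Mathlib.Algebra.Module.FinitePresentation
import Mathlib.RingTheory.Finiteness.Projective

/-!
# Finiteness of the top cohomology of pseudo-coherent objects
-/

set_option autoImplicit false

universe u

open CategoryTheory CategoryTheory.Limits CategoryTheory.Pretriangulated DerivedCategory DerivedCategory.TStructure

attribute [local instance] HasDerivedCategory.standard

noncomputable section

namespace Groth.Agent.PseudoCoh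

variable {A : Type u} [CommRing A] {E : DRing.Cx A}

local notation "Hm" => DerivedCategory.homologyFunctor (ModuleCat A)

theorem finite_projective_cycles' (n b : ℤ) (hb : ∀ i, b < i → IsZero (E.X i))
    (hfp : ∀ i, Module.Finite A (E.X i) ∧ Module.Projective A (E.X i)) (hx : ∀ i, n < i → E.ExactAt i) :
    Module.Finite A (LinearMap.ker (E.d n (n + 1)).hom) ∧ Module.Projective A (LinearMap.ker (E.d n (n + 1)).hom) := by
  suffices key : ∀ (j : ℕ) (i : ℤ), n ≤ i → b + 1 ≤ i + j →
      Module.Finite A (LinearMap.ker (E.d i (i + 1)).hom) ∧ Module.Projective A (LinearMap.ker (E.d i (i + 1)).hom) from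
    key (b + 1 - n).toNat n le_rfl (by omega)
  intro j
  induction j with
  | zero =>
    intro i _ hi
    haveI := ModuleCat.subsingleton_of_isZero (hb i (by omega))
    haveI := Module.Free.of_subsingleton A (LinearMap.ker (E.d i (i + 1)).hom)
    exact ⟨inferInstance, Module.Projective.of_free⟩
  | succ j ih =>
    intro i hni hi
    obtain ⟨h1, h2⟩ := ih (i + 1) (by omega) (by omega)
    obtain ⟨hf1, hf2⟩ := hfp i
    haveI := hf1; haveI := hf2; haveI := h1; haveI := h2
    let g : E.X i →ₗ[A] LinearMap.ker (E.d (i + 1) (i + 1 + 1)).hom :=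
      (E.d i (i + 1)).hom.codRestrict _ fun x => ConcreteCategory.congr_hom (E.d_comp_d i (i + 1) (i + 1 + 1)) x
    have hg : LinearMap.range g = ⊤ := LinearMap.range_eq_top.2 fun z => by
      have h := hx (i + 1) (by omega)
      rw [E.exactAt_iff' i (i + 1) (i + 1 + 1) (by simp) (by simp), ShortComplex.moduleCat_exact_iff] at h
      obtain ⟨x, hx⟩ := h z.1 z.2
      exact ⟨x, Subtype.ext hx⟩
    have hk : LinearMap.ker g = LinearMap.ker (E.d i (i + 1)).hom := LinearMap.ker_codRestrict _ _ _
    rw [← hk]
    obtain ⟨s, hs⟩ := g.exists_rightInverse_of_surjective hg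
    let p : E.X i →ₗ[A] LinearMap.ker g := (LinearMap.id - s ∘ₗ g).codRestrict _ fun x => by
      have := LinearMap.congr_fun hs (g x)
      rw [LinearMap.mem_ker, LinearMap.sub_apply, map_sub, sub_eq_zero]
      exact this.symm
    have hp : p ∘ₗ (LinearMap.ker g).subtype = LinearMap.id := LinearMap.ext fun z => Subtype.ext (by
      change z.1 - s (g z.1) = z.1
      rw [z.2, map_zero, sub_zero])
    exact ⟨Module.Finite.of_surjective p fun z => ⟨z.1, LinearMap.congr_fun hp z⟩,
      Module.Projective.of_split (LinearMap.ker g).subtype p hp⟩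

theorem finite_projective_cycles (hE : BFF E) (n : ℤ) (hx : ∀ i, n < i → E.ExactAt i) :
    Module.Finite A (LinearMap.ker (E.d n (n + 1)).hom) ∧ Module.Projective A (LinearMap.ker (E.d n (n + 1)).hom) := by
  obtain ⟨a, b, hab⟩ := hE.bdd
  refine finite_projective_cycles' n b (fun i hi => hab i (Or.inr hi)) (fun i => ?_) hx
  haveI := (hE.ff i).2
  exact ⟨(hE.ff i).1, inferInstance⟩

theorem finite_homology_of_projective (E : DRing.Cx A) (n b : ℤ) (hb : ∀ i, b < i → IsZero (E.X i))
    (hfp : ∀ i, Module.Finite A (E.X i) ∧ Module.Projective A (E.X i)) (hx : ∀ i, n < i → E.ExactAt i) :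
    Module.Finite A (E.homology n) := by
  obtain ⟨m, rfl⟩ : ∃ m, m + 1 = n := ⟨n - 1, sub_add_cancel n 1⟩
  let S := E.sc' m (m + 1) (m + 1 + 1)
  haveI : Module.Finite A (LinearMap.ker S.g.hom) := (finite_projective_cycles' (m + 1) b hb hfp hx).1
  haveI : Module.Finite A S.moduleCatLeftHomologyData.H :=
    (inferInstance : Module.Finite A (LinearMap.ker S.g.hom ⧸ LinearMap.range S.moduleCatToCycles))
  exact Module.Finite.equiv (ShortComplex.homologyMapIso (E.isoSc' m (m + 1) (m + 1 + 1) (by simp) (by simp)) ≪≫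
    S.moduleCatHomologyIso).toLinearEquiv.symm

theorem homology_finite (hE : BFF E) (n : ℤ) (hx : ∀ i, n < i → E.ExactAt i) :
    Module.Finite A (E.homology n) ∧ Module.FinitePresentation A (E.homology n) := by
  obtain ⟨m, rfl⟩ : ∃ m, m + 1 = n := ⟨n - 1, sub_add_cancel n 1⟩
  obtain ⟨h1, h2⟩ := finite_projective_cycles hE (m + 1) hx
  haveI := h1; haveI := h2
  haveI := (hE.ff m).1
  let S := E.sc' m (m + 1) (m + 1 + 1)
  let e := (E.isoSc' m (m + 1) (m + 1 + 1) (by simp) (by simp))
  let eH : E.homology (m + 1) ≅ S.moduleCatLeftHomologyData.H :=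
    ShortComplex.homologyMapIso e ≪≫ S.moduleCatHomologyIso
  have hfp : Module.FinitePresentation A (LinearMap.ker (E.d (m + 1) (m + 1 + 1)).hom) :=
    Module.finitePresentation_of_projective A _
  haveI : Module.Finite A S.X₁ := (hE.ff m).1
  haveI : Module.Finite A (LinearMap.ker S.g.hom) := h1
  haveI : Module.FinitePresentation A (LinearMap.ker S.g.hom) := hfp
  have hq : Module.FinitePresentation A (LinearMap.ker S.g.hom ⧸ LinearMap.range S.moduleCatToCycles) :=
    Module.finitePresentation_of_surjective _ (Submodule.mkQ_surjective _) (by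
      rw [Submodule.ker_mkQ, LinearMap.range_eq_map]
      exact (Module.Finite.fg_top).map _)
  have : Module.FinitePresentation A S.moduleCatLeftHomologyData.H := hq
  exact ⟨Module.Finite.equiv eH.toLinearEquiv.symm, Module.FinitePresentation.of_equiv eH.toLinearEquiv.symm⟩

/-- `H^n` for an `n`-pseudo-coherent object vanishing above -/
theorem finite_HD {n m : ℤ} (h : n + 1 = m) {K : Dual.D A} (hK : Approx n K)
    (hz : ∀ i, m < i → IsZero ((Hm i).obj K)) : Module.Finite A ((Hm m).obj K) := by
  obtain ⟨E, C, α, g, k, hE, hT, hC⟩ := hK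
  obtain ⟨h1, h2⟩ := (isLE_obj₃_iff _ hT m n h).1 hC
  have hx : ∀ i, m < i → E.ExactAt i := fun i hi => by
    rw [HomologicalComplex.exactAt_iff_isZero_homology]
    exact ((hz i hi).of_iso (@asIso _ _ _ _ ((Hm i).map α) (h1 i hi))).of_iso
      ((DerivedCategory.homologyFunctorFactors (ModuleCat.{u} A) i).app E).symm
  haveI : Module.Finite A ((HomologicalComplex.homologyFunctor (ModuleCat.{u} A) (ComplexShape.up ℤ) m).obj E) :=
    (homology_finite hE m hx).1
  haveI : Module.Finite A ((Hm m).obj (DRing.toD E)) :=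
    Module.Finite.equiv ((DerivedCategory.homologyFunctorFactors (ModuleCat.{u} A) m).app E).toLinearEquiv.symm
  exact Module.Finite.of_surjective ((Hm m).map α).hom ((ModuleCat.epi_iff_surjective _).1 h2)

theorem finitePresentation_HD {n m : ℤ} (h : n + 1 < m) {K : Dual.D A} (hK : Approx n K)
    (hz : ∀ i, m < i → IsZero ((Hm i).obj K)) : Module.FinitePresentation A ((Hm m).obj K) := by
  obtain ⟨E, C, α, g, k, hE, hT, hC⟩ := hK
  obtain ⟨h1, -⟩ := (isLE_obj₃_iff _ hT (n + 1) n rfl).1 hC
  have hx : ∀ i, m < i → E.ExactAt i := fun i hi => by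
    rw [HomologicalComplex.exactAt_iff_isZero_homology]
    exact ((hz i hi).of_iso (@asIso _ _ _ _ ((Hm i).map α) (h1 i (by omega)))).of_iso
      ((DerivedCategory.homologyFunctorFactors (ModuleCat.{u} A) i).app E).symm
  haveI : Module.FinitePresentation A ((HomologicalComplex.homologyFunctor (ModuleCat.{u} A) (ComplexShape.up ℤ) m).obj E) :=
    (homology_finite hE m hx).2
  exact Module.FinitePresentation.of_equiv
    ((((DerivedCategory.homologyFunctorFactors (ModuleCat.{u} A) m).app E).symm ≪≫
      @asIso _ _ _ _ ((Hm m).map α) (h1 m h)).toLinearEquiv)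

end Groth.Agent.PseudoCoh
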