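import Groth.Agent.PseudoCoh.Nilpotent
import Mathlib.RingTheory.LocalRing.Module
import Mathlib.LinearAlgebra.FiniteDimensional.Lemmas

/-!
# Minimal complexes over local rings
-/

set_option autoImplicit false

universe u

open CategoryTheory CategoryTheory.Limits CategoryTheory.Pretriangulated DerivedCategory DerivedCategory.TStructure
open scoped TensorProduct

attribute [local instance] HasDerivedCategory.standard

noncomputable section

namespace Groth.Agent.PseudoCoh

section

variable {A B : Type u} [CommRing A] [CommRing B] (φ : A →+* B) {M : ModuleCat.{u} A}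

lemma finite_extendScalars (h : Module.Finite A M) :
    Module.Finite B ((ModuleCat.extendScalars.{u, u, u} φ).obj M) := by
  letI := φ.toAlgebra
  exact (inferInstance : Module.Finite B (B ⊗[A] M))

lemma finrank_extendScalars [Nontrivial A] [Nontrivial B] (h : Module.Free A M) :
    Module.finrank B ((ModuleCat.extendScalars.{u, u, u} φ).obj M) = Module.finrank A M := by
  letI := φ.toAlgebra
  exact (Module.finrank_baseChange : Module.finrank B (B ⊗[A] M) = _)

end

variable {R : Type u} [CommRing R] [IsLocalRing R]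

local notation "κ" => IsLocalRing.ResidueField R
local notation "π" => IsLocalRing.residue R

lemma smul_le_top {M : Type u} [AddCommGroup M] [Module R M] (I : Ideal R) {N : Submodule R M} (h : N ≤ ⊤) :
    I • N ≤ I • (⊤ : Submodule R M) := Submodule.smul_mono le_rfl h

lemma residue_surj : Function.Surjective π := Ideal.Quotient.mk_surjective

/-- `uExt` as an additive map -/
def uExtAdd (M : ModuleCat.{u} R) : M →+ (ModuleCat.extendScalars.{u, u, u} π).obj M :=
  AddMonoidHom.mk' (uExt π M) (uExt_add π M)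

lemma uExt_eq_zero_iff (M : ModuleCat.{u} R) (x : M) :
    uExt π M x = 0 ↔ x ∈ (IsLocalRing.maximalIdeal R • ⊤ : Submodule R M) := by
  refine ⟨fun h => ?_, fun h => ?_⟩
  · have := uExt_eq_zero π residue_surj M h
    rwa [IsLocalRing.ker_residue] at this
  · refine Submodule.smul_induction_on h (fun a ha y _ => ?_) (fun x y hx hy => ?_)
    · rw [uExt_smul, (IsLocalRing.residue_eq_zero_iff a).2 ha, zero_smul]
    · rw [uExt_add, hx, hy, add_zero]

/-- the differentials vanish modulo the maximal ideal -/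
def ModZero (P : DRing.Cx R) : Prop :=
  ∀ i j (x : P.X i), (P.d i j).hom x ∈ (IsLocalRing.maximalIdeal R • ⊤ : Submodule R (P.X j))

lemma finite_extend {P : DRing.Cx R} {i : ℤ} (h : Module.Finite R (P.X i)) :
    Module.Finite κ (((Fc π).obj P).X i) :=
  finite_extendScalars π h

lemma finrank_extend {P : DRing.Cx R} {i : ℤ} (h : Module.Free R (P.X i)) :
    Module.finrank κ (((Fc π).obj P).X i) = Module.finrank R (P.X i) :=
  finrank_extendScalars π h

lemma ModZero.d_eq_zero {P : DRing.Cx R} (h : ModZero P) (i j : ℤ) : ((Fc π).obj P).d i j = 0 :=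
  ModuleCat.hom_ext (LinearMap.ext fun z => by
    obtain ⟨x, rfl⟩ := uExt_surjective π residue_surj (P.X i) z
    exact (uExt_map π (P.d i j) x).trans ((uExt_eq_zero_iff _ _).2 (h i j x)))

/-- homology modulo `m` of a minimal complex -/
def ModZero.homologyIso {P : DRing.Cx R} (h : ModZero P) (i : ℤ) :
    ((Fc π).obj P).homology i ≅ ((Fc π).obj P).X i :=
  @asIso _ _ _ _ (((Fc π).obj P).homologyι i) (((Fc π).obj P).isIso_homologyι i (i + 1) (by simp) (h.d_eq_zero i (i + 1))) ≪≫
    (@asIso _ _ _ _ (((Fc π).obj P).pOpcycles i) (((Fc π).obj P).isIso_pOpcycles (i - 1) i (by simp) (h.d_eq_zero (i - 1) i))).symm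

theorem modZero_of_finrank {P : DRing.Cx R} (hfree : ∀ i, Module.Free R (P.X i)) (hfin : ∀ i, Module.Finite R (P.X i))
    (h : ∀ i, Module.finrank R (P.X i) = Module.finrank κ (((Fc π).obj P).homology i)) : ModZero P := by
  intro i j x
  by_cases hij : i + 1 = j
  swap
  · rw [P.shape i j hij]; exact zero_mem _
  subst hij
  haveI := finite_extend (hfin i)
  let S := ((Fc π).obj P).sc' (i - 1) i (i + 1)
  let L := LinearMap.ker S.g.hom
  have e : Module.finrank κ (((Fc π).obj P).homology i) = Module.finrank κ (L ⧸ LinearMap.range S.moduleCatToCycles) :=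
    (ShortComplex.homologyMapIso (((Fc π).obj P).isoSc' (i - 1) i (i + 1) (by simp) (by simp)) ≪≫
      S.moduleCatHomologyIso).toLinearEquiv.finrank_eq
  haveI : Module.Finite κ S.X₂ := finite_extend (hfin i)
  have h1 : Module.finrank κ L = Module.finrank κ S.X₂ := by
    refine le_antisymm (Submodule.finrank_le _) ?_
    rw [show Module.finrank κ S.X₂ = Module.finrank R (P.X i) from finrank_extend (hfree i), h i, e]
    exact Submodule.finrank_quotient_le _
  have h2 := Submodule.eq_top_of_finrank_eq h1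
  refine (uExt_eq_zero_iff _ _).1 ((uExt_map π (P.d i (i + 1)) x).symm.trans ?_)
  let z : S.X₂ := uExt π (P.X i) x
  have hz : z ∈ L := h2 ▸ Submodule.mem_top
  exact LinearMap.mem_ker.1 hz

theorem nonempty_iso_of_modZero {P Q : DRing.Cx R} (hP : ModZero P) (hQ : ModZero Q)
    (hPf : ∀ i, Module.Finite R (P.X i)) (hQf : ∀ i, Module.Finite R (Q.X i))
    [CochainComplex.IsKProjective P] [CochainComplex.IsKProjective Q] (e : DRing.toD P ≅ DRing.toD Q) :
    Nonempty (P ≅ Q) := by
  obtain ⟨f, hf⟩ := exists_Q_map e.hom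
  obtain ⟨g, hg⟩ := exists_Q_map e.inv
  have bij : ∀ {P : DRing.Cx R}, ModZero P → (∀ i, Module.Finite R (P.X i)) → [CochainComplex.IsKProjective P] →
      ∀ φ : P ⟶ P, DerivedCategory.Q.map φ = 𝟙 _ → ∀ i, Function.Bijective (φ.f i).hom := by
    intro P hP hPf _ φ hφ i
    obtain ⟨H⟩ := homotopy_of_Q_map_eq φ (𝟙 P) (hφ.trans (CategoryTheory.Functor.map_id _ _).symm)
    have e := H.comm i
    rw [dNext_eq H.hom (show (ComplexShape.up ℤ).Rel i (i + 1) from rfl),
      prevD_eq H.hom (show (ComplexShape.up ℤ).Rel (i - 1) i by simp)] at e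
    haveI := hPf i
    have hs : Function.Surjective (φ.f i).hom := by
      rw [← LinearMap.range_eq_top]
      refine top_le_iff.1 (Submodule.le_of_le_smul_of_le_jacobson_bot Module.Finite.fg_top
        (IsLocalRing.maximalIdeal_le_jacobson ⊥) fun x _ => ?_)
      have e' := ConcreteCategory.congr_hom e x
      change (φ.f i).hom x = (H.hom (i + 1) i).hom ((P.d i (i + 1)).hom x) +
        (P.d (i - 1) i).hom ((H.hom i (i - 1)).hom x) + x at e'
      rw [show x = (φ.f i).hom x + (-((H.hom (i + 1) i).hom ((P.d i (i + 1)).hom x) +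
        (P.d (i - 1) i).hom ((H.hom i (i - 1)).hom x))) by rw [e']; abel]
      refine add_mem (Submodule.mem_sup_left ⟨x, rfl⟩) (Submodule.mem_sup_right (neg_mem (add_mem ?_ (hP _ _ _))))
      have h1 := Submodule.mem_map_of_mem (f := (H.hom (i + 1) i).hom) (hP i (i + 1) x)
      rw [Submodule.map_smul''] at h1
      exact smul_le_top _ le_top h1
    exact ⟨OrzechProperty.injective_of_surjective_endomorphism _ hs, hs⟩
  have h1 := bij hP hPf (f ≫ g) (by rw [Functor.map_comp, hf, hg, Iso.hom_inv_id])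
  have h2 := bij hQ hQf (g ≫ f) (by rw [Functor.map_comp, hf, hg, Iso.inv_hom_id])
  haveI : ∀ i, IsIso (f.f i) := fun i => by
    rw [ConcreteCategory.isIso_iff_bijective]
    exact ⟨Function.Injective.of_comp (f := (g.f i).hom) (h1 i).injective,
      Function.Surjective.of_comp (g := (g.f i).hom) (h2 i).surjective⟩
  haveI : IsIso f := HomologicalComplex.Hom.isIso_of_components f
  exact ⟨asIso f⟩

section Existence

variable (E : DRing.Cx R) {r : ℤ → ℕ} (s : ∀ i, Fin (r i) → E.X i)

/-- the lifts -/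
def C₀ (i : ℤ) : (Fin (r i) → R) →ₗ[R] E.X i := Fintype.linearCombination R (s i)

/-- the contractible part -/
def Dsub (i : ℤ) : Submodule R (E.X i) :=
  LinearMap.range (C₀ E s i) ⊔ (LinearMap.range (C₀ E s (i - 1))).map (E.d (i - 1) i).hom

lemma Dsub_le (i j : ℤ) : Dsub E s i ≤ (Dsub E s j).comap (E.d i j).hom := by
  by_cases h : i + 1 = j
  · obtain rfl : i = j - 1 := by omega
    refine sup_le (fun x hx => ?_) ?_
    · exact Submodule.mem_sup_right ⟨x, hx, rfl⟩
    · rintro _ ⟨y, -, rfl⟩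
      rw [Submodule.mem_comap]
      exact (show (E.d (j - 1) j).hom ((E.d (j - 1 - 1) (j - 1)).hom y) = 0 from
        ConcreteCategory.congr_hom (E.d_comp_d _ _ _) y) ▸ zero_mem _
  · intro x _
    rw [Submodule.mem_comap, E.shape i j h]
    exact zero_mem _

/-- the minimal quotient -/
def minCx : DRing.Cx R where
  X i := ModuleCat.of R (E.X i ⧸ Dsub E s i)
  d i j := ModuleCat.ofHom (Submodule.mapQ _ _ (E.d i j).hom (Dsub_le E s i j))
  shape i j h := ModuleCat.hom_ext (Submodule.linearMap_qext _ (LinearMap.ext fun x =>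
    ((congrArg Submodule.Quotient.mk (ConcreteCategory.congr_hom (E.shape i j h) x)).trans (Submodule.Quotient.mk_zero _))))
  d_comp_d' i j k _ _ := ModuleCat.hom_ext (Submodule.linearMap_qext _ (LinearMap.ext fun x =>
    ((congrArg (Submodule.Quotient.mk) (ConcreteCategory.congr_hom (E.d_comp_d i j k) x)).trans rfl)))

/-- the projection -/
def minπ : E ⟶ minCx E s where
  f i := ModuleCat.ofHom (Submodule.mkQ _)
  comm' _ _ _ := rfl

end Existence

theorem exists_minimal {E : DRing.Cx R} {b : ℤ} (hb : DRing.VanishesAbove E b) (hff : DRing.TermwiseFiniteFree E) :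
    ∃ P : DRing.Cx R, DRing.VanishesAbove P b ∧ (∀ i, Module.Free R (P.X i) ∧ Module.Finite R (P.X i)) ∧ ModZero P ∧
      Nonempty (DRing.toD E ≅ DRing.toD P) := by
  haveI := fun i => (hff i).1
  haveI := fun i => (hff i).2
  haveI hfinκ := fun i => finite_extend (P := E) (i := i) (hff i).1
  let dk := fun i => (((Fc π).obj E).d i (i + 1)).hom
  let r : ℤ → ℕ := fun i => Module.finrank κ (LinearMap.range (dk i))
  let β := fun i => Module.finBasis κ (LinearMap.range (dk i))
  have hlift : ∀ i (j : Fin (r i)), ∃ x : E.X i, uExt π _ ((E.d i (i + 1)).hom x) = (β i j).1 := fun i j => by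
    obtain ⟨z, hz⟩ := (β i j).2
    obtain ⟨x, rfl⟩ := uExt_surjective π residue_surj (E.X i) z
    exact ⟨x, (uExt_map π (E.d i (i + 1)) x).symm.trans hz⟩
  choose s hs using hlift
  have hC : ∀ i (a : Fin (r i) → R), uExt π _ ((E.d i (i + 1)).hom (C₀ E s i a)) = (∑ j, π (a j) • β i j).1 := fun i a => by
    rw [C₀, Fintype.linearCombination_apply, map_sum, Submodule.coe_sum]
    refine (map_sum (uExtAdd (E.X (i + 1))) _ _).trans (Finset.sum_congr rfl fun j _ => ?_)
    change uExt π _ ((E.d i (i + 1)).hom (a j • s i j)) = _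
    rw [map_smul, uExt_smul, hs, Submodule.coe_smul]
    rfl
  have hzero : ∀ i (a : Fin (r i) → R), uExt π _ ((E.d i (i + 1)).hom (C₀ E s i a)) = 0 →
      ∀ j, a j ∈ IsLocalRing.maximalIdeal R := fun i a h j => by
    rw [hC] at h
    exact (IsLocalRing.residue_eq_zero_iff _).1
      (Fintype.linearIndependent_iff.1 (β i).linearIndependent _ (Subtype.ext h) j)
  have hpi : ∀ {n : ℕ} (a : Fin n → R), (∀ j, a j ∈ IsLocalRing.maximalIdeal R) →
      a ∈ (IsLocalRing.maximalIdeal R • ⊤ : Submodule R (Fin n → R)) := fun a h => by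
    rw [pi_eq_sum_univ' a]
    exact Submodule.sum_mem _ fun j _ => Submodule.smul_mem_smul (h j) Submodule.mem_top
  have hD : ∀ h, ∃ Φ : ((Fin (r (h + 1)) → R) × (Fin (r h) → R)) →ₗ[R] E.X (h + 1),
      (∀ a b, Φ (a, b) = C₀ E s (h + 1) a + (E.d h (h + 1)).hom (C₀ E s h b)) ∧
      LinearMap.range Φ = Dsub E s (h + 1) ∧ ∃ ρ, ρ ∘ₗ Φ = LinearMap.id := fun h => by
    refine ⟨(C₀ E s (h + 1)).coprod ((E.d h (h + 1)).hom ∘ₗ C₀ E s h), fun a b => rfl, ?_, ?_⟩
    · rw [LinearMap.range_coprod, LinearMap.range_comp, Dsub, add_sub_cancel_right]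
    · refine exists_retraction_of_injective_mod _ fun m hm c hc => ?_
      obtain rfl := IsLocalRing.eq_maximalIdeal hm
      obtain ⟨a, b⟩ := c
      have h0 : uExt π _ (C₀ E s (h + 1) a + (E.d h (h + 1)).hom (C₀ E s h b)) = 0 := (uExt_eq_zero_iff _ _).2 hc
      have h1 := (congrArg (dk (h + 1)) h0).trans (dk (h + 1)).map_zero
      have ha := hzero (h + 1) a (by
        refine Eq.trans ?_ h1
        refine Eq.trans ?_ (uExt_map π (E.d (h + 1) (h + 1 + 1)) _).symm
        congr 1
        rw [map_add, show (E.d (h + 1) (h + 1 + 1)).hom ((E.d h (h + 1)).hom (C₀ E s h b)) = 0 from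
          ConcreteCategory.congr_hom (E.d_comp_d h (h + 1) (h + 1 + 1)) _, add_zero])
      have ha' : uExt π _ (C₀ E s (h + 1) a) = 0 := (uExt_eq_zero_iff _ _).2 (by
        have h2 := Submodule.mem_map_of_mem (f := C₀ E s (h + 1)) (hpi a ha)
        rw [Submodule.map_smul''] at h2
        exact smul_le_top _ le_top h2)
      rw [uExt_add, ha', zero_add] at h0
      have hb := hzero h b h0
      have e : ((a, b) : (Fin (r (h + 1)) → R) × (Fin (r h) → R)) = LinearMap.inl R _ _ a + LinearMap.inr R _ _ b := by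
        simp
      rw [e]
      have k1 := Submodule.mem_map_of_mem (f := LinearMap.inl R (Fin (r (h + 1)) → R) (Fin (r h) → R)) (hpi a ha)
      have k2 := Submodule.mem_map_of_mem (f := LinearMap.inr R (Fin (r (h + 1)) → R) (Fin (r h) → R)) (hpi b hb)
      rw [Submodule.map_smul''] at k1 k2
      exact add_mem (smul_le_top _ le_top k1) (smul_le_top _ le_top k2)
  have hinj : ∀ i (a : Fin (r i) → R), (E.d i (i + 1)).hom (C₀ E s i a) = 0 → a = 0 := fun i a h => by
    obtain ⟨Φ, hΦ, -, ρ, hρ⟩ := hD i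
    have h1 : Φ (0, a) = 0 := by rw [hΦ, map_zero, zero_add, h]
    have h2 := LinearMap.congr_fun hρ (0, a)
    rw [LinearMap.comp_apply, h1, map_zero] at h2
    exact (congrArg Prod.snd h2).symm
  let P := minCx E s
  have hP : ∀ i, Module.Free R (P.X i) ∧ Module.Finite R (P.X i) := fun i => by
    obtain ⟨h, rfl⟩ : ∃ h, i = h + 1 := ⟨i - 1, by omega⟩
    haveI : Module.Finite R (E.X (h + 1) ⧸ Dsub E s (h + 1)) := inferInstance
    refine ⟨?_, this⟩
    obtain ⟨Φ, -, hΦr, ρ, hρ⟩ := hD h
    let q : (E.X (h + 1) ⧸ Dsub E s (h + 1)) →ₗ[R] E.X (h + 1) :=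
      Submodule.liftQ _ (LinearMap.id - Φ ∘ₗ ρ) (by
        rw [← hΦr]
        rintro _ ⟨x, rfl⟩
        have := LinearMap.congr_fun hρ x
        simp only [LinearMap.comp_apply, LinearMap.id_apply] at this
        simp [this])
    haveI : Module.Projective R (E.X (h + 1) ⧸ Dsub E s (h + 1)) := Module.Projective.of_split q (Submodule.mkQ _)
      (Submodule.linearMap_qext _ (LinearMap.ext fun x => (Submodule.Quotient.eq _).2 (by
        change x - Φ (ρ x) - x ∈ _
        rw [sub_sub_cancel_left, ← hΦr]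
        exact neg_mem ⟨_, rfl⟩)))
    exact (Module.free_of_flat_of_isLocalRing : Module.Free R (E.X (h + 1) ⧸ Dsub E s (h + 1)))
  have hmz : ModZero P := fun i j z => by
    by_cases hij : i + 1 = j
    swap
    · rw [P.shape i j hij]; exact zero_mem _
    subst hij
    obtain ⟨x, rfl⟩ := Submodule.Quotient.mk_surjective _ z
    let z' : LinearMap.range (dk i) := ⟨_, uExt π _ x, rfl⟩
    choose a ha using fun j => residue_surj ((β i).repr z' j)
    have h0 : uExt π _ ((E.d i (i + 1)).hom x - (E.d i (i + 1)).hom (C₀ E s i a)) = 0 := by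
      refine (map_sub (uExtAdd (E.X (i + 1))) _ _).trans (sub_eq_zero.2 ?_)
      refine ((uExt_map π (E.d i (i + 1)) x).symm.trans ?_).trans (hC i a).symm
      simp only [ha]
      exact (congrArg Subtype.val ((β i).sum_repr z')).symm
    have h1 := Submodule.mem_map_of_mem (f := (Dsub E s (i + 1)).mkQ) ((uExt_eq_zero_iff _ _).1 h0)
    rw [Submodule.map_smul'', map_sub] at h1
    have h2 : (Dsub E s (i + 1)).mkQ ((E.d i (i + 1)).hom (C₀ E s i a)) = 0 := by
      refine (Submodule.Quotient.mk_eq_zero _).2 (Dsub_le E s i (i + 1) ?_)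
      exact Submodule.mem_sup_left ⟨a, rfl⟩
    rw [h2, sub_zero] at h1
    exact smul_le_top _ le_top h1
  have hdd : ∀ h (w : E.X h), (E.d (h + 1) (h + 1 + 1)).hom ((E.d h (h + 1)).hom w) = 0 :=
    fun h w => ConcreteCategory.congr_hom (E.d_comp_d _ _ _) w
  have hinj' : ∀ h (x : E.X (h + 1)) (z : E.X h), (E.d (h + 1) (h + 1 + 1)).hom x = 0 →
      Submodule.Quotient.mk (p := Dsub E s (h + 1)) ((E.d h (h + 1)).hom z) = Submodule.Quotient.mk x →
      ∃ w, (E.d h (h + 1)).hom w = x := fun h x z hx hy => by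
    obtain ⟨Φ, hΦ, hΦr, -⟩ := hD h
    obtain ⟨⟨a, b⟩, hab⟩ : x - (E.d h (h + 1)).hom z ∈ LinearMap.range Φ := hΦr ▸ (Submodule.Quotient.eq _).1 hy.symm
    rw [hΦ] at hab
    have h1 := congrArg (E.d (h + 1) (h + 1 + 1)).hom hab
    rw [map_add, map_sub, hdd, hdd, add_zero, hx, sub_zero] at h1
    rw [hinj _ a h1, map_zero, zero_add] at hab
    refine ⟨z + C₀ E s h b, ?_⟩
    rw [map_add, hab]
    abel
  have hsurj' : ∀ h (x : E.X (h + 1)), (E.d (h + 1) (h + 1 + 1)).hom x ∈ Dsub E s (h + 1 + 1) →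
      ∃ z, (E.d (h + 1) (h + 1 + 1)).hom z = 0 ∧
        Submodule.Quotient.mk (p := Dsub E s (h + 1)) z = Submodule.Quotient.mk x := fun h x hy => by
    obtain ⟨Φ, hΦ, hΦr, -⟩ := hD (h + 1)
    obtain ⟨⟨a, b⟩, hab⟩ : (E.d (h + 1) (h + 1 + 1)).hom x ∈ LinearMap.range Φ := hΦr ▸ hy
    rw [hΦ] at hab
    have h1 := congrArg (E.d (h + 1 + 1) (h + 1 + 1 + 1)).hom hab
    rw [map_add, hdd, hdd, add_zero] at h1
    rw [hinj _ a h1, map_zero, zero_add] at hab
    refine ⟨x - C₀ E s (h + 1) b, by rw [map_sub, hab, sub_self], (Submodule.Quotient.eq _).2 ?_⟩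
    rw [sub_sub_cancel_left]
    exact neg_mem (Submodule.mem_sup_left ⟨b, rfl⟩)
  haveI : QuasiIso (minπ E s) := by
    refine ⟨fun i => ?_⟩
    obtain ⟨h, rfl⟩ : ∃ h, i = h + 1 := ⟨i - 1, by omega⟩
    rw [quasiIsoAt_iff' (minπ E s) h (h + 1) (h + 1 + 1) (by simp) (by simp)]
    refine Groth.Agent.KProjRes.quasiIso_of_elements _ ?_ ?_
    · intro x hx ⟨y, hy⟩
      obtain ⟨z, rfl⟩ := Submodule.Quotient.mk_surjective _ y
      exact hinj' h x z hx hy
    · intro y hy
      obtain ⟨x, rfl⟩ := Submodule.Quotient.mk_surjective _ y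
      exact hsurj' h x ((Submodule.Quotient.mk_eq_zero _).1 hy)
  refine ⟨P, fun i hi => ?_, hP, hmz, ⟨asIso (DerivedCategory.Q.map (minπ E s))⟩⟩
  haveI := ModuleCat.subsingleton_of_isZero (hb i hi)
  exact @ModuleCat.isZero_of_subsingleton _ _ _ (Submodule.Quotient.mk_surjective (Dsub E s i)).subsingleton

end Groth.Agent.PseudoCoh
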