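import Groth.Agent.PseudoCoh.Residue
import Groth.Agent.PseudoCoh.Criteria
import Mathlib.LinearAlgebra.TensorProduct.RightExactness

/-!
# Pseudo-coherence and perfectness modulo nilpotent ideals
-/

set_option autoImplicit false

universe u

open CategoryTheory CategoryTheory.Limits CategoryTheory.Pretriangulated DerivedCategory DerivedCategory.TStructure
open scoped TensorProduct

attribute [local instance] HasDerivedCategory.standard

noncomputable section

namespace Groth.Agent.PseudoCoh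

variable {A B B' : Type u} [CommRing A] [CommRing B] [CommRing B'] (φ : A →+* B) (ψ : A →+* B')

/-- `x ↦ 1 ⊗ x` -/
def uExt (M : ModuleCat.{u} A) (x : M) : (ModuleCat.extendScalars.{u, u, u} φ).obj M :=
  letI := φ.toAlgebra
  (1 : B) ⊗ₜ[A] x

lemma uExt_map {M N : ModuleCat.{u} A} (f : M ⟶ N) (x : M) :
    ((ModuleCat.extendScalars.{u, u, u} φ).map f).hom (uExt φ M x) = uExt φ N (f.hom x) := rfl

lemma uExt_add (M : ModuleCat.{u} A) (x y : M) : uExt φ M (x + y) = uExt φ M x + uExt φ M y :=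
  letI := φ.toAlgebra
  TensorProduct.tmul_add (1 : B) x y

lemma uExt_smul (M : ModuleCat.{u} A) (a : A) (x : M) : uExt φ M (a • x) = φ a • uExt φ M x := by
  letI := φ.toAlgebra
  change (1 : B) ⊗ₜ[A] (a • x) = (φ a * 1) ⊗ₜ[A] x
  rw [TensorProduct.tmul_smul, TensorProduct.smul_tmul', mul_one, Algebra.smul_def, mul_one]
  rfl

lemma uExt_surjective (hφ : Function.Surjective φ) (M : ModuleCat.{u} A) : Function.Surjective (uExt φ M) :=
  letI := φ.toAlgebra
  TensorProduct.mk_surjective A M B hφ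

lemma uExt_eq_zero (hφ : Function.Surjective φ) (M : ModuleCat.{u} A) {x : M} (h : uExt φ M x = 0) :
    x ∈ (RingHom.ker φ • ⊤ : Submodule A M) := by
  letI := φ.toAlgebra
  have he := rTensor_exact (R := A) (Q := M) (f := (RingHom.ker φ).subtype) (g := Algebra.linearMap A B)
    (fun a => ⟨fun ha => ⟨⟨a, ha⟩, rfl⟩, by rintro ⟨b, rfl⟩; exact b.2⟩) hφ
  obtain ⟨z, hz⟩ := (he ((1 : A) ⊗ₜ[A] x)).1 (by
    rw [LinearMap.rTensor_tmul, show Algebra.linearMap A B 1 = 1 from φ.map_one]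
    exact h)
  have key : ∀ w, TensorProduct.lid A M ((RingHom.ker φ).subtype.rTensor M w) ∈ (RingHom.ker φ • ⊤ : Submodule A M) := fun w => by
    induction w using TensorProduct.induction_on with
    | zero => simp
    | tmul a y => exact (by simpa using Submodule.smul_mem_smul a.2 (Submodule.mem_top (x := y)))
    | add v w hv hw => rw [map_add, map_add]; exact add_mem hv hw
  have := key z
  rwa [hz, TensorProduct.lid_tmul, one_smul] at this

/-- cycles in degree `i` are boundaries up to `I` -/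
def Shrink (P : DRing.Cx A) (h i : ℤ) (I : Ideal A) : Prop :=
  ∃ e : P.X i →ₗ[A] P.X i, (∀ x, e x ∈ (I • ⊤ : Submodule A (P.X i))) ∧
    ∀ x, (P.d i (i + 1)).hom x = 0 → x - e x ∈ LinearMap.range (P.d h i).hom

lemma Shrink.mul {P : DRing.Cx A} {h i : ℤ} {I J : Ideal A} (h₁ : Shrink P h i I) (h₂ : Shrink P h i J) :
    Shrink P h i (I * J) := by
  obtain ⟨e₁, ha₁, hb₁⟩ := h₁
  obtain ⟨e₂, ha₂, hb₂⟩ := h₂
  refine ⟨e₂ ∘ₗ e₁, fun x => ?_, fun x hx => ?_⟩
  · rw [Submodule.mul_smul]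
    refine Submodule.smul_induction_on (p := fun y => e₂ y ∈ (I • (J • ⊤) : Submodule A (P.X i))) (ha₁ x)
      (fun a ha y _ => ?_) (fun y z hy hz => ?_)
    · simp only [map_smul]
      exact Submodule.smul_mem_smul ha (ha₂ y)
    · simp only [map_add]
      exact add_mem hy hz
  · have h1 := hb₁ x hx
    have hc : (P.d i (i + 1)).hom (e₁ x) = 0 := by
      obtain ⟨w, hw⟩ := h1
      have h2 := congrArg (P.d i (i + 1)).hom hw
      rw [map_sub, hx, zero_sub] at h2
      exact neg_eq_zero.1 (h2.symm.trans (ConcreteCategory.congr_hom (P.d_comp_d h i (i + 1)) w))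
    have := add_mem h1 (hb₂ _ hc)
    rw [sub_add_sub_cancel] at this
    exact this

lemma Shrink.pow {P : DRing.Cx A} {h i : ℤ} {I : Ideal A} (h₁ : Shrink P h i I) (n : ℕ) : Shrink P h i (I ^ n) := by
  induction n with
  | zero => exact ⟨LinearMap.id, fun x => by simp [pow_zero, Ideal.one_eq_top], fun x _ => by simp⟩
  | succ n ih => exact pow_succ I n ▸ ih.mul h₁

theorem shrink_of_isLE (hφ : Function.Surjective φ) {P : DRing.Cx A} [CochainComplex.IsKProjective P]
    (hp : ∀ i, Projective (P.X i)) {b : ℤ} (hle : t.IsLE (DRing.toD ((Fc φ).obj P)) b) {h i : ℤ} (hhi : h + 1 = i)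
    (hi : b < i) : Shrink P h i (RingHom.ker φ) := by
  haveI := isKProjective_extend φ P
  obtain ⟨Q, hQb, -, hQ, ⟨eQ⟩⟩ := exists_projective_le _ b hle
  haveI := hQ
  obtain ⟨f, hf⟩ := exists_Q_map eQ.inv
  obtain ⟨g, hg⟩ := exists_Q_map eQ.hom
  obtain ⟨H⟩ := homotopy_of_Q_map_eq (f ≫ g) (𝟙 _) (by
    rw [Functor.map_comp, hf, hg, Iso.inv_hom_id, CategoryTheory.Functor.map_id])
  have e := H.comm i
  rw [dNext_eq H.hom (show (ComplexShape.up ℤ).Rel i (i + 1) from rfl),
    prevD_eq H.hom (show (ComplexShape.up ℤ).Rel h i from hhi), HomologicalComplex.comp_f,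
    (hQb i hi).eq_of_tgt (f.f i) 0, zero_comp] at e
  let F := ModuleCat.extendScalars.{u, u, u} φ
  have lift : ∀ (k l : ℤ) (hm : F.obj (P.X k) ⟶ F.obj (P.X l)),
      ∃ s : P.X k →ₗ[A] P.X l, ∀ x, uExt φ (P.X l) (s x) = hm.hom (uExt φ (P.X k) x) := fun k l hm => by
    let R := ModuleCat.restrictScalars.{u} φ
    let p : P.X l →ₗ[A] R.obj (F.obj (P.X l)) :=
      { toFun := uExt φ (P.X l), map_add' := uExt_add φ _, map_smul' := uExt_smul φ _ }
    let q : P.X k →ₗ[A] R.obj (F.obj (P.X l)) :=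
      { toFun := fun x => hm.hom (uExt φ (P.X k) x)
        map_add' := fun x y => by rw [uExt_add, map_add]; rfl
        map_smul' := fun a x => by rw [uExt_smul, map_smul]; rfl }
    haveI := hp k
    haveI : Module.Projective A (P.X k) := (IsProjective.iff_projective (P.X k)).2 inferInstance
    obtain ⟨s, hs⟩ := Module.projective_lifting_property p q (uExt_surjective φ hφ _)
    exact ⟨s, fun x => LinearMap.congr_fun hs x⟩
  obtain ⟨s, hs⟩ := lift i h (-(H.hom i h))
  obtain ⟨s', hs'⟩ := lift (i + 1) i (-(H.hom (i + 1) i))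
  refine ⟨LinearMap.id - (P.d h i).hom ∘ₗ s - s' ∘ₗ (P.d i (i + 1)).hom, fun x => uExt_eq_zero φ hφ _ ?_,
    fun x hx => ⟨s x, ?_⟩⟩
  · have e' := ConcreteCategory.congr_hom e (uExt φ (P.X i) x)
    change (0 : F.obj (P.X i)) = (show F.obj (P.X i) from
      (H.hom (i + 1) i).hom ((F.map (P.d i (i + 1))).hom (uExt φ _ x))) +
      (show F.obj (P.X i) from (F.map (P.d h i)).hom ((H.hom i h).hom (uExt φ _ x))) +
      (show F.obj (P.X i) from uExt φ _ x) at e'
    have hs1 : (F.map (P.d h i)).hom ((H.hom i h).hom (uExt φ _ x)) = - uExt φ _ ((P.d h i).hom (s x)) := by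
      rw [← uExt_map, hs x]
      change _ = -((F.map (P.d h i)).hom (-((H.hom i h).hom (uExt φ _ x))))
      exact ((congrArg Neg.neg ((F.map (P.d h i)).hom.map_neg _)).trans (neg_neg _)).symm
    have hs2 : (H.hom (i + 1) i).hom ((F.map (P.d i (i + 1))).hom (uExt φ _ x)) =
        - uExt φ _ (s' ((P.d i (i + 1)).hom x)) := by
      rw [hs', uExt_map]
      exact (neg_neg _).symm
    rw [hs1, hs2] at e'
    have hadd := uExt_add φ (P.X i)
    rw [LinearMap.sub_apply, LinearMap.sub_apply, LinearMap.id_apply, LinearMap.comp_apply, LinearMap.comp_apply]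
    have h3 := hadd (x - (P.d h i).hom (s x) - s' ((P.d i (i + 1)).hom x)) ((P.d h i).hom (s x) + s' ((P.d i (i + 1)).hom x))
    rw [show x - (P.d h i).hom (s x) - s' ((P.d i (i + 1)).hom x) +
      ((P.d h i).hom (s x) + s' ((P.d i (i + 1)).hom x)) = x by abel, hadd] at h3
    rw [h3] at e'
    have alg : ∀ {G : Type u} [AddCommGroup G] (u v z : G), (0 : G) = -v + -z + (u + (z + v)) → u = 0 :=
      fun u v z h => Eq.trans (by abel) h.symm
    exact alg _ _ _ e'
  · simp only [LinearMap.sub_apply, LinearMap.id_apply, LinearMap.comp_apply, hx, map_zero]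
    abel

/-- boundedness descends along a nilpotent thickening -/
theorem isLE_of_lBaseChange [DRing.HasLBaseChange φ] [DRing.HasLBaseChange ψ] (hφ : Function.Surjective φ)
    (hψ : Function.Surjective ψ) (hnil : IsNilpotent (RingHom.ker φ * RingHom.ker ψ)) {K : Dual.D A} {b : ℤ}
    (h₁ : t.IsLE ((DRing.LBaseChange φ).obj K) b) (h₂ : t.IsLE ((DRing.LBaseChange ψ).obj K) b) : t.IsLE K b := by
  obtain ⟨P, hP, hproj, ⟨e⟩⟩ := Groth.Agent.KProjRes.exists_kProjective_iso K
  haveI := hP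
  refine @Triangulated.TStructure.isLE_of_iso _ _ _ _ _ _ _ t _ _ e b ((DerivedCategory.isLE_iff _ _).2 fun i hi => ?_)
  have g₁ : t.IsLE (DRing.toD ((Fc φ).obj P)) b := t.isLE_of_iso
    (((DRing.LBaseChange φ).mapIso e).symm ≪≫ Groth.Agent.KProjRes.lBaseChangeIso φ P) b
  have g₂ : t.IsLE (DRing.toD ((Fc ψ).obj P)) b := t.isLE_of_iso
    (((DRing.LBaseChange ψ).mapIso e).symm ≪≫ Groth.Agent.KProjRes.lBaseChangeIso ψ P) b
  obtain ⟨h, hh⟩ : ∃ h, h + 1 = i := ⟨i - 1, sub_add_cancel _ 1⟩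
  obtain ⟨n, hn⟩ := hnil
  obtain ⟨e', he, he'⟩ := ((shrink_of_isLE φ hφ hproj g₁ hh hi).mul (shrink_of_isLE ψ hψ hproj g₂ hh hi)).pow n
  refine (HomologicalComplex.ExactAt.isZero_homology ?_).of_iso
    ((DerivedCategory.homologyFunctorFactors (ModuleCat.{u} A) i).app P)
  rw [P.exactAt_iff' h i (i + 1) (by simp; omega) (by simp), ShortComplex.moduleCat_exact_iff]
  intro x hx
  have h0 := he x
  rw [hn, Submodule.zero_eq_bot, Submodule.bot_smul, Submodule.mem_bot] at h0
  obtain ⟨y, hy⟩ := he' x hx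
  exact ⟨y, hy.trans ((congrArg (x - ·) h0).trans (sub_zero x))⟩

/-- `T` is cofinite up to `I` -/
def Cofin {M : Type u} [AddCommGroup M] [Module A M] (T : Submodule A M) (I : Ideal A) : Prop :=
  ∃ N : Submodule A M, N.FG ∧ N ⊔ T ⊔ I • ⊤ = ⊤

lemma Cofin.mul {M : Type u} [AddCommGroup M] [Module A M] {T : Submodule A M} {I J : Ideal A}
    (h₁ : Cofin T I) (h₂ : Cofin T J) : Cofin T (I * J) := by
  obtain ⟨N, hN, e⟩ := h₁
  obtain ⟨N', hN', e'⟩ := h₂
  refine ⟨N ⊔ N', hN.sup hN', eq_top_iff.2 ?_⟩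
  have h1 : N ≤ N ⊔ N' ⊔ T ⊔ (I * J) • ⊤ := le_sup_of_le_left (le_sup_of_le_left le_sup_left)
  have h2 : T ≤ N ⊔ N' ⊔ T ⊔ (I * J) • ⊤ := le_sup_of_le_left le_sup_right
  have h3 : I • N' ≤ N ⊔ N' ⊔ T ⊔ (I * J) • ⊤ :=
    le_trans Submodule.smul_le_right (le_sup_of_le_left (le_sup_of_le_left le_sup_right))
  have h4 : I • T ≤ N ⊔ N' ⊔ T ⊔ (I * J) • ⊤ := le_trans Submodule.smul_le_right h2
  have h5 : I • (J • (⊤ : Submodule A M)) ≤ N ⊔ N' ⊔ T ⊔ (I * J) • ⊤ :=
    le_trans (le_of_eq (Submodule.mul_smul I J ⊤).symm) le_sup_right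
  have h6 : I • (⊤ : Submodule A M) ≤ N ⊔ N' ⊔ T ⊔ (I * J) • ⊤ := by
    conv_lhs => rw [← e']
    rw [Submodule.smul_sup, Submodule.smul_sup]
    exact sup_le (sup_le h3 h4) h5
  exact le_trans (le_of_eq e.symm) (sup_le (sup_le h1 h2) h6)

lemma Cofin.pow {M : Type u} [AddCommGroup M] [Module A M] {T : Submodule A M} {I : Ideal A}
    (h₁ : Cofin T I) (n : ℕ) : Cofin T (I ^ n) := by
  induction n with
  | zero => exact ⟨⊥, Submodule.fg_bot, by simp [pow_zero, Ideal.one_eq_top]⟩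
  | succ n ih => exact pow_succ I n ▸ ih.mul h₁

/-- top cohomology of a bounded above complex -/
def topHomologyIso (E : DRing.Cx A) (p m : ℤ) (hp : p + 1 = m) (hz : IsZero (E.X (m + 1))) :
    (DerivedCategory.homologyFunctor (ModuleCat.{u} A) m).obj (DRing.toD E) ≅
      ModuleCat.of A (E.X m ⧸ LinearMap.range (E.d p m).hom) :=
  (DerivedCategory.homologyFunctorFactors (ModuleCat.{u} A) m).app E ≪≫
    @asIso _ _ _ _ (E.homologyι m) (E.isIso_homologyι m (m + 1) (by simp) (hz.eq_of_tgt _ _)) ≪≫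
    opcyclesEquiv E p m hp

theorem exists_span_mod {M : Type u} [AddCommGroup M] [Module B M] (T : Submodule B M) [Module.Finite B (M ⧸ T)] :
    ∃ (r : ℕ) (y : Fin r → M), ∀ v, ∃ c : Fin r → B, v - ∑ j, c j • y j ∈ T := by
  obtain ⟨r, g, hg⟩ := Module.Finite.exists_fin' B (M ⧸ T)
  choose y hy using fun j => Submodule.Quotient.mk_surjective T (g (Pi.single j 1))
  refine ⟨r, y, fun v => ?_⟩
  obtain ⟨c, hc⟩ := hg (Submodule.Quotient.mk v)
  refine ⟨c, (Submodule.Quotient.eq T).1 (hc.symm.trans ?_)⟩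
  conv_lhs => rw [pi_eq_sum_univ' c, map_sum]
  rw [← Submodule.mkQ_apply, map_sum]
  refine Finset.sum_congr rfl fun j _ => ?_
  rw [map_smul, map_smul, Submodule.mkQ_apply, hy]

theorem cofin_of_approx (hφ : Function.Surjective φ) {Q : DRing.Cx A} {p m : ℤ} (hpm : p + 1 = m)
    (hz : ∀ i, m < i → IsZero (Q.X i)) (h : Approx p (DRing.toD ((Fc φ).obj Q))) :
    Cofin (LinearMap.range (Q.d p m).hom) (RingHom.ker φ) := by
  have hz' : ∀ i, m < i → IsZero (((Fc φ).obj Q).X i) := fun i hi => (ModuleCat.extendScalars.{u, u, u} φ).map_isZero (hz i hi)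
  haveI h0 := finite_HD hpm h fun q hq =>
    (DerivedCategory.isLE_iff _ _).1 (isLE_toD_of_vanishes (E := (Fc φ).obj Q) hz') q (by omega)
  haveI := Module.Finite.equiv (topHomologyIso ((Fc φ).obj Q) p m hpm (hz' _ (by omega))).toLinearEquiv
  let F := ModuleCat.extendScalars.{u, u, u} φ
  let T : Submodule B (F.obj (Q.X m)) := LinearMap.range (F.map (Q.d p m)).hom
  haveI : Module.Finite B (F.obj (Q.X m) ⧸ T) := this
  obtain ⟨r, y, hy⟩ := exists_span_mod T
  choose x hx using fun j => uExt_surjective φ hφ (Q.X m) (y j)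
  refine ⟨Submodule.span A (Set.range x), Submodule.fg_span (Set.finite_range x), eq_top_iff.2 fun w _ => ?_⟩
  obtain ⟨c, hc⟩ := hy (uExt φ (Q.X m) w)
  choose a ha using fun j => hφ (c j)
  let q : Q.X m →+ F.obj (Q.X m) := AddMonoidHom.mk' (uExt φ _) (uExt_add φ _)
  have hu : uExt φ (Q.X m) (∑ j, a j • x j) = ∑ j, c j • y j :=
    (map_sum q _ _).trans (Finset.sum_congr rfl fun j _ => (uExt_smul φ _ _ _).trans (by rw [hx, ha]))
  rw [← hu] at hc
  obtain ⟨z, hz1⟩ := hc
  obtain ⟨z, rfl⟩ := uExt_surjective φ hφ (Q.X p) z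
  have h2 : uExt φ (Q.X m) (w - ∑ j, a j • x j - (Q.d p m).hom z) = 0 := by
    have hsub : ∀ v w, uExt φ (Q.X m) (v - w) = uExt φ _ v - uExt φ _ w := fun v w =>
      map_sub (AddMonoidHom.mk' (uExt φ (Q.X m)) (uExt_add φ _)) v w
    rw [hsub, hsub, ← uExt_map, sub_eq_zero]
    exact hz1.symm
  rw [show w = (∑ j, a j • x j) + (Q.d p m).hom z + (w - ∑ j, a j • x j - (Q.d p m).hom z) by abel]
  exact add_mem (Submodule.mem_sup_left (add_mem
      (Submodule.mem_sup_left (Submodule.sum_mem _ fun j _ => Submodule.smul_mem _ _ (Submodule.subset_span ⟨j, rfl⟩)))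
      (Submodule.mem_sup_right ⟨z, rfl⟩))) (Submodule.mem_sup_right (uExt_eq_zero φ hφ _ h2))

/-- pseudo-coherence descends along nilpotent thickenings -/
theorem approx_of_lBaseChange_nilpotent [DRing.HasLBaseChange φ] [DRing.HasLBaseChange ψ] (hφ : Function.Surjective φ)
    (hψ : Function.Surjective ψ) (hnil : IsNilpotent (RingHom.ker φ * RingHom.ker ψ)) {K : Dual.D A} {n : ℤ}
    (h₁ : Approx n ((DRing.LBaseChange φ).obj K)) (h₂ : Approx n ((DRing.LBaseChange ψ).obj K)) : Approx n K := by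
  obtain ⟨b₁, hb₁⟩ := exists_isLE h₁
  obtain ⟨b₂, hb₂⟩ := exists_isLE h₂
  have hK : t.IsLE K (max b₁ b₂) := isLE_of_lBaseChange φ ψ hφ hψ hnil
    (t.isLE_of_le _ b₁ _ (le_max_left _ _)) (t.isLE_of_le _ b₂ _ (le_max_right _ _))
  obtain ⟨P, hPb, hPp, hPK, ⟨e⟩⟩ := exists_projective_le K _ hK
  haveI := hPK
  have k₁ := approx_of_iso (((DRing.LBaseChange φ).mapIso e).symm ≪≫ Groth.Agent.KProjRes.lBaseChangeIso φ P) h₁
  have k₂ := approx_of_iso (((DRing.LBaseChange ψ).mapIso e).symm ≪≫ Groth.Agent.KProjRes.lBaseChangeIso ψ P) h₂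
  refine approx_of_iso e ?_
  suffices key : ∀ (j : ℕ) (p : ℤ), n ≤ p → max b₁ b₂ ≤ p + j → Approx p (DRing.toD P) from
    key (max b₁ b₂ - n).toNat n le_rfl (by omega)
  intro j
  induction j with
  | zero => exact fun p _ hp => approx_of_isLE (isLE_toD_of_vanishes fun i hi => hPb i (by simp at hp; omega))
  | succ j ih =>
    intro p hp hp'
    obtain ⟨E, X, α, g, k, hE, hT, hX⟩ := ih (p + 1) (by omega) (by omega)
    haveI := hE.isKProjective
    obtain ⟨f, hf⟩ := exists_Q_map α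
    subst hf
    obtain ⟨e', -, -⟩ := exists_iso_of_arrow_iso _ _ (DerivedCategory.mappingCone_triangle_distinguished f) hT (Iso.refl _)
    let M := CochainComplex.mappingCone f
    have hM : t.IsLE (DRing.toD M) (p + 1) :=
      haveI : t.IsLE (Triangle.π₃.obj (Triangle.mk (DerivedCategory.Q.map f) g k)) (p + 1) := hX
      t.isLE_of_iso (Triangle.π₃.mapIso e').symm _
    haveI : CochainComplex.IsKProjective M := by
      rw [CochainComplex.isKProjective_iff_leftOrthogonal]
      exact (HomotopyCategory.subcategoryAcyclic (ModuleCat.{u} A)).leftOrthogonal.ext_of_isTriangulatedClosed₃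
        _ (HomotopyCategory.mappingCone_triangleh_distinguished f)
        ((CochainComplex.isKProjective_iff_leftOrthogonal E).1 inferInstance)
        ((CochainComplex.isKProjective_iff_leftOrthogonal P).1 inferInstance)
    obtain ⟨Q, hQb, -, hQK, ⟨eQ⟩⟩ := exists_projective_le _ (p + 1) hM
    haveI := hQK
    have step : ∀ {C : Type u} [CommRing C] (θ : A →+* C) [DRing.HasLBaseChange θ],
        Approx n (DRing.toD ((Fc θ).obj P)) → Approx p (DRing.toD ((Fc θ).obj Q)) := fun θ _ h =>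
      approx_of_iso (DerivedCategory.Q.mapIso (CochainComplex.mappingCone.mapHomologicalComplexIso f _).symm ≪≫
          (Groth.Agent.KProjRes.lBaseChangeIso θ M).symm ≪≫ (DRing.LBaseChange θ).mapIso eQ.symm ≪≫
          Groth.Agent.KProjRes.lBaseChangeIso θ Q)
        (approx_obj₃ _ (DerivedCategory.mappingCone_triangle_distinguished ((Fc θ).map f)) p
          (approx_toD (hE.extend θ) _) (approx_mono hp h))
    obtain ⟨N, hN⟩ := hnil
    obtain ⟨G, hG, hG'⟩ := ((cofin_of_approx φ hφ rfl hQb (step φ k₁)).mul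
      (cofin_of_approx ψ hψ rfl hQb (step ψ k₂))).pow N
    rw [hN, Submodule.zero_eq_bot, Submodule.bot_smul, sup_bot_eq] at hG'
    refine approx_obj₂ _ (DerivedCategory.mappingCone_triangle_distinguished f) p (approx_toD hE p)
      (approx_of_finite (hC := hM) rfl ?_)
    haveI : Module.Finite A (Q.X (p + 1) ⧸ LinearMap.range (Q.d p (p + 1)).hom) := by
      refine ⟨?_⟩
      have := congrArg (Submodule.map (LinearMap.range (Q.d p (p + 1)).hom).mkQ) hG'
      rw [Submodule.map_sup, Submodule.mkQ_map_self, sup_bot_eq] at this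
      rw [← Submodule.range_mkQ (LinearMap.range (Q.d p (p + 1)).hom), LinearMap.range_eq_map (LinearMap.range (Q.d p (p + 1)).hom).mkQ]
      exact this ▸ hG.map _
    exact Module.Finite.equiv ((topHomologyIso Q p (p + 1) rfl (hQb _ (by omega))).toLinearEquiv.symm.trans
      ((DerivedCategory.homologyFunctor (ModuleCat.{u} A) (p + 1)).mapIso eQ).toLinearEquiv)

/-- perfectness descends along nilpotent thickenings -/
theorem perfect_of_lBaseChange_nilpotent [DRing.HasLBaseChange φ] [DRing.HasLBaseChange ψ] (hφ : Function.Surjective φ)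
    (hψ : Function.Surjective ψ) (hnil : IsNilpotent (RingHom.ker φ * RingHom.ker ψ)) {K : Dual.D A}
    (h₁ : DRing.IsPerfect B ((DRing.LBaseChange φ).obj K)) (h₂ : DRing.IsPerfect B' ((DRing.LBaseChange ψ).obj K)) :
    DRing.IsPerfect A K := by
  obtain ⟨g₁, a₁, c₁, t₁⟩ := (perfect_iff _).1 h₁
  obtain ⟨g₂, a₂, c₂, t₂⟩ := (perfect_iff _).1 h₂
  obtain ⟨E, b, hb, hff, ⟨e⟩⟩ := (pc'_iff K).2 fun n => approx_of_lBaseChange_nilpotent φ ψ hφ hψ hnil (g₁ n) (g₂ n)
  have hfp : DRing.TermwiseFiniteProjective E := fun i => by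
    haveI := (hff i).2
    exact ⟨(hff i).1, inferInstance⟩
  have hproj : ∀ i, Projective (E.X i) := fun i => by
    haveI := (hff i).2
    exact (IsProjective.iff_projective (E.X i)).1 inferInstance
  haveI := isKProjective_of_le hb hproj
  obtain ⟨a, ha₁, ha₂⟩ : ∃ a, a ≤ a₁ ∧ a ≤ a₂ := ⟨min a₁ a₂, min_le_left _ _, min_le_right _ _⟩
  have hmod : ∀ {C : Type u} [CommRing C] (θ : A →+* C) [DRing.HasLBaseChange θ], Function.Surjective θ →
      ∀ c, DRing.HasTorAmplitudeIn C a c ((DRing.LBaseChange θ).obj K) → ∀ m : Ideal A, m.IsMaximal →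
        RingHom.ker θ ≤ m → ∀ j, j < a → ((Fc (Ideal.Quotient.mk m)).obj E).ExactAt j := by
    intro C _ θ _ hθ c hc m hm hle j hj
    have hproj' : ∀ i, Projective (((Fc θ).obj E).X i) := fun i => by
      haveI := (hfp i).2
      exact (ModuleCat.extendRestrictScalarsAdj.{u, u, u} θ).map_projective _ (hproj i)
    have hflat : ∀ i, Module.Flat C (((Fc θ).obj E).X i) := fun i => by
      haveI := hproj' i
      haveI : Module.Projective C (((Fc θ).obj E).X i) :=
        (IsProjective.iff_projective (((Fc θ).obj E).X i)).2 inferInstance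
      exact Module.Flat.of_projective
    have eC := (Groth.Agent.KProjRes.lBaseChangeIso θ E).symm ≪≫ (DRing.LBaseChange θ).mapIso e
    have hb' : ∀ i, b < i → IsZero (((Fc θ).obj E).X i) := fun i hi =>
      (ModuleCat.extendScalars.{u, u, u} θ).map_isZero (hb i hi)
    have hQ := flat_coker_of_torAmplitude (sub_add_cancel a 1) hb' hproj' eC hc
    have hx : ∀ i, i < a → ((Fc θ).obj E).ExactAt i := fun i hi =>
      exactAt_of_isGE_toD (haveI := isGE_of_torAmplitude hc; t.isGE_of_iso eC.symm a) hi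
    let ρ : C →+* A ⧸ m := θ.liftOfSurjective hθ ⟨Ideal.Quotient.mk m, hle.trans Ideal.mk_ker.ge⟩
    have hρ : ρ.comp θ = Ideal.Quotient.mk m := RingHom.liftOfSurjective_comp _ hθ _
    rw [← hρ]
    exact (exactAt_extend ρ (sub_add_cancel j 1) rfl (hx j hj)
      (flat_coker_below hflat hx (sub_add_cancel a 1) hQ j (j + 1) rfl (by omega))).of_iso
        ((NatIso.mapHomologicalComplex (ModuleCat.extendScalarsComp θ ρ) (ComplexShape.up ℤ)).app E).symm
  have hall : ∀ j, j < a → ∀ m : Ideal A, m.IsMaximal → ((Fc (Ideal.Quotient.mk m)).obj E).ExactAt j := by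
    intro j hj m hm
    obtain ⟨N, hN⟩ := hnil
    have : (RingHom.ker φ * RingHom.ker ψ) ^ N ≤ m := hN ▸ bot_le
    rcases hm.isPrime.mul_le.1 (hm.isPrime.le_of_pow_le this) with hle | hle
    · exact hmod φ hφ _ (torAmplitude_mono ha₁ le_rfl t₁) m hm hle j hj
    · exact hmod ψ hψ _ (torAmplitude_mono ha₂ le_rfl t₂) m hm hle j hj
  obtain ⟨E', hE', hE'fp, ⟨e'⟩⟩ := exists_trunc_projective E a (max a b) b hb hfp
    (fun i hi => HomologicalComplex.ExactAt.of_isZero (hb i (by omega))) (a - 1) (sub_add_cancel a 1)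
    (exact_and_projective_of_mod hfp (sub_add_cancel _ 1) (sub_add_cancel a 1)
      fun m hm => hall (a - 1) (by omega) m hm).2
  haveI : E.IsGE a := (E.isGE_iff a).2 fun i hi =>
    (exact_and_projective_of_mod hfp (sub_add_cancel i 1) rfl fun m hm => hall i hi m hm).1
  haveI := (E.quasiIso_πTruncGE_iff a).2 inferInstance
  exact ⟨E', a, _, hE', hE'fp, ⟨e' ≪≫ (asIso (DerivedCategory.Q.map (E.πTruncGE a))).symm ≪≫ e⟩⟩

end Groth.Agent.PseudoCoh
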