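import Groth.Agent.PseudoCoh.Coherent
import Groth.Agent.RegularLocal.GlobalDim
import Mathlib.RingTheory.Spectrum.Prime.FreeLocus
import Mathlib.RingTheory.Flat.Equalizer

/-!
# Perfect objects over regular rings
-/

set_option autoImplicit false

universe u

open CategoryTheory CategoryTheory.Limits DerivedCategory DerivedCategory.TStructure
open scoped TensorProduct
open Groth.Agent.RegularLocal.GlobalDim

attribute [local instance] HasDerivedCategory.standard

noncomputable section

namespace Groth.Agent.PseudoCoh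

/-- in a chain of syzygies over a regular local ring the modules eventually become projective -/
theorem projective_of_syzygies {S : Type u} [CommRing S] [IsRegularLocalRing S] (Q F : ℕ → Type u)
    [∀ k, AddCommGroup (Q k)] [∀ k, Module S (Q k)] [∀ k, AddCommGroup (F k)] [∀ k, Module S (F k)]
    [∀ k, Module.Projective S (F k)] (f : ∀ k, F k →ₗ[S] Q k) (hf : ∀ k, Function.Surjective (f k))
    (e : ∀ k, Q (k + 1) ≃ₗ[S] LinearMap.ker (f k)) :
    ∃ d, ∀ k, d ≤ k → Module.Projective S (Q k) := by
  let d := (IsLocalRing.maximalIdeal S).spanFinrank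
  have key : ∀ k : ℕ, k ≤ d → HasProjectiveDimensionLT (ModuleCat.of S (Q k)) (d - k + 1) := by
    intro k
    induction k with
    | zero => exact fun _ => pdLT (Q 0)
    | succ k ih =>
      intro hk
      have h := ih (by omega)
      rw [show d - k + 1 = (d - (k + 1)) + 2 by omega] at h
      exact pdLT_congr (e k).symm ((pdLT_syzygy (f k) (hf k) _).1 h)
  refine ⟨d, fun k hk => ?_⟩
  induction k, hk using Nat.le_induction with
  | base => exact pdLT_one.1 (by simpa using key d le_rfl)
  | succ k _ ih =>
    haveI := ih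
    obtain ⟨s, hs⟩ := Module.projective_lifting_property (f k) LinearMap.id (hf k)
    let p : F k →ₗ[S] LinearMap.ker (f k) := (LinearMap.id - s ∘ₗ f k).codRestrict _ fun x => by
      have := LinearMap.congr_fun hs (f k x)
      rw [LinearMap.mem_ker, LinearMap.sub_apply, map_sub, sub_eq_zero]
      exact this.symm
    haveI : Module.Projective S (LinearMap.ker (f k)) := Module.Projective.of_split (LinearMap.ker (f k)).subtype p
      (LinearMap.ext fun z => Subtype.ext (by
        change z.1 - s (f k z.1) = z.1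
        rw [z.2, map_zero, sub_zero]))
    exact Module.Projective.of_equiv (e k).symm

/-- tensoring a chain of syzygies -/
theorem projective_tensor_syzygies {R : Type u} [CommRing R] {S : Type u} [CommRing S] [Algebra R S] [Module.Flat R S]
    [IsRegularLocalRing S] (Q F : ℕ → Type u)
    [∀ k, AddCommGroup (Q k)] [∀ k, Module R (Q k)] [∀ k, AddCommGroup (F k)] [∀ k, Module R (F k)]
    [∀ k, Module.Projective R (F k)] (f : ∀ k, F k →ₗ[R] Q k) (hf : ∀ k, Function.Surjective (f k))
    (e : ∀ k, Q (k + 1) ≃ₗ[R] LinearMap.ker (f k)) :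
    ∃ d, ∀ k, d ≤ k → Module.Projective S (S ⊗[R] Q k) :=
  projective_of_syzygies (fun k => S ⊗[R] Q k) (fun k => S ⊗[R] F k)
    (fun k => TensorProduct.AlgebraTensorModule.lTensor S S (f k))
    (fun k => LinearMap.lTensor_surjective S (hf k))
    fun k => (TensorProduct.AlgebraTensorModule.congr (LinearEquiv.refl S S) (e k)).trans
      (LinearMap.tensorKerEquiv S S (f k))

theorem projective_tensor_mono {R : Type u} [CommRing R] {S : Type u} [CommRing S] [Algebra R S] [Module.Flat R S]
    (Q F : ℕ → Type u)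
    [∀ k, AddCommGroup (Q k)] [∀ k, Module R (Q k)] [∀ k, AddCommGroup (F k)] [∀ k, Module R (F k)]
    [∀ k, Module.Projective R (F k)] (f : ∀ k, F k →ₗ[R] Q k) (hf : ∀ k, Function.Surjective (f k))
    (e : ∀ k, Q (k + 1) ≃ₗ[R] LinearMap.ker (f k)) {j : ℕ} (h : Module.Projective S (S ⊗[R] Q j)) {k : ℕ}
    (hk : j ≤ k) : Module.Projective S (S ⊗[R] Q k) := by
  induction k, hk using Nat.le_induction with
  | base => exact h
  | succ k _ ih =>
    haveI := ih
    let g := TensorProduct.AlgebraTensorModule.lTensor S S (f k)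
    have hg : Function.Surjective g := LinearMap.lTensor_surjective S (hf k)
    haveI : Module.Projective S (LinearMap.ker g) :=
      haveI : Module.Projective S (LinearMap.range g) :=
        Module.Projective.of_equiv (LinearEquiv.ofTop _ (LinearMap.range_eq_top.2 hg)).symm
      projective_ker g
    exact Module.Projective.of_equiv ((TensorProduct.AlgebraTensorModule.congr (LinearEquiv.refl S S) (e k)).trans
      (LinearMap.tensorKerEquiv S S (f k))).symm

variable {R : Type u} [CommRing R] [IsNoetherianRing R]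

/-- perfect objects over regular rings -/
theorem perfect_of_regular (hreg : ∀ p : PrimeSpectrum R, IsRegularLocalRing (Localization.AtPrime p.asIdeal))
    (K : Dual.D R) (a : ℤ) (hge : t.IsGE K a) (hpc : DRing.IsPseudoCoherent' R K) : DRing.IsPerfect R K := by
  obtain ⟨P, b, hb, hff, ⟨e⟩⟩ := hpc
  have hfp : DRing.TermwiseFiniteProjective P := fun i => by
    haveI := (hff i).2
    exact ⟨(hff i).1, inferInstance⟩
  haveI := fun i => (hfp i).1
  haveI := fun i => (hfp i).2
  have hx : ∀ i, i < a → P.ExactAt i := fun i hi => exactAt_of_isGE_toD (t.isGE_of_iso e.symm a) hi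
  let Q : ℕ → Type u := fun k => P.X (a - k) ⧸ LinearMap.range (P.d (a - k - 1) (a - k)).hom
  let F : ℕ → Type u := fun k => P.X (a - k)
  let f : ∀ k, F k →ₗ[R] Q k := fun k => Submodule.mkQ _
  have hQk : ∀ k : ℕ, Nonempty (Q (k + 1) ≃ₗ[R] LinearMap.ker (f k)) := by
    intro k
    have hl : a - ((k + 1 : ℕ) : ℤ) = a - k - 1 := by push_cast; ring
    change Nonempty ((P.X (a - ((k + 1 : ℕ) : ℤ)) ⧸ LinearMap.range (P.d (a - ((k + 1 : ℕ) : ℤ) - 1) (a - ((k + 1 : ℕ) : ℤ))).hom) ≃ₗ[R] _)
    rw [hl]
    exact ⟨((Submodule.quotEquivOfEq _ _ (range_eq_ker P (i := a - k - 1 - 1) (j := a - k - 1) (k := a - k)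
      (by omega) (by omega) (hx _ (by omega)))).trans (P.d (a - k - 1) (a - k)).hom.quotKerEquivRange).trans
      (LinearEquiv.ofEq _ _ (Submodule.ker_mkQ _).symm)⟩
  haveI : ∀ k, Module.Projective R (F k) := fun k => (hfp _).2
  haveI : ∀ k, Module.FinitePresentation R (Q k) := fun k => Module.finitePresentation_of_finite R _
  have hloc : ∀ p : PrimeSpectrum R, ∃ d : ℕ, ∀ k, d ≤ k → p ∈ Module.freeLocus R (Q k) := fun p => by
    haveI := hreg p
    obtain ⟨d, hd⟩ := projective_tensor_syzygies (S := Localization.AtPrime p.asIdeal) Q F f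
      (fun k => Submodule.mkQ_surjective _) fun k => (hQk k).some
    refine ⟨d, fun k hk => ?_⟩
    haveI := hd k hk
    rw [Module.mem_freeLocus_iff_tensor p (Localization.AtPrime p.asIdeal)]
    exact Module.free_of_flat_of_isLocalRing
  choose d hd using hloc
  obtain ⟨t₀, ht⟩ := isCompact_univ.elim_finite_subcover (fun p => Module.freeLocus R (Q (d p)))
    (fun _ => Module.isOpen_freeLocus) fun p _ => Set.mem_iUnion.2 ⟨p, hd p _ le_rfl⟩
  obtain ⟨N, hN⟩ : ∃ N : ℕ, Module.Projective R (Q N) := by
    refine ⟨t₀.sup d, (Module.freeLocus_eq_univ_iff).1 (Set.eq_univ_of_forall fun q => ?_)⟩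
    obtain ⟨p, hp, hq⟩ := Set.mem_iUnion₂.1 (ht (Set.mem_univ q))
    haveI := hreg q
    have h1 : Module.Projective (Localization.AtPrime q.asIdeal) (Localization.AtPrime q.asIdeal ⊗[R] Q (d p)) :=
      haveI := (Module.mem_freeLocus_iff_tensor q (Localization.AtPrime q.asIdeal)).1 hq
      Module.Projective.of_free
    haveI := projective_tensor_mono (S := Localization.AtPrime q.asIdeal) Q F f (fun k => Submodule.mkQ_surjective _)
      (fun k => (hQk k).some) h1 (Finset.le_sup hp)
    rw [Module.mem_freeLocus_iff_tensor q (Localization.AtPrime q.asIdeal)]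
    exact Module.free_of_flat_of_isLocalRing
  haveI : P.IsGE (a - N) := (P.isGE_iff _).2 fun i hi => hx i (by omega)
  haveI := (P.quasiIso_πTruncGE_iff (a - N)).2 inferInstance
  obtain ⟨E, hE, hEfp, ⟨e'⟩⟩ := exists_trunc_projective P (a - N) (max b (a - N)) b hb hfp
    (fun i hi => HomologicalComplex.ExactAt.of_isZero (hb i (by omega))) (a - N - 1) (by omega) hN
  exact ⟨E, a - N, _, hE, hEfp, ⟨e' ≪≫ (asIso (DerivedCategory.Q.map (P.πTruncGE (a - N)))).symm ≪≫ e⟩⟩

end Groth.Agent.PseudoCoh
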