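import Groth.Agent.PseudoCoh.HomVanishing
import Mathlib.CategoryTheory.Triangulated.TStructure.TruncLTGE

/-!
# Truncations of projective complexes and splittings
-/

set_option autoImplicit false

universe u

open CategoryTheory CategoryTheory.Limits CategoryTheory.Pretriangulated DerivedCategory DerivedCategory.TStructure

attribute [local instance] HasDerivedCategory.standard

noncomputable section

namespace Groth.Agent.PseudoCoh

variable {A : Type u} [CommRing A]

local notation "Hm" => DerivedCategory.homologyFunctor (ModuleCat A)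

/-- the canonical truncation of a complex computes the t-structure truncation -/
theorem nonempty_truncGEIso {P : DRing.Cx A} {K : Dual.D A} (e : DRing.toD P ≅ K) (n : ℤ) :
    Nonempty (DRing.toD (P.truncGE n) ≅ (t.truncGE n).obj K) := by
  have hge : t.IsGE (DRing.toD (P.truncGE n)) n := isGE_toD_of_vanishes fun i hi => truncGE_isZero P n hi
  let f : K ⟶ DRing.toD (P.truncGE n) := e.inv ≫ DerivedCategory.Q.map (P.πTruncGE n)
  haveI := hge
  let φ := t.descTruncGE f n
  haveI : IsIso φ := by
    rw [DerivedCategory.isIso_iff]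
    intro i
    rcases lt_or_ge i n with hi | hi
    · exact isIso_of_source_target_iso_zero _
        ((DerivedCategory.isGE_iff _ _).1 (inferInstanceAs (t.IsGE ((t.truncGE n).obj K) n)) i hi).isoZero
        ((DerivedCategory.isGE_iff _ _).1 hge i hi).isoZero
    · have h1 : IsIso ((Hm i).map f) := by
        haveI : IsIso ((Hm i).map (DerivedCategory.Q.map (P.πTruncGE n))) := by
          haveI := P.quasiIsoAt_πTruncGE n i hi
          exact (NatIso.isIso_map_iff (DerivedCategory.homologyFunctorFactors (ModuleCat.{u} A) i) (P.πTruncGE n)).2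
            ((quasiIsoAt_iff_isIso_homologyMap (P.πTruncGE n) i).1 inferInstance)
        rw [Functor.map_comp]
        infer_instance
      have hT := t.triangleLTGE_distinguished n K
      have z1 : ∀ j, n - 1 < j → IsZero ((Hm j).obj ((t.truncLT n).obj K)) :=
        (DerivedCategory.isLE_iff _ _).1 (inferInstanceAs (t.IsLE ((t.truncLT n).obj K) (n - 1)))
      haveI : Mono ((Hm i).map ((t.truncGEπ n).app K)) :=
        (HomologySequence.mono_homologyMap_mor₂_iff _ hT i).2 ((z1 i (by omega)).eq_of_src _ _)
      haveI : Epi ((Hm i).map ((t.truncGEπ n).app K)) :=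
        (HomologySequence.epi_homologyMap_mor₂_iff _ hT i (i + 1) rfl).2 ((z1 (i + 1) (by omega)).eq_of_tgt _ _)
      haveI := isIso_of_mono_of_epi ((Hm i).map ((t.truncGEπ n).app K))
      haveI : IsIso ((Hm i).map ((t.truncGEπ n).app K) ≫ (Hm i).map φ) := by
        rw [← Functor.map_comp, t.π_descTruncGE]
        exact h1
      exact IsIso.of_isIso_comp_left ((Hm i).map ((t.truncGEπ n).app K)) _
  exact ⟨(asIso φ).symm⟩

/-- a projective cokernel gives a projective representative of `τ_{≥ n}` -/
theorem exists_projective_truncGE {P : DRing.Cx A} {K : Dual.D A} (e : DRing.toD P ≅ K) {i₀ n b : ℤ} (hi₀ : i₀ + 1 = n)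
    (hb : ∀ i, b < i → IsZero (P.X i)) (hp : ∀ i, Projective (P.X i))
    (hQ : Module.Projective A (P.X n ⧸ LinearMap.range (P.d i₀ n).hom)) :
    ∃ E : DRing.Cx A, DRing.VanishesOutside E n (max b n) ∧ (∀ i, Module.Projective A (E.X i)) ∧
      Nonempty (DRing.toD E ≅ (t.truncGE n).obj K) := by
  refine ⟨P.truncGE n, fun i hi => hi.elim (truncGE_isZero P n) fun h => (hb i (by omega)).of_iso (P.truncGEXIso n i (by omega)),
    fun i => ?_, nonempty_truncGEIso e n⟩
  rcases lt_trichotomy i n with h | rfl | h
  · haveI := ModuleCat.subsingleton_of_isZero (truncGE_isZero P n h)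
    haveI := Module.Free.of_subsingleton A ((P.truncGE n).X i)
    exact Module.Projective.of_free
  · haveI := hQ
    exact Module.Projective.of_equiv ((P.truncGEXIsoOpcycles i) ≪≫ opcyclesEquiv P i₀ i hi₀).symm.toLinearEquiv
  · haveI : Module.Projective A (P.X i) := by
      haveI := hp i
      exact (IsProjective.iff_projective (P.X i)).2 inferInstance
    exact Module.Projective.of_equiv (P.truncGEXIso n i h).symm.toLinearEquiv

/-- morphisms from complexes of projectives in degrees `≥ n + 1` to objects `≤ n` vanish -/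
theorem eq_zero_of_projective {E : DRing.Cx A} {L C : Dual.D A} (e : DRing.toD E ≅ L) {n b : ℤ}
    (hE : DRing.VanishesOutside E (n + 1) b) (hp : ∀ i, Module.Projective A (E.X i)) (hC : t.IsLE C n) (f : L ⟶ C) :
    f = 0 := by
  haveI := isKProjective_of_le (P := E) (fun i hi => hE i (Or.inr hi)) fun i =>
    haveI := hp i
    (IsProjective.iff_projective (E.X i)).1 inferInstance
  rw [← cancel_epi e.hom, comp_zero]
  exact eq_zero_of_isLE (fun i hi => hE i (Or.inl (by omega))) (hC := hC) _

/-- splitting of a truncation triangle -/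
theorem exists_split (T : Triangle (Dual.D A)) (hT : T ∈ distTriang _) {E : DRing.Cx A} (e : DRing.toD E ≅ T.obj₃)
    {n b : ℤ} (hE : DRing.VanishesOutside E (n + 1) b) (hp : ∀ i, Module.Projective A (E.X i))
    (h₁ : t.IsLE T.obj₁ (n + 1)) [HasBinaryBiproduct T.obj₁ T.obj₃] :
    ∃ i : T.obj₂ ≅ T.obj₁ ⊞ T.obj₃, T.mor₁ ≫ i.hom = biprod.inl ∧ i.hom ≫ biprod.snd = T.mor₂ := by
  obtain ⟨i, h1, h2⟩ := exists_iso_binaryBiproduct_of_distTriang T hT
    (eq_zero_of_projective e hE hp (t.isLE_shift T.obj₁ (n + 1) 1 n (by omega)) T.mor₃)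
  exact ⟨i, h1, h2.symm⟩

end Groth.Agent.PseudoCoh
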