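import Groth.Agent.PseudoCoh.Regular
import Groth.Agent.PseudoCoh.Split
import Mathlib.RingTheory.Ideal.Height

/-!
# Regular rings of finite dimension: global dimension and gaps in cohomology
-/

set_option autoImplicit false

universe u

open CategoryTheory CategoryTheory.Limits CategoryTheory.Pretriangulated DerivedCategory DerivedCategory.TStructure
open scoped TensorProduct
open Groth.Agent.RegularLocal.GlobalDim

attribute [local instance] HasDerivedCategory.standard

noncomputable section

namespace Groth.Agent.PseudoCoh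

variable {R : Type u} [CommRing R] [IsNoetherianRing R]

theorem pdLT_finite_of_local : ∀ (n : ℕ) (M : Type u) [AddCommGroup M] [Module R M] [Module.Finite R M],
    (∀ p : PrimeSpectrum R, HasProjectiveDimensionLT
      (ModuleCat.of (Localization.AtPrime p.asIdeal) (Localization.AtPrime p.asIdeal ⊗[R] M)) (n + 1)) →
    HasProjectiveDimensionLT (ModuleCat.of R M) (n + 1) := by
  intro n
  induction n with
  | zero =>
    intro M _ _ _ h
    haveI := Module.finitePresentation_of_finite R M
    refine pdLT_one.2 (Module.freeLocus_eq_univ_iff.1 (Set.eq_univ_of_forall fun p => ?_))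
    haveI := pdLT_one.1 (h p)
    rw [Module.mem_freeLocus_iff_tensor p (Localization.AtPrime p.asIdeal)]
    exact Module.free_of_flat_of_isLocalRing
  | succ n ih =>
    intro M _ _ _ h
    obtain ⟨r, f, hf⟩ := Module.Finite.exists_fin' R M
    haveI : Module.Finite R (LinearMap.ker f) := Module.Finite.iff_fg.2 (IsNoetherian.noetherian _)
    refine (pdLT_syzygy f hf n).2 (ih (LinearMap.ker f) fun p => ?_)
    exact pdLT_congr (LinearMap.tensorKerEquiv (Localization.AtPrime p.asIdeal) (Localization.AtPrime p.asIdeal) f).symm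
      ((pdLT_syzygy (TensorProduct.AlgebraTensorModule.lTensor (Localization.AtPrime p.asIdeal)
        (Localization.AtPrime p.asIdeal) f) (LinearMap.lTensor_surjective _ hf) n).1 (h p))

/-- global dimension of a regular ring of finite dimension -/
theorem pdLT_of_regular (hreg : ∀ p : PrimeSpectrum R, IsRegularLocalRing (Localization.AtPrime p.asIdeal)) (d : ℕ)
    (hd : ringKrullDim R ≤ d) (M : Type u) [AddCommGroup M] [Module R M] :
    HasProjectiveDimensionLT (ModuleCat.of R M) (d + 1) := by
  refine hasProjectiveDimensionLT_of_enoughInjectives _ _ fun Y => ?_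
  refine subsingleton_ext_of_finite _ Y (fun L _ _ _ => ?_) _
  haveI : HasProjectiveDimensionLT (ModuleCat.of R L) (d + 1) := pdLT_finite_of_local d L fun p => by
    haveI := hreg p
    haveI := pdLT (R := Localization.AtPrime p.asIdeal) (Localization.AtPrime p.asIdeal ⊗[R] L)
    refine hasProjectiveDimensionLT_of_ge _
      ((IsLocalRing.maximalIdeal (Localization.AtPrime p.asIdeal)).spanFinrank + 1) (d + 1) ?_
    have h1 : ringKrullDim (Localization.AtPrime p.asIdeal) ≤ (d : WithBot ℕ∞) := by
      rw [IsLocalization.AtPrime.ringKrullDim_eq_height p.asIdeal]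
      exact le_trans (Ideal.height_le_ringKrullDim_of_ne_top p.isPrime.ne_top) hd
    rw [← IsRegularLocalRing.spanFinrank_maximalIdeal] at h1
    have : (IsLocalRing.maximalIdeal (Localization.AtPrime p.asIdeal)).spanFinrank ≤ d := by exact_mod_cast h1
    omega
  exact HasProjectiveDimensionLT.subsingleton _ _ _ le_rfl Y

omit [IsNoetherianRing R] in
/-- deep cokernels in a complex of projectives over a ring of global dimension `≤ d` -/
theorem projective_coker_of_pd {d : ℕ}
    (hgl : ∀ (M : Type u) [AddCommGroup M] [Module R M], HasProjectiveDimensionLT (ModuleCat.of R M) (d + 1))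
    {P : DRing.Cx R} (hp : ∀ i, Projective (P.X i)) {n : ℤ} (hx : ∀ i, i < n → P.ExactAt i) (p : ℤ)
    (hpn : p + 1 = n - d) : Module.Projective R (P.X (n - d) ⧸ LinearMap.range (P.d p (n - d)).hom) := by
  suffices key : ∀ (j : ℕ), j ≤ d → ∀ q m : ℤ, q + 1 = m → m = n - j →
      HasProjectiveDimensionLT (ModuleCat.of R (P.X m ⧸ LinearMap.range (P.d q m).hom)) (d - j + 1) from
    pdLT_one.1 (by simpa using key d le_rfl p (n - d) hpn rfl)
  intro j
  induction j with
  | zero => exact fun _ q m _ _ => hgl _
  | succ j ih =>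
    intro hj q m hq hm
    obtain ⟨m', hm'⟩ : ∃ m', m + 1 = m' := ⟨m + 1, rfl⟩
    have h := ih (by omega) m m' hm' (by push_cast at hm; omega)
    rw [show d - j + 1 = (d - (j + 1)) + 2 by omega] at h
    haveI := hp m'
    haveI : Module.Projective R (P.X m') := (IsProjective.iff_projective (P.X m')).2 inferInstance
    have hm2 : m < n := by push_cast at hm; omega
    exact pdLT_congr (((Submodule.quotEquivOfEq _ _ (range_eq_ker P hq hm' (hx m hm2))).trans
      (P.d m m').hom.quotKerEquivRange).trans (LinearEquiv.ofEq _ _ (Submodule.ker_mkQ _).symm)).symm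
      ((pdLT_syzygy (LinearMap.range (P.d m m').hom).mkQ (Submodule.mkQ_surjective _) _).1 h)

/-- morphisms across a gap of length `d` vanish -/
theorem eq_zero_of_gap (hreg : ∀ p : PrimeSpectrum R, IsRegularLocalRing (Localization.AtPrime p.asIdeal)) (d : ℕ)
    (hd : ringKrullDim R ≤ d) {K L : Dual.D R} {k b : ℤ} (hb : t.IsLE K b) (hK : t.IsGE K (k + 1))
    (hL : t.IsLE L (k - d)) (f : K ⟶ L) : f = 0 := by
  obtain ⟨P, hPb, hPp, -, ⟨e⟩⟩ := exists_projective_le K b hb
  have hx : ∀ i, i < k + 1 → P.ExactAt i := fun i hi =>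
    exactAt_of_isGE_toD (t.isGE_of_iso e.symm (k + 1)) hi
  haveI : P.IsGE (k - d + 1) := (P.isGE_iff _).2 fun i hi => hx i (by omega)
  haveI := (P.quasiIso_πTruncGE_iff (k - d + 1)).2 inferInstance
  have hQ := projective_coker_of_pd (pdLT_of_regular hreg d hd) hPp hx (k - d) (by omega)
  rw [show k + 1 - (d : ℤ) = k - d + 1 by omega] at hQ
  obtain ⟨E, hE, hEp, ⟨eE⟩⟩ := exists_projective_truncGE e (i₀ := k - d) rfl hPb hPp hQ
  haveI : t.IsGE K (k - d + 1) := t.isGE_of_ge K _ (k + 1) (by omega)
  haveI := (t.isGE_iff_isIso_truncGEπ_app (k - d + 1) K).1 inferInstance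
  exact eq_zero_of_projective (eE ≪≫ (asIso ((t.truncGEπ (k - d + 1)).app K)).symm) hE hEp hL f

end Groth.Agent.PseudoCoh
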