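import Groth.Agent.PseudoCoh.BaseChangeAmp
import Mathlib.RingTheory.Finiteness.Nakayama
import Mathlib.LinearAlgebra.TensorProduct.Quotient
import Mathlib.Algebra.Module.Torsion.Basic
import Mathlib.Algebra.Polynomial.Module.AEval

/-!
# Splitting criteria modulo maximal ideals
-/

set_option autoImplicit false

universe u

open CategoryTheory CategoryTheory.Limits TensorProduct Polynomial

attribute [local instance] HasDerivedCategory.standard

noncomputable section

namespace Groth.Agent.PseudoCoh

variable {A : Type u} [CommRing A]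

/-- a map from a finite module to a projective module which is injective modulo every maximal ideal
has a retraction -/
theorem exists_retraction_of_injective_mod {C F : Type u} [AddCommGroup C] [Module A C] [AddCommGroup F] [Module A F]
    [Module.Finite A C] [Module.Projective A F] (f : C →ₗ[A] F)
    (h : ∀ m : Ideal A, m.IsMaximal → ∀ c, f c ∈ (m • ⊤ : Submodule A F) → c ∈ (m • ⊤ : Submodule A C)) :
    ∃ r : F →ₗ[A] C, r ∘ₗ f = LinearMap.id := by
  classical
  let S : Ideal A :=
    { carrier := {u | ∃ r : F →ₗ[A] C, r ∘ₗ f = u • LinearMap.id}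
      zero_mem' := ⟨0, by simp⟩
      add_mem' := by
        rintro a b ⟨r, hr⟩ ⟨s, hs⟩
        exact ⟨r + s, by rw [LinearMap.add_comp, hr, hs, add_smul]⟩
      smul_mem' := by
        rintro c a ⟨r, hr⟩
        exact ⟨c • r, by rw [LinearMap.smul_comp, hr, smul_smul, smul_eq_mul]⟩ }
  suffices hS : S = ⊤ by
    obtain ⟨r, hr⟩ : (1 : A) ∈ S := hS ▸ Submodule.mem_top
    exact ⟨r, hr.trans (one_smul _ _)⟩
  by_contra hne
  obtain ⟨m, hm, hle⟩ := Ideal.exists_le_maximal S hne
  letI := Ideal.Quotient.field m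
  let MC : Submodule A C := m • ⊤
  let MF : Submodule A F := m • ⊤
  let f₁ : (C ⧸ MC) →ₗ[A] (F ⧸ MF) := Submodule.mapQ MC MF f (by
    refine Submodule.smul_le.2 fun a ha x _ => ?_
    rw [Submodule.mem_comap, map_smul]
    exact Submodule.smul_mem_smul ha Submodule.mem_top)
  let f₂ : (C ⧸ MC) →ₗ[A ⧸ m] (F ⧸ MF) := f₁.extendScalarsOfSurjective Ideal.Quotient.mk_surjective
  obtain ⟨l, hl⟩ := f₂.exists_leftInverse_of_injective (LinearMap.ker_eq_bot.2 ((injective_iff_map_eq_zero _).2 fun x hx => by
    obtain ⟨c, rfl⟩ := Submodule.Quotient.mk_surjective _ x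
    exact (Submodule.Quotient.mk_eq_zero _).2 (h m hm c ((Submodule.Quotient.mk_eq_zero _).1 hx))))
  obtain ⟨g, hg⟩ := Module.projective_lifting_property MC.mkQ (l.restrictScalars A ∘ₗ MF.mkQ) (Submodule.mkQ_surjective _)
  let ψ : C →ₗ[A] C := g ∘ₗ f
  have hψ : ∀ c, c - ψ c ∈ MC := fun c => by
    refine (Submodule.Quotient.eq _).1 ?_
    refine (congrArg (fun k => k (Submodule.Quotient.mk c)) hl).symm.trans ?_
    exact (congrArg (fun k => k (f c)) hg).symm
  let I : Ideal A[X] := Ideal.span {(X : A[X])} ⊔ m.map Polynomial.C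
  let N := Module.AEval' ψ
  haveI : Module.Finite A[X] N := inferInstance
  have hle' : (⊤ : Submodule A[X] N) ≤ I • ⊤ := by
    intro n _
    obtain ⟨c, rfl⟩ := (Module.AEval'.of ψ).surjective n
    rw [show c = ψ c + (c - ψ c) from (add_sub_cancel _ _).symm, map_add]
    refine add_mem ?_ ?_
    · rw [← Module.AEval'.X_smul_of]
      exact Submodule.smul_mem_smul (Ideal.mem_sup_left (Ideal.mem_span_singleton_self _)) Submodule.mem_top
    · refine Submodule.smul_induction_on (hψ c) (fun a ha x _ => ?_) (fun x y hx hy => by rw [map_add]; exact add_mem hx hy)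
      rw [map_smul, ← Module.AEval.C_smul]
      exact Submodule.smul_mem_smul (Ideal.mem_sup_right (Ideal.mem_map_of_mem _ ha)) Submodule.mem_top
  obtain ⟨p, hp1, hp⟩ := Submodule.exists_sub_one_mem_and_smul_eq_zero_of_fg_of_le_smul I ⊤ Module.Finite.fg_top hle'
  have hc : p.coeff 0 - 1 ∈ m := by
    have : I ≤ m.comap (Polynomial.constantCoeff) := by
      refine sup_le ((Ideal.span_singleton_le_iff_mem _).2 (by simp)) (Ideal.map_le_iff_le_comap.2 fun a ha => ?_)
      simpa using ha
    simpa using this hp1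
  have hmem : p.coeff 0 ∈ S := by
    refine ⟨-(Polynomial.aeval ψ p.divX) ∘ₗ g, LinearMap.ext fun c => ?_⟩
    have h0 : Polynomial.aeval ψ p c = 0 := by
      have := hp (Module.AEval'.of ψ c) Submodule.mem_top
      rw [← Module.AEval.of_aeval_smul] at this
      exact (LinearEquiv.map_eq_zero_iff _).1 this
    rw [← Polynomial.divX_mul_X_add p, map_add, map_mul, Polynomial.aeval_C, Polynomial.aeval_X] at h0
    simp only [LinearMap.neg_comp, LinearMap.neg_apply, LinearMap.comp_apply, LinearMap.smul_apply, LinearMap.id_apply]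
    rw [neg_eq_iff_add_eq_zero]
    simpa [ψ, Module.algebraMap_end_apply] using h0
  exact hm.ne_top ((Ideal.eq_top_iff_one m).2 (by simpa using sub_mem (hle hmem) hc))

/-- a complex of finite projective modules which is exact modulo every maximal ideal at `j` is exact at `j`
and the following cokernel is projective -/
theorem exact_and_projective_of_mod {P : DRing.Cx A} (hfp : DRing.TermwiseFiniteProjective P) {i j k : ℤ}
    (hij : i + 1 = j) (hjk : j + 1 = k)
    (h : ∀ m : Ideal A, m.IsMaximal → ((Fc (Ideal.Quotient.mk m)).obj P).ExactAt j) :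
    P.ExactAt j ∧ Module.Projective A (P.X k ⧸ LinearMap.range (P.d j k).hom) := by
  let R := LinearMap.range (P.d i j).hom
  let f : (P.X j ⧸ R) →ₗ[A] P.X k := Submodule.liftQ R (P.d j k).hom (by
    rintro _ ⟨x, rfl⟩
    exact ConcreteCategory.congr_hom (P.d_comp_d i j k) x)
  haveI := (hfp j).1; haveI := (hfp k).2
  obtain ⟨r, hr⟩ := exists_retraction_of_injective_mod f (fun m hm c hc => by
    obtain ⟨x, rfl⟩ := Submodule.Quotient.mk_surjective _ c
    letI := (Ideal.Quotient.mk m).toAlgebra
    have hzero : ∀ (M : Type u) [AddCommGroup M] [Module A M] (y : M),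
        (1 : A ⧸ m) ⊗ₜ[A] y = 0 ↔ y ∈ (m • ⊤ : Submodule A M) := fun M _ _ y => by
      rw [← (TensorProduct.quotTensorEquivQuotSMul M m).map_eq_zero_iff,
        show (1 : A ⧸ m) = Ideal.Quotient.mk m 1 from rfl, TensorProduct.quotTensorEquivQuotSMul_mk_tmul, one_smul,
        Submodule.Quotient.mk_eq_zero]
    have hx := h m hm
    rw [HomologicalComplex.exactAt_iff' _ i j k (by simp; omega) (by simp; omega),
      ShortComplex.moduleCat_exact_iff] at hx
    obtain ⟨y, hy⟩ := hx ((1 : A ⧸ m) ⊗ₜ[A] x) (by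
      refine Eq.trans ?_ ((hzero _ ((P.d j k).hom x)).2 hc)
      exact rfl)
    obtain ⟨y', rfl⟩ : ∃ y', (1 : A ⧸ m) ⊗ₜ[A] y' = y := TensorProduct.mk_surjective A (P.X i) (A ⧸ m) Ideal.Quotient.mk_surjective y
    have h0 : x - (P.d i j).hom y' ∈ (m • ⊤ : Submodule A (P.X j)) := (hzero _ _).1 (by
      rw [tmul_sub, sub_eq_zero]; exact hy.symm)
    rw [← Submodule.range_mkQ R, ← Submodule.map_top, ← Submodule.map_smul'']
    exact ⟨_, h0, (Submodule.Quotient.eq _).2 ⟨-y', by rw [map_neg]; abel⟩⟩)
  refine ⟨?_, ?_⟩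
  · rw [P.exactAt_iff' i j k (by simp; omega) (by simp; omega), ShortComplex.moduleCat_exact_iff]
    intro x (hx : (P.d j k).hom x = 0)
    refine (Submodule.Quotient.mk_eq_zero R).1 ?_
    have := congrArg (fun l => l (Submodule.Quotient.mk x)) hr
    rw [LinearMap.comp_apply, LinearMap.id_apply] at this
    refine this.symm.trans ((congrArg r (show f (Submodule.Quotient.mk x) = 0 from hx)).trans (map_zero r))
  · let e : P.X k →ₗ[A] P.X k := LinearMap.id - f ∘ₗ r
    refine Module.Projective.of_split (Submodule.liftQ _ e (by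
      rintro _ ⟨x, rfl⟩
      have := congrArg (fun l => f (l (Submodule.Quotient.mk x))) hr
      simp only [LinearMap.comp_apply, LinearMap.id_apply] at this
      simp only [e, LinearMap.mem_ker, LinearMap.sub_apply, LinearMap.id_apply, LinearMap.comp_apply]
      exact sub_eq_zero.2 this.symm)) (Submodule.mkQ _) ?_
    refine Submodule.linearMap_qext _ (LinearMap.ext fun x => ?_)
    obtain ⟨z, hz⟩ := Submodule.Quotient.mk_surjective _ (r x)
    refine (Submodule.Quotient.eq _).2 ⟨-z, ?_⟩
    change _ = e x - x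
    simp only [e, LinearMap.sub_apply, LinearMap.id_apply, LinearMap.comp_apply, ← hz, map_neg, sub_sub_cancel_left]
    first | rfl | (simp [f])

end Groth.Agent.PseudoCoh
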