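import Groth.Agent.PseudoCoh.Homology
import Groth.Agent.KProjRes.Derived
import Mathlib.LinearAlgebra.Finsupp.Supported

/-!
# Pseudo-coherent objects have bounded above finite free representatives
-/

set_option autoImplicit false

universe u

open CategoryTheory CategoryTheory.Limits CategoryTheory.Pretriangulated DerivedCategory DerivedCategory.TStructure
open Finsupp CochainComplex
open scoped ZeroObject

attribute [local instance] HasDerivedCategory.standard

noncomputable section

namespace Groth.Agent.PseudoCoh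

variable {A : Type u} [CommRing A] (P : DRing.Cx A)

/-- generators, differential and augmentation in matrix form -/
structure St where
  r : ℤ → ℕ
  D : ℤ → ℕ → (ℕ →₀ A)
  f : ∀ i, ℕ → P.X i

variable {P}

/-- the free module in degree `i` -/
abbrev St.S (s : St P) (i : ℤ) : Submodule A (ℕ →₀ A) := Finsupp.supported A A (Set.Iio (s.r i))

/-- the axioms of an augmented complex -/
structure St.Wf (s : St P) : Prop where
  mem : ∀ i j, j < s.r i → s.D i j ∈ s.S (i + 1)
  dd : ∀ i j, j < s.r i → linearCombination A (s.D (i + 1)) (s.D i j) = 0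
  comm : ∀ i j, j < s.r i → linearCombination A (s.f (i + 1)) (s.D i j) = (P.d i (i + 1)).hom (s.f i j)

lemma lc_induction {M : Type u} [AddCommGroup M] [Module A M] (s : St P) (i : ℤ) (g h : (ℕ →₀ A) →ₗ[A] M)
    (hgh : ∀ j, j < s.r i → g (single j 1) = h (single j 1)) (x : ℕ →₀ A) (hx : x ∈ s.S i) : g x = h x := by
  rw [St.S, Finsupp.supported_eq_span_single] at hx
  induction hx using Submodule.span_induction with
  | mem v hv => obtain ⟨j, hj, rfl⟩ := hv; exact hgh j hj
  | zero => rw [map_zero, map_zero]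
  | add x y _ _ h1 h2 => rw [map_add, map_add, h1, h2]
  | smul c x _ h1 => rw [map_smul, map_smul, h1]

lemma St.Wf.map_mem {s : St P} (hs : s.Wf) {i : ℤ} (x : ℕ →₀ A) (hx : x ∈ s.S i) :
    linearCombination A (s.D i) x ∈ s.S (i + 1) := by
  rw [Finsupp.linearCombination_apply]
  exact Submodule.sum_mem _ fun j hj => Submodule.smul_mem _ _ (hs.mem i j (hx hj))

lemma St.Wf.dd' {s : St P} (hs : s.Wf) {i : ℤ} (x : ℕ →₀ A) (hx : x ∈ s.S i) :
    linearCombination A (s.D (i + 1)) (linearCombination A (s.D i) x) = 0 :=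
  lc_induction s i ((linearCombination A (s.D (i + 1))) ∘ₗ linearCombination A (s.D i)) 0
    (fun j hj => by simpa using hs.dd i j hj) x hx

/-- the complex of a state -/
def cx (s : St P) (hs : s.Wf) : DRing.Cx A :=
  CochainComplex.of (fun i => ModuleCat.of A (s.S i))
    (fun i => ModuleCat.ofHom ((linearCombination A (s.D i)).restrict fun x hx => hs.map_mem x hx))
    fun i => ModuleCat.hom_ext (LinearMap.ext fun x => Subtype.ext (hs.dd' x.1 x.2))

/-- elements of the complex of a state -/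
abbrev cel (s : St P) (hs : s.Wf) (i : ℤ) (x : s.S i) : (cx s hs).X i := x

lemma cx_d_apply (s : St P) (hs : s.Wf) (i : ℤ) (x : s.S i) :
    ((cx s hs).d i (i + 1)).hom (cel s hs i x) =
      cel s hs (i + 1) ⟨linearCombination A (s.D i) x.1, hs.map_mem x.1 x.2⟩ := by
  simp [cx, cel]
  rfl

/-- the augmentation of a state -/
def aug (s : St P) (hs : s.Wf) : cx s hs ⟶ P where
  f i := ModuleCat.ofHom (linearCombination A (s.f i) ∘ₗ (s.S i).subtype)
  comm' i j hij := by
    obtain rfl : i + 1 = j := hij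
    refine ModuleCat.hom_ext (LinearMap.ext fun x => ?_)
    change (P.d i (i + 1)).hom (linearCombination A (s.f i) (x : s.S i).1) =
      linearCombination A (s.f (i + 1)) ((((cx s hs).d i (i + 1)).hom (cel s hs i x) : s.S (i + 1))).1
    erw [cx_d_apply]
    exact (lc_induction s i ((linearCombination A (s.f (i + 1))) ∘ₗ linearCombination A (s.D i))
      ((P.d i (i + 1)).hom ∘ₗ linearCombination A (s.f i)) (fun j hj => by simpa using hs.comm i j hj)
      (x : s.S i).1 (x : s.S i).2).symm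

/-- the cone is exact at `i = p + 1` -/
def St.Good (s : St P) (p : ℤ) : Prop :=
  ∀ x ∈ s.S (p + 1 + 1), ∀ y : P.X (p + 1), linearCombination A (s.D (p + 1 + 1)) x = 0 →
    linearCombination A (s.f (p + 1 + 1)) x + (P.d (p + 1) (p + 1 + 1)).hom y = 0 →
    ∃ e ∈ s.S (p + 1), ∃ w : P.X p, linearCombination A (s.D (p + 1)) e = -x ∧
      linearCombination A (s.f (p + 1)) e + (P.d p (p + 1)).hom w = y

theorem bff_cx (s : St P) (hs : s.Wf) (a b : ℤ) (hab : ∀ i, i < a ∨ b < i → s.r i = 0) : BFF (cx s hs) := by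
  refine ⟨⟨a, b, fun i hi => ?_⟩, fun i => ?_⟩
  · have h0 : s.S i = ⊥ := by rw [St.S, hab i hi]; simp [Finsupp.supported_eq_span_single]
    haveI : Subsingleton (s.S i) := by rw [h0]; infer_instance
    exact ModuleCat.isZero_of_subsingleton (ModuleCat.of A (s.S i))
  · change Module.Finite A (s.S i) ∧ Module.Free A (s.S i)
    have e : s.S i ≃ₗ[A] (Set.Iio (s.r i) →₀ A) := Finsupp.supportedEquivFinsupp _
    exact ⟨Module.Finite.equiv e.symm, Module.Free.of_equiv e.symm⟩

section Step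

variable (s : St P) (hs : s.Wf) {p : ℤ}

local notation "φ" => aug s hs

/-- `(x, y)` as an element of the cone -/
def pair {i j : ℤ} (hij : i + 1 = j) (x : (cx s hs).X j) (y : P.X i) : (mappingCone (φ)).X i :=
  ((mappingCone.inl (φ)).v j i (by omega)).hom x + ((mappingCone.inr (φ)).f i).hom y

lemma pair_surjective {i j : ℤ} (hij : i + 1 = j) (c : (mappingCone (φ)).X i) :
    ∃ x y, pair s hs hij x y = c :=
  ⟨_, _, ConcreteCategory.congr_hom (mappingCone.id_X (φ) i j hij) c⟩

lemma fst_pair {i j : ℤ} (hij : i + 1 = j) (x : (cx s hs).X j) (y : P.X i) :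
    ((mappingCone.fst (φ)).1.v i j hij).hom (pair s hs hij x y) = x := by
  rw [pair, map_add]
  exact (congrArg₂ (· + ·) (ConcreteCategory.congr_hom (mappingCone.inl_v_fst_v (φ) j i hij) x)
    (ConcreteCategory.congr_hom (mappingCone.inr_f_fst_v (φ) i j hij) y)).trans (add_zero x)

lemma snd_pair {i j : ℤ} (hij : i + 1 = j) (x : (cx s hs).X j) (y : P.X i) :
    ((mappingCone.snd (φ)).v i i (add_zero i)).hom (pair s hs hij x y) = y := by
  rw [pair, map_add]
  exact (congrArg₂ (· + ·) (ConcreteCategory.congr_hom (mappingCone.inl_v_snd_v (φ) j i (by omega)) x)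
    (ConcreteCategory.congr_hom (mappingCone.inr_f_snd_v (φ) i) y)).trans (zero_add y)

lemma d_pair {i j k : ℤ} (hij : i + 1 = j) (hjk : j + 1 = k) (x : (cx s hs).X j) (y : P.X i) :
    ((mappingCone (φ)).d i j).hom (pair s hs hij x y) =
      pair s hs hjk (-((cx s hs).d j k).hom x) (((φ).f j).hom x + (P.d i j).hom y) := by
  have h1 := ConcreteCategory.congr_hom (mappingCone.inl_v_d (φ) j i k (by omega) (by omega)) x
  have h2 := ConcreteCategory.congr_hom (mappingCone.inr_f_d (φ) i j) y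
  rw [pair, pair, map_add, map_add, map_neg]
  refine (congrArg₂ (· + ·) h1 h2).trans ?_
  change ((mappingCone.inr (φ)).f j).hom (((φ).f j).hom x) - ((mappingCone.inl (φ)).v k j (by omega)).hom (((cx s hs).d j k).hom x) +
    ((mappingCone.inr (φ)).f j).hom ((P.d i j).hom y) = _
  abel

lemma pair_eq_zero_iff {i j : ℤ} (hij : i + 1 = j) (x : (cx s hs).X j) (y : P.X i) :
    pair s hs hij x y = 0 ↔ x = 0 ∧ y = 0 :=
  ⟨fun h => ⟨by rw [← fst_pair s hs hij x y, h, map_zero], by rw [← snd_pair s hs hij x y, h, map_zero]⟩,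
    fun ⟨hx, hy⟩ => by rw [pair, hx, hy, map_zero, map_zero, add_zero]⟩

lemma exactAt_cone (hg : s.Good p) : (mappingCone (φ)).ExactAt (p + 1) := by
  rw [(mappingCone (φ)).exactAt_iff' p (p + 1) (p + 1 + 1) (by simp) (by simp), ShortComplex.moduleCat_exact_iff]
  intro c hc
  obtain ⟨x, y, rfl⟩ := pair_surjective s hs (rfl : p + 1 + 1 = p + 1 + 1) c
  change ((mappingCone (φ)).d (p + 1) (p + 1 + 1)).hom (pair s hs rfl x y) = 0 at hc
  rw [d_pair s hs rfl (rfl : p + 1 + 1 + 1 = _), pair_eq_zero_iff, neg_eq_zero] at hc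
  obtain ⟨e, he, w, hw1, hw2⟩ := hg (x : s.S (p + 1 + 1)).1 (x : s.S (p + 1 + 1)).2 y
    (congrArg Subtype.val ((cx_d_apply s hs (p + 1 + 1) x).symm.trans hc.1)) hc.2
  refine ⟨pair s hs (rfl : p + 1 = p + 1) (cel s hs (p + 1) ⟨e, he⟩) w, ?_⟩
  change ((mappingCone (φ)).d p (p + 1)).hom (pair s hs rfl _ w) = _
  rw [d_pair s hs rfl (rfl : p + 1 + 1 = _)]
  refine congrArg₂ (pair s hs rfl) ?_ hw2
  rw [cx_d_apply]
  exact Subtype.ext (neg_eq_iff_eq_neg.2 hw1)

include hs in
/-- one more degree -/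
theorem exists_step {n : ℤ} (hn : p + 1 = n) {a b : ℤ} (hab : ∀ i, i < a ∨ b < i → s.r i = 0)
    (hlow : ∀ i ≤ n, s.r i = 0) (hgood : ∀ q, n ≤ q → s.Good q) (hP : Approx p (DRing.toD P)) :
    ∃ s' : St P, s'.Wf ∧ (∀ i, n < i → s'.r i = s.r i ∧ s'.D i = s.D i ∧ s'.f i = s.f i) ∧
      (∀ i, i < n → s'.r i = 0) ∧ (∀ q, p ≤ q → s'.Good q) := by
  subst hn
  have hE := bff_cx s hs a b hab
  have hC : Approx p (DRing.toD (mappingCone (φ))) :=
    approx_obj₃ _ (DerivedCategory.mappingCone_triangle_distinguished (φ)) p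
      ⟨cx s hs, 0, 𝟙 _, 0, 0, hE, contractible_distinguished _, t.isLE_of_isZero (isZero_zero _) _⟩ hP
  have hz : ∀ i, p + 1 < i →
      IsZero ((DerivedCategory.homologyFunctor (ModuleCat.{u} A) i).obj (DRing.toD (mappingCone (φ)))) := by
    intro i hi
    obtain ⟨q, rfl⟩ : ∃ q, q + 1 = i := ⟨i - 1, sub_add_cancel i 1⟩
    exact ((exactAt_cone s hs (hgood q (by omega))).isZero_homology).of_iso
      ((DerivedCategory.homologyFunctorFactors (ModuleCat.{u} A) (q + 1)).app _)
  haveI hfin := finite_HD (rfl : p + 1 = p + 1) hC hz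
  let C := mappingCone (φ)
  let S' := C.sc' p (p + 1) (p + 1 + 1)
  let eH : (DerivedCategory.homologyFunctor (ModuleCat.{u} A) (p + 1)).obj (DRing.toD C) ≅ S'.moduleCatLeftHomologyData.H :=
    (DerivedCategory.homologyFunctorFactors (ModuleCat.{u} A) (p + 1)).app C ≪≫
      ShortComplex.homologyMapIso (C.isoSc' p (p + 1) (p + 1 + 1) (by simp) (by simp)) ≪≫ S'.moduleCatHomologyIso
  haveI : Module.Finite A (LinearMap.ker S'.g.hom ⧸ LinearMap.range S'.moduleCatToCycles) :=
    Module.Finite.equiv eH.toLinearEquiv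
  obtain ⟨k, g, hg⟩ := Module.Finite.exists_fin' A (LinearMap.ker S'.g.hom ⧸ LinearMap.range S'.moduleCatToCycles)
  choose z hz' using fun j : Fin k => Submodule.Quotient.mk_surjective _ (g (Pi.single j 1))
  choose x y hxy using fun j : Fin k => pair_surjective s hs (rfl : p + 1 + 1 = p + 1 + 1) (z j).1
  have hcyc : ∀ j, linearCombination A (s.D (p + 1 + 1)) (x j : s.S (p + 1 + 1)).1 = 0 ∧
      linearCombination A (s.f (p + 1 + 1)) (x j : s.S (p + 1 + 1)).1 + (P.d (p + 1) (p + 1 + 1)).hom (y j) = 0 := by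
    intro j
    have h : ((mappingCone (φ)).d (p + 1) (p + 1 + 1)).hom (pair s hs rfl (x j) (y j)) = 0 := by
      rw [hxy j]; exact (z j).2
    rw [d_pair s hs rfl (rfl : p + 1 + 1 + 1 = _), pair_eq_zero_iff, neg_eq_zero] at h
    exact ⟨congrArg Subtype.val ((cx_d_apply s hs (p + 1 + 1) (x j)).symm.trans h.1), h.2⟩
  let D' : ℕ → (ℕ →₀ A) := fun j => if h : j < k then -(x ⟨j, h⟩ : s.S (p + 1 + 1)).1 else 0
  let f' : ℕ → P.X (p + 1) := fun j => if h : j < k then y ⟨j, h⟩ else 0
  let s' : St P := ⟨Function.update s.r (p + 1) k, Function.update s.D (p + 1) D', Function.update s.f (p + 1) f'⟩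
  have hS : ∀ i, i ≠ p + 1 → s'.r i = s.r i ∧ s'.D i = s.D i ∧ s'.f i = s.f i := fun i hi =>
    ⟨Function.update_of_ne hi _ _, Function.update_of_ne hi _ _, Function.update_of_ne hi _ _⟩
  have hN : s'.r (p + 1) = k ∧ s'.D (p + 1) = D' ∧ s'.f (p + 1) = f' :=
    ⟨Function.update_self _ _ _, Function.update_self _ _ _, Function.update_self _ _ _⟩
  have hSS : ∀ i, i ≠ p + 1 → s'.S i = s.S i := fun i hi => by rw [St.S, St.S, (hS i hi).1]
  have hwf : s'.Wf := by
    refine ⟨fun i j hj => ?_, fun i j hj => ?_, fun i j hj => ?_⟩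
    all_goals
      rcases eq_or_ne i (p + 1) with rfl | hi
      · rw [hN.1] at hj
        first
          | (rw [hN.2.1, hSS (p + 1 + 1) (by omega)]
             simp only [D', dif_pos hj]
             exact Submodule.neg_mem _ (x ⟨j, hj⟩ : s.S (p + 1 + 1)).2)
          | (rw [hN.2.1, (hS (p + 1 + 1) (by omega)).2.1]
             simp only [D', dif_pos hj]
             rw [map_neg, (hcyc ⟨j, hj⟩).1, neg_zero])
          | (rw [hN.2.1, hN.2.2, (hS (p + 1 + 1) (by omega)).2.2]
             simp only [D', f', dif_pos hj]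
             rw [map_neg, neg_eq_iff_add_eq_zero]
             exact (hcyc ⟨j, hj⟩).2)
      · rw [(hS i hi).1] at hj
        have hi1 : p + 1 + 1 ≤ i := by
          by_contra h
          rw [hlow i (by omega)] at hj
          exact Nat.not_lt_zero j hj
        first
          | (rw [(hS i hi).2.1, hSS (i + 1) (by omega)]; exact hs.mem i j hj)
          | (rw [(hS i hi).2.1, (hS (i + 1) (by omega)).2.1]; exact hs.dd i j hj)
          | (rw [(hS i hi).2.1, (hS i hi).2.2, (hS (i + 1) (by omega)).2.2]; exact hs.comm i j hj)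
  refine ⟨s', hwf, fun i hi => hS i (by omega), fun i hi => (hS i (by omega)).1.trans (hlow i (by omega)), fun q hq => ?_⟩
  rcases hq.lt_or_eq with hq' | rfl
  · intro x₀ hx y₀ h1 h2
    rw [hSS _ (by omega)] at hx
    rw [(hS _ (by omega)).2.1] at h1
    rw [(hS _ (by omega)).2.2] at h2
    obtain ⟨e, he, w, hw1, hw2⟩ := hgood q (by omega) x₀ hx y₀ h1 h2
    refine ⟨e, by rwa [hSS _ (by omega)], w, ?_, ?_⟩
    · rwa [(hS _ (by omega)).2.1]
    · rwa [(hS _ (by omega)).2.2]
  · intro x₀ hx y₀ h1 h2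
    rw [hSS _ (by omega)] at hx
    rw [(hS _ (by omega)).2.1] at h1
    rw [(hS _ (by omega)).2.2] at h2
    have hc : ((mappingCone (φ)).d (p + 1) (p + 1 + 1)).hom (pair s hs rfl (cel s hs _ ⟨x₀, hx⟩) y₀) = 0 := by
      rw [d_pair s hs rfl (rfl : p + 1 + 1 + 1 = _), pair_eq_zero_iff, neg_eq_zero, cx_d_apply]
      exact ⟨Subtype.ext h1, h2⟩
    obtain ⟨v, hv⟩ := hg (Submodule.Quotient.mk ⟨_, hc⟩)
    have hv' : (Submodule.Quotient.mk (∑ j, v j • z j) :
        LinearMap.ker S'.g.hom ⧸ LinearMap.range S'.moduleCatToCycles) = Submodule.Quotient.mk ⟨_, hc⟩ := by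
      rw [← hv, ← Submodule.mkQ_apply, map_sum, ← Finset.univ_sum_single v, map_sum]
      refine Finset.sum_congr rfl fun j _ => ?_
      rw [map_smul, Submodule.mkQ_apply, hz', Finset.univ_sum_single, ← map_smul, ← Pi.single_smul, smul_eq_mul, mul_one]
    obtain ⟨c, hc'⟩ := (Submodule.Quotient.eq _).1 hv'.symm
    obtain ⟨x₁, w, rfl⟩ := pair_surjective s hs (rfl : p + 1 = p + 1) c
    have hx₁ : x₁ = 0 := by
      have h0 : s.S (p + 1) = ⊥ := by rw [St.S, hlow (p + 1) le_rfl]; simp [Finsupp.supported_eq_span_single]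
      haveI : Subsingleton (s.S (p + 1)) := by rw [h0]; infer_instance
      exact Subsingleton.elim (α := s.S (p + 1)) _ _
    subst hx₁
    have hsum : (∑ j, v j • z j).1 = ∑ j, v j • pair s hs rfl (x j) (y j) :=
      (Submodule.coe_sum _ _ _).trans (Finset.sum_congr rfl fun j _ => congrArg (v j • ·) (hxy j).symm)
    have hc1 : pair s hs rfl (-((cx s hs).d (p + 1) (p + 1 + 1)).hom 0) (((φ).f (p + 1)).hom 0 + (P.d p (p + 1)).hom w) =
        pair s hs rfl (cel s hs _ ⟨x₀, hx⟩) y₀ - ∑ j, v j • pair s hs rfl (x j) (y j) := by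
      refine (d_pair s hs rfl rfl 0 w).symm.trans ((congrArg Subtype.val hc').trans ?_)
      exact congrArg (pair s hs rfl (cel s hs _ ⟨x₀, hx⟩) y₀ - ·) hsum
    rw [map_zero, map_zero, neg_zero, zero_add] at hc1
    have e1 := congrArg ((mappingCone.fst (φ)).1.v (p + 1) (p + 1 + 1) rfl).hom hc1
    have e2 := congrArg ((mappingCone.snd (φ)).v (p + 1) (p + 1) (add_zero _)).hom hc1
    simp only [map_sub, map_sum, map_smul, fst_pair, snd_pair] at e1 e2
    refine ⟨∑ j : Fin k, v j • single (j : ℕ) 1, Submodule.sum_mem _ fun j _ => Submodule.smul_mem _ _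
      (Finsupp.single_mem_supported A 1 (show (j : ℕ) < s'.r (p + 1) by rw [hN.1]; exact j.2)), w, ?_, ?_⟩
    · rw [map_sum, hN.2.1]
      simp only [map_smul, linearCombination_single, one_smul, D', dif_pos (Fin.is_lt _), Fin.eta, smul_neg,
        Finset.sum_neg_distrib, neg_inj]
      have e1' := congrArg Subtype.val (sub_eq_zero.1 e1.symm)
      exact (e1'.trans (Submodule.coe_sum _ _ _)).symm
    · rw [map_sum, hN.2.2]
      simp only [map_smul, linearCombination_single, one_smul, f', dif_pos (Fin.is_lt _), Fin.eta]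
      rw [e2, add_sub_cancel]

end Step

/-- a bounded above object which is `n`-approximable for all `n` has a finite free bounded above representative -/
theorem exists_pc' (K : Dual.D A) (hK : ∀ n, Approx n K) : DRing.IsPseudoCoherent' A K := by
  obtain ⟨P, hP, _, ⟨eP⟩⟩ := Groth.Agent.KProjRes.exists_kProjective_iso K
  obtain ⟨b, hb⟩ := exists_isLE (hK 0)
  have hPA : ∀ n, Approx n (DRing.toD P) := fun n => approx_of_iso eP.symm (hK n)
  have hzero : ∀ i, b < i → P.ExactAt i := fun i hi => by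
    rw [HomologicalComplex.exactAt_iff_isZero_homology]
    exact ((DerivedCategory.isLE_iff _ b).1 (t.isLE_of_iso eP.symm b) i hi).of_iso
      ((DerivedCategory.homologyFunctorFactors (ModuleCat.{u} A) i).app P).symm
  let T : ℕ → Type u := fun j => {s : St P // s.Wf ∧ (∀ i, i ≤ b - j → s.r i = 0) ∧ (∀ i, b < i → s.r i = 0) ∧
    (∀ q, b - j ≤ q → s.Good q)}
  have h0 : T 0 := ⟨⟨fun _ => 0, fun _ _ => 0, fun _ _ => 0⟩, ⟨fun i j h => absurd h (Nat.not_lt_zero j),
    fun i j h => absurd h (Nat.not_lt_zero j), fun i j h => absurd h (Nat.not_lt_zero j)⟩, fun _ _ => rfl,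
    fun _ _ => rfl, fun q hq x hx y h1 h2 => by
      obtain rfl : x = 0 := by
        simpa [St.S, Finsupp.supported_eq_span_single] using hx
      rw [map_zero, zero_add] at h2
      have h := hzero (q + 1) (by push_cast at hq; omega)
      rw [P.exactAt_iff' q (q + 1) (q + 1 + 1) (by simp) (by simp), ShortComplex.moduleCat_exact_iff] at h
      obtain ⟨w, hw⟩ := h y h2
      exact ⟨0, Submodule.zero_mem _, w, by simp, by rw [map_zero, zero_add]; exact hw⟩⟩
  have hstep : ∀ j, ∀ s : T j, ∃ s' : T (j + 1), ∀ i, b - j < i →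
      s'.1.r i = s.1.r i ∧ s'.1.D i = s.1.D i ∧ s'.1.f i = s.1.f i := by
    rintro j ⟨s, hs, hlow, hhigh, hgood⟩
    obtain ⟨s', h1, h2, h3, h4⟩ := exists_step s hs (p := b - j - 1) (n := b - j) (by omega) (a := b - j + 1) (b := b)
      (fun i hi => hi.elim (fun h => hlow i (by omega)) (hhigh i)) hlow hgood (hPA _)
    exact ⟨⟨s', h1, fun i hi => h3 i (by push_cast at hi; omega),
      fun i hi => (h2 i (by omega)).1.trans (hhigh i hi), fun q hq => h4 q (by push_cast at hq; omega)⟩, h2⟩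
  choose nxt hnxt using hstep
  let sq : ∀ j, T j := fun j => Nat.rec h0 nxt j
  have hstable : ∀ (i : ℤ) (j l : ℕ), j ≤ l → b - j < i →
      (sq l).1.r i = (sq j).1.r i ∧ (sq l).1.D i = (sq j).1.D i ∧ (sq l).1.f i = (sq j).1.f i := by
    intro i j l hl hi
    induction l, hl using Nat.le_induction with
    | base => exact ⟨rfl, rfl, rfl⟩
    | succ l hl ih =>
      obtain ⟨e1, e2, e3⟩ := hnxt l (sq l) i (by omega)
      exact ⟨e1.trans ih.1, e2.trans ih.2.1, e3.trans ih.2.2⟩
  let J : ℤ → ℕ := fun i => (b + 1 - i).toNat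
  let s : St P := ⟨fun i => (sq (J i)).1.r i, fun i => (sq (J i)).1.D i, fun i => (sq (J i)).1.f i⟩
  have hs' : ∀ (i : ℤ) (l : ℕ), J i ≤ l → (sq l).1.r i = s.r i ∧ (sq l).1.D i = s.D i ∧ (sq l).1.f i = s.f i :=
    fun i l hl => hstable i (J i) l hl (by simp only [J]; omega)
  have hSeq : ∀ (i : ℤ) (l : ℕ), J i ≤ l → (sq l).1.S i = s.S i := fun i l hl => by rw [St.S, St.S, (hs' i l hl).1]
  have hwf : s.Wf := by
    refine ⟨fun i j hj => ?_, fun i j hj => ?_, fun i j hj => ?_⟩
    all_goals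
      obtain ⟨e1, e2, e3⟩ := hs' i (J i) le_rfl
      obtain ⟨e1', e2', e3'⟩ := hs' (i + 1) (J i) (by simp only [J]; omega)
      first
        | (rw [← hSeq (i + 1) (J i) (by simp only [J]; omega)]; exact (sq (J i)).2.1.mem i j hj)
        | (rw [← e2']; exact (sq (J i)).2.1.dd i j hj)
        | (rw [← e3']; exact (sq (J i)).2.1.comm i j hj)
  have hgood : ∀ q, s.Good q := by
    intro q x hx y h1 h2
    let l := (b - q).toNat + J (q + 1)
    have hl1 : J (q + 1) ≤ l := by simp only [l]; omega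
    have hl2 : J (q + 1 + 1) ≤ l := by simp only [l, J]; omega
    obtain ⟨e, he, w, hw1, hw2⟩ := (sq l).2.2.2.2 q (by simp only [l, J]; omega) x (by rwa [hSeq _ _ hl2]) y
      (by rwa [(hs' _ _ hl2).2.1]) (by rwa [(hs' _ _ hl2).2.2])
    exact ⟨e, by rwa [← hSeq _ _ hl1], w, by rwa [← (hs' _ _ hl1).2.1], by rwa [← (hs' _ _ hl1).2.2]⟩
  have hr : ∀ i, b < i → s.r i = 0 := fun i hi => (sq (J i)).2.2.2.1 i hi
  refine ⟨cx s hwf, b, fun i hi => ?_, fun i => ?_, ⟨?_⟩⟩
  · have h0' : s.S i = ⊥ := by rw [St.S, hr i hi]; simp [Finsupp.supported_eq_span_single]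
    haveI : Subsingleton (s.S i) := by rw [h0']; infer_instance
    exact ModuleCat.isZero_of_subsingleton (ModuleCat.of A (s.S i))
  · change Module.Finite A (s.S i) ∧ Module.Free A (s.S i)
    have e : s.S i ≃ₗ[A] (Set.Iio (s.r i) →₀ A) := Finsupp.supportedEquivFinsupp _
    exact ⟨Module.Finite.equiv e.symm, Module.Free.of_equiv e.symm⟩
  · haveI : IsIso (DerivedCategory.Q.map (aug s hwf)) := by
      refine ((Triangle.isZero₃_iff_isIso₁ _ (DerivedCategory.mappingCone_triangle_distinguished (aug s hwf))).1 ?_)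
      haveI : CategoryTheory.IsIso (DerivedCategory.Q.map (0 : mappingCone (aug s hwf) ⟶ mappingCone (aug s hwf))) := by
        haveI : QuasiIso (0 : mappingCone (aug s hwf) ⟶ mappingCone (aug s hwf)) := ⟨fun i => by
          obtain ⟨q, rfl⟩ : ∃ q, q + 1 = i := ⟨i - 1, sub_add_cancel i 1⟩
          rw [quasiIsoAt_iff_exactAt _ _ (exactAt_cone s hwf (hgood q))]
          exact exactAt_cone s hwf (hgood q)⟩
        infer_instance
      rw [IsZero.iff_id_eq_zero]
      change 𝟙 (DerivedCategory.Q.obj (mappingCone (aug s hwf))) = 0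
      exact (IsIso.hom_inv_id (DerivedCategory.Q.map (0 : mappingCone (aug s hwf) ⟶ mappingCone (aug s hwf)))).symm.trans
        ((congrArg (· ≫ _) (Functor.map_zero _ _ _)).trans zero_comp)
    exact asIso (DerivedCategory.Q.map (aug s hwf)) ≪≫ eP

end Groth.Agent.PseudoCoh
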