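import Groth.Agent.PseudoCoh.Devissage
import Groth.Agent.PseudoCoh.Homology
import Groth.Agent.PseudoCoh.Criteria
import Groth.Prelude.Def_DDual2
import Mathlib.Algebra.Homology.DerivedCategory.SingleTriangle
import Mathlib.Algebra.Homology.DerivedCategory.ExactFunctor

/-!
# Pseudo-coherence and restriction of scalars along a pseudo-coherent algebra
-/

set_option autoImplicit false

universe u

open CategoryTheory CategoryTheory.Limits CategoryTheory.Pretriangulated DerivedCategory DerivedCategory.TStructure

attribute [local instance] HasDerivedCategory.standard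

noncomputable section

namespace Groth.Agent.PseudoCoh

variable {A B : Type u} [CommRing A] [CommRing B] (φ : A →+* B)

/-- `B` is pseudo-coherent over `A` -/
def PCHom : Prop := ∀ n, Approx n (Dual.inD A ((ModuleCat.restrictScalars.{u} φ).obj (ModuleCat.of B B)))

/-- homology commutes with restriction of scalars -/
def restrictHomologyIso (K : Dual.D B) (i : ℤ) :
    (DerivedCategory.homologyFunctor (ModuleCat.{u} A) i).obj ((DRing.restrictD φ).obj K) ≅
      (ModuleCat.restrictScalars.{u} φ).obj ((DerivedCategory.homologyFunctor (ModuleCat.{u} B) i).obj K) :=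
  (DerivedCategory.homologyFunctor (ModuleCat.{u} A) i).mapIso
      ((DRing.restrictD φ).mapIso (DerivedCategory.Q.objObjPreimageIso K).symm ≪≫
        (ModuleCat.restrictScalars.{u} φ).mapDerivedCategoryFactors.app _) ≪≫
    (DerivedCategory.homologyFunctorFactors (ModuleCat.{u} A) i).app _ ≪≫
    (((DerivedCategory.Q.objPreimage K).sc i).mapHomologyIso (ModuleCat.restrictScalars.{u} φ)) ≪≫
    (ModuleCat.restrictScalars.{u} φ).mapIso
      (((DerivedCategory.homologyFunctorFactors (ModuleCat.{u} B) i).app _).symm ≪≫
        (DerivedCategory.homologyFunctor (ModuleCat.{u} B) i).mapIso (DerivedCategory.Q.objObjPreimageIso K))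

theorem isLE_restrictD {K : Dual.D B} {n : ℤ} : t.IsLE ((DRing.restrictD φ).obj K) n ↔ t.IsLE K n := by
  refine (DerivedCategory.isLE_iff ((DRing.restrictD φ).obj K) n).trans (Iff.trans ?_ (DerivedCategory.isLE_iff K n).symm)
  refine forall₂_congr fun i _ => ⟨fun h => ?_, fun h => ?_⟩
  · have h' := h.of_iso (restrictHomologyIso φ K i).symm
    exact ModuleCat.isZero_iff_subsingleton.2 (ModuleCat.isZero_iff_subsingleton.1 h' :)
  · exact ((ModuleCat.restrictScalars.{u} φ).map_isZero h).of_iso (restrictHomologyIso φ K i)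

theorem approx_restrict_free (hB : PCHom φ) (n : ℤ) (r : ℕ) :
    Approx n (Dual.inD A ((ModuleCat.restrictScalars.{u} φ).obj (ModuleCat.of B (Fin r → B)))) := by
  induction r with
  | zero =>
    refine approx_of_isLE (t.isLE_of_isZero ((DerivedCategory.singleFunctor (ModuleCat.{u} A) 0).map_isZero
      ((ModuleCat.restrictScalars.{u} φ).map_isZero (ModuleCat.isZero_of_subsingleton (ModuleCat.of B (Fin 0 → B))))) n)
  | succ r ih =>
    let f : (Fin (r + 1) → B) →ₗ[B] B := LinearMap.proj 0
    let g : (Fin r → B) →ₗ[B] (Fin (r + 1) → B) :=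
      LinearMap.pi (Fin.cases 0 fun j => LinearMap.proj j)
    let S : ShortComplex (ModuleCat.{u} B) := ShortComplex.mk (ModuleCat.ofHom g) (ModuleCat.ofHom f)
      (ModuleCat.hom_ext (LinearMap.ext fun x => rfl))
    have hS : S.ShortExact :=
      { exact := (ShortComplex.moduleCat_exact_iff _).2 fun x hx => ⟨fun j => x j.succ, funext fun j => by
          induction j using Fin.cases with
          | zero => exact hx.symm
          | succ j => rfl⟩
        mono_f := (ModuleCat.mono_iff_injective _).2 fun x y h => funext fun j => congrFun h j.succ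
        epi_g := (ModuleCat.epi_iff_surjective _).2 fun y => ⟨fun _ => y, rfl⟩ }
    have hT := (hS.map_of_exact (ModuleCat.restrictScalars.{u} φ)).singleTriangle_distinguished
    exact approx_obj₂ _ hT n ih (hB n)

theorem approx_restrict_BFF (hB : PCHom φ) {E : DRing.Cx B} (hE : BFF E) (n : ℤ) :
    Approx n ((DRing.restrictD φ).obj (DRing.toD E)) := by
  obtain ⟨⟨a, b, hab⟩, hff⟩ := hE
  refine devissage_terms_bounded (Φ := fun K => ∀ n, Approx n ((DRing.restrictD φ).obj K))
    (fun e h m => approx_of_iso ((DRing.restrictD φ).mapIso e) (h m))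
    (fun T hT h1 h3 m => approx_obj₂ _ ((DRing.restrictD φ).map_distinguished T hT) m (h1 m) (h3 m)) E
    (fun K hK m => approx_of_isLE (t.isLE_of_isZero ((DRing.restrictD φ).map_isZero hK) m)) a b hab (fun i m => ?_) n
  obtain ⟨h1, h2⟩ := hff i
  obtain ⟨r, ⟨e⟩⟩ : ∃ r : ℕ, Nonempty (E.X i ≃ₗ[B] (Fin r → B)) := by
    rcases subsingleton_or_nontrivial B with hB' | hB'
    · haveI := Module.subsingleton B (E.X i)
      exact ⟨0, ⟨LinearEquiv.ofSubsingleton _ _⟩⟩
    · exact ⟨_, ⟨(Module.finBasis B (E.X i)).equivFun⟩⟩
  refine approx_of_iso (((ModuleCat.restrictScalars.{u} φ).mapDerivedCategorySingleFunctor i).app (E.X i)).symm ?_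
  refine (approx_singleD_iff i m (m - i) (by omega) _).2 ?_
  exact approx_of_iso ((DerivedCategory.singleFunctor (ModuleCat.{u} A) 0).mapIso
    ((ModuleCat.restrictScalars.{u} φ).mapIso (LinearEquiv.toModuleIso e).symm)) (approx_restrict_free φ hB _ r)

/-- restriction of scalars preserves pseudo-coherence -/
theorem approx_restrict (hB : PCHom φ) {K : Dual.D B} {n : ℤ} (h : Approx n K) :
    Approx n ((DRing.restrictD φ).obj K) := by
  obtain ⟨E, C, α, g, k, hE, hT, hC⟩ := h
  exact approx_obj₂ _ ((DRing.restrictD φ).map_distinguished _ hT) n (approx_restrict_BFF φ hB hE n)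
    (approx_of_isLE ((isLE_restrictD φ).2 hC))

/-- restriction of scalars reflects pseudo-coherence -/
theorem approx_of_restrict (hB : PCHom φ) {K : Dual.D B} {n : ℤ} (h : Approx n ((DRing.restrictD φ).obj K)) :
    Approx n K := by
  obtain ⟨N, hN⟩ := exists_isLE h
  suffices key : ∀ (j : ℕ) (K : Dual.D B), t.IsLE K (n + j) → Approx n ((DRing.restrictD φ).obj K) → Approx n K from
    key (N - n).toNat K (haveI := (isLE_restrictD φ).1 hN; t.isLE_of_le K N _ (by omega)) h
  intro j
  induction j with
  | zero => exact fun K hK _ => approx_of_isLE (by simpa using hK)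
  | succ j ih =>
    intro K hK hA
    obtain ⟨d, hd⟩ : ∃ d : ℤ, d + 1 = n + (j + 1 : ℕ) := ⟨n + j, by push_cast; omega⟩
    have hfin : Module.Finite B ((DerivedCategory.homologyFunctor (ModuleCat.{u} B) (d + 1)).obj K) := by
      have h0 := finite_HD rfl (approx_mono (show n ≤ d by omega) hA) fun i hi =>
        ((DerivedCategory.isLE_iff _ _).1 ((isLE_restrictD φ).2 hK) i (by omega))
      have h3 : Module.Finite A ((ModuleCat.restrictScalars.{u} φ).obj
          ((DerivedCategory.homologyFunctor (ModuleCat.{u} B) (d + 1)).obj K)) :=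
        haveI := h0
        Module.Finite.equiv (restrictHomologyIso φ K (d + 1)).toLinearEquiv
      letI := φ.toAlgebra
      letI : Module A ((DerivedCategory.homologyFunctor (ModuleCat.{u} B) (d + 1)).obj K) := Module.compHom _ φ
      haveI : IsScalarTower A B ((DerivedCategory.homologyFunctor (ModuleCat.{u} B) (d + 1)).obj K) :=
        ⟨fun a b x => mul_smul (φ a) b x⟩
      haveI : Module.Finite A ((DerivedCategory.homologyFunctor (ModuleCat.{u} B) (d + 1)).obj K) := h3
      exact Module.Finite.of_restrictScalars_finite A B _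
    haveI : t.IsLE K (d + 1) := hd ▸ hK
    obtain ⟨E, C, α, g, k, hE, hT, hC⟩ := approx_of_finite (C := K) rfl hfin
    exact approx_obj₂ _ hT n (approx_toD hE n) (ih C (t.isLE_of_le C d _ (by push_cast at hd; omega))
      (approx_obj₃ _ ((DRing.restrictD φ).map_distinguished _ hT) n (approx_restrict_BFF φ hB hE _) hA))

/-- comparison along an algebra structure -/
theorem pcHom_of_isPseudoCoherentModule' [Algebra A B] (h : DRing.IsPseudoCoherentModule' A B) :
    PCHom (algebraMap A B) := fun n => by
  refine approx_of_iso ((DerivedCategory.singleFunctor (ModuleCat.{u} A) 0).mapIso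
    (LinearEquiv.toModuleIso (X₁ := B) (X₂ := (ModuleCat.restrictScalars.{u} (algebraMap A B)).obj (ModuleCat.of B B))
      { AddEquiv.refl B with map_smul' := fun a x => Algebra.smul_def a x })) (forall_approx_of_pc' h n)

end Groth.Agent.PseudoCoh
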