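import Groth.Agent.PseudoCoh.Residue
import Groth.Agent.PseudoCoh.Split
import Mathlib.RingTheory.Localization.BaseChange
import Mathlib.Algebra.Module.LocalizedModule.Int
import Mathlib.RingTheory.LocalRing.ResidueField.Ideal

/-!
# Spreading out a splitting from a point
-/

set_option autoImplicit false

universe u

open CategoryTheory CategoryTheory.Limits
open scoped TensorProduct

attribute [local instance] HasDerivedCategory.standard

noncomputable section

namespace Groth.Agent.PseudoCoh

variable {A : Type u} [CommRing A]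

section

variable {P : DRing.Cx A} (i j k : ℤ)

/-- `coker (d i j) → P_k` -/
def dBar : (P.X j ⧸ LinearMap.range (P.d i j).hom) →ₗ[A] P.X k :=
  Submodule.liftQ _ (P.d j k).hom (by
    rintro _ ⟨x, rfl⟩
    exact ConcreteCategory.congr_hom (P.d_comp_d i j k) x)

lemma dBar_mkQ (x : P.X j) : dBar (P := P) i j k (Submodule.Quotient.mk x) = (P.d j k).hom x := rfl

variable {i j k} (hij : i + 1 = j) (hjk : j + 1 = k) {S : Type u} [CommRing S] [Algebra A S]

include hij hjk in
lemma exists_retraction_lTensor
    (hE : Function.Exact ((P.d i j).hom.lTensor S) ((P.d j k).hom.lTensor S))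
    (hQ : Module.Projective S (S ⊗[A] P.X k ⧸
      LinearMap.range (TensorProduct.AlgebraTensorModule.lTensor S S (P.d j k).hom))) :
    ∃ r : (S ⊗[A] P.X k) →ₗ[S] S ⊗[A] (P.X j ⧸ LinearMap.range (P.d i j).hom),
      ∀ z, r ((dBar (P := P) i j k).lTensor S z) = z := by
  let q := (LinearMap.range (P.d i j).hom).mkQ
  let g := TensorProduct.AlgebraTensorModule.lTensor S S (P.d j k).hom
  let g' := TensorProduct.AlgebraTensorModule.lTensor S S (dBar (P := P) i j k)
  have hq : ∀ y, g' (q.lTensor S y) = g y := fun y => by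
    change (dBar (P := P) i j k).lTensor S (q.lTensor S y) = _
    rw [← LinearMap.lTensor_comp_apply]
    rfl
  have hsurj : Function.Surjective (q.lTensor S) := LinearMap.lTensor_surjective S (Submodule.mkQ_surjective _)
  have hinj : Function.Injective g' := (injective_iff_map_eq_zero _).2 fun z hz => by
    obtain ⟨y, rfl⟩ := hsurj z
    obtain ⟨w, rfl⟩ := (hE y).1 ((hq y).symm.trans hz)
    exact (lTensor_exact S (LinearMap.exact_map_mkQ_range (P.d i j).hom) (Submodule.mkQ_surjective _)).apply_apply_eq_zero w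
  have hrange : LinearMap.range g' = LinearMap.range g := le_antisymm
    (by rintro _ ⟨z, rfl⟩; obtain ⟨y, rfl⟩ := hsurj z; exact ⟨y, (hq y).symm⟩)
    (by rintro _ ⟨y, rfl⟩; exact ⟨_, hq y⟩)
  haveI := hQ
  obtain ⟨σ, hσ⟩ := Module.projective_lifting_property (LinearMap.range g).mkQ LinearMap.id (Submodule.mkQ_surjective _)
  let e : (S ⊗[A] P.X k) →ₗ[S] LinearMap.range g' :=
    (LinearMap.id - σ ∘ₗ (LinearMap.range g).mkQ).codRestrict _ fun x => by
      refine (SetLike.ext_iff.1 hrange _).2 ((Submodule.Quotient.mk_eq_zero _).1 ?_)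
      change (LinearMap.range g).mkQ (x - σ ((LinearMap.range g).mkQ x)) = 0
      rw [map_sub, sub_eq_zero]
      exact (LinearMap.congr_fun hσ _).symm
  refine ⟨(LinearEquiv.ofInjective g' hinj).symm.toLinearMap ∘ₗ e, fun z => ?_⟩
  refine (congrArg _ (Subtype.ext ?_)).trans ((LinearEquiv.ofInjective g' hinj).symm_apply_apply z)
  change g' z - σ ((LinearMap.range g).mkQ (g' z)) = g' z
  rw [show (LinearMap.range g).mkQ (g' z) = 0 from
    (Submodule.Quotient.mk_eq_zero _).2 (hrange ▸ LinearMap.mem_range_self g' z), map_zero, sub_zero]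

end

/-- spreading out a retraction from the local ring at a prime -/
theorem exists_retraction_smul {C F : Type u} [AddCommGroup C] [Module A C] [AddCommGroup F] [Module A F]
    [Module.Finite A C] [Module.Free A F] [Module.Finite A F] (p : Ideal A) [p.IsPrime] (f : C →ₗ[A] F)
    (r : (Localization.AtPrime p ⊗[A] F) →ₗ[Localization.AtPrime p] Localization.AtPrime p ⊗[A] C)
    (hr : ∀ z, r (f.lTensor (Localization.AtPrime p) z) = z) :
    ∃ u, u ∉ p ∧ ∃ r' : F →ₗ[A] C, r' ∘ₗ f = u • LinearMap.id := by
  classical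
  let ι := Module.Free.ChooseBasisIndex A F
  let bas : Module.Basis ι A F := Module.Free.chooseBasis A F
  haveI : Fintype ι := Module.Free.ChooseBasisIndex.fintype A F
  let mC := TensorProduct.mk A (Localization.AtPrime p) C 1
  obtain ⟨s, hs⟩ := IsLocalizedModule.exist_integer_multiples_of_finite p.primeCompl mC fun j => r (1 ⊗ₜ bas j)
  choose c hc using hs
  let r₀ : F →ₗ[A] C := bas.constr A c
  have h1 : mC ∘ₗ r₀ = (s : A) • (r.restrictScalars A ∘ₗ TensorProduct.mk A (Localization.AtPrime p) F 1) :=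
    bas.ext fun j => by
      simp only [LinearMap.comp_apply, r₀, Module.Basis.constr_basis]
      exact hc j
  have h2 : ∀ x : C, ∃ v : p.primeCompl, (v : A) • (r₀ (f x)) = (v : A) • ((s : A) • x) := fun x => by
    refine (IsLocalizedModule.eq_iff_exists p.primeCompl mC).1 ?_
    refine (LinearMap.congr_fun h1 (f x)).trans ?_
    change (s : A) • r (1 ⊗ₜ[A] f x) = (1 : Localization.AtPrime p) ⊗ₜ[A] ((s : A) • x)
    rw [TensorProduct.tmul_smul]
    congr 1
    exact hr (1 ⊗ₜ x)
  obtain ⟨n, g, hg⟩ := Module.Finite.exists_fin' A C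
  choose v hv using fun j => h2 (g (Pi.single j 1))
  let V : p.primeCompl := ∏ j, v j
  refine ⟨(V : A) * (s : A), fun h => (p.primeCompl.mul_mem V.2 s.2 : _ ∈ p.primeCompl) h, (V : A) • r₀, ?_⟩
  refine LinearMap.cancel_right hg |>.1 (LinearMap.pi_ext fun j a => ?_)
  rw [show Pi.single j a = a • Pi.single j (1 : A) by rw [← Pi.single_smul', smul_eq_mul, mul_one], map_smul, map_smul]
  congr 1
  obtain ⟨w, hw⟩ : ∃ w, (V : A) = w * (v j : A) := by
    refine ⟨∏ l ∈ Finset.univ.erase j, (v l : A), ?_⟩
    rw [show (V : A) = ∏ l, (v l : A) from map_prod p.primeCompl.subtype v _,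
      ← Finset.prod_erase_mul _ _ (Finset.mem_univ j)]
  simp only [LinearMap.comp_apply, LinearMap.smul_apply, LinearMap.id_apply]
  rw [hw, mul_smul, hv j, ← mul_smul, ← mul_smul]

variable {P : DRing.Cx A} (i j k : ℤ)

/-- base change of a split short piece -/
theorem projective_of_retraction_smul {S : Type u} [CommRing S] [Algebra A S] {u : A} (hu : IsUnit (algebraMap A S u))
    (hfp : DRing.TermwiseFiniteProjective P) {r : P.X k →ₗ[A] P.X j ⧸ LinearMap.range (P.d i j).hom}
    (hr : r ∘ₗ dBar (P := P) i j k = u • LinearMap.id) :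
    Function.Exact ((P.d i j).hom.lTensor S) ((P.d j k).hom.lTensor S) ∧
      Module.Projective S (S ⊗[A] P.X k ⧸
        LinearMap.range (TensorProduct.AlgebraTensorModule.lTensor S S (P.d j k).hom)) := by
  obtain ⟨w, hw⟩ := hu
  let q := (LinearMap.range (P.d i j).hom).mkQ
  let g := TensorProduct.AlgebraTensorModule.lTensor S S (P.d j k).hom
  let g' := TensorProduct.AlgebraTensorModule.lTensor S S (dBar (P := P) i j k)
  let r' := (↑w⁻¹ : S) • TensorProduct.AlgebraTensorModule.lTensor S S r
  have hr' : ∀ z, r' (g' z) = z := fun z => by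
    change (↑w⁻¹ : S) • r.lTensor S ((dBar (P := P) i j k).lTensor S z) = z
    rw [← LinearMap.lTensor_comp_apply, hr, LinearMap.lTensor_smul, LinearMap.lTensor_id, LinearMap.smul_apply,
      LinearMap.id_apply, ← IsScalarTower.algebraMap_smul S u z, smul_smul, ← hw, Units.inv_mul, one_smul]
  have hq : ∀ y, g' (q.lTensor S y) = g y := fun y => by
    change (dBar (P := P) i j k).lTensor S (q.lTensor S y) = _
    rw [← LinearMap.lTensor_comp_apply]
    rfl
  refine ⟨fun y => ⟨fun hy => ?_, ?_⟩, ?_⟩
  · have h0 : q.lTensor S y = 0 := by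
      rw [← hr' (q.lTensor S y), hq]
      exact (congrArg r' hy).trans (map_zero _)
    exact (lTensor_exact S (LinearMap.exact_map_mkQ_range (P.d i j).hom) (Submodule.mkQ_surjective _) y).1 h0
  · rintro ⟨x, rfl⟩
    rw [← LinearMap.lTensor_comp_apply, show (P.d j k).hom ∘ₗ (P.d i j).hom = 0 from
      congrArg ModuleCat.Hom.hom (P.d_comp_d i j k), LinearMap.lTensor_zero, LinearMap.zero_apply]
  · haveI := (hfp k).2
    refine Module.Projective.of_split (Submodule.liftQ _ (LinearMap.id - g' ∘ₗ r') ?_) (LinearMap.range g).mkQ ?_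
    · rintro _ ⟨y, rfl⟩
      rw [LinearMap.mem_ker, LinearMap.sub_apply, LinearMap.id_apply, LinearMap.comp_apply,
        show r' (g y) = q.lTensor S y by rw [← hq, hr'], hq, sub_self]
    · refine Submodule.linearMap_qext _ (LinearMap.ext fun x => ?_)
      refine (Submodule.Quotient.eq _).2 ?_
      change x - g' (r' x) - x ∈ _
      rw [sub_sub_cancel_left]
      obtain ⟨y, hy⟩ := LinearMap.lTensor_surjective S (Submodule.mkQ_surjective (LinearMap.range (P.d i j).hom)) (r' x)
      exact neg_mem ⟨y, by rw [← hy, hq]⟩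

end Groth.Agent.PseudoCoh
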