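import Groth.Agent.PseudoCoh.BaseChangeAmp
import Mathlib.Algebra.Module.LocalizedModule.IsLocalization
import Mathlib.RingTheory.Localization.Away.Basic

/-!
# Tor amplitude through exactness of `N ⊗ P` for all modules `N`
-/

set_option autoImplicit false

universe u

open CategoryTheory CategoryTheory.Limits CategoryTheory.Pretriangulated DerivedCategory DerivedCategory.TStructure
open scoped TensorProduct

attribute [local instance] HasDerivedCategory.standard

noncomputable section

namespace Groth.Agent.PseudoCoh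

variable {A B : Type u} [CommRing A] [CommRing B]

/-- exactness survives tensoring when the last cokernel is flat -/
theorem lTensor_exact_of_flat_coker {M₁ M₂ M₃ : Type u} [AddCommGroup M₁] [Module A M₁] [AddCommGroup M₂] [Module A M₂]
    [AddCommGroup M₃] [Module A M₃] (f : M₁ →ₗ[A] M₂) (g : M₂ →ₗ[A] M₃) (h : LinearMap.range f = LinearMap.ker g)
    (hQ : Module.Flat A (M₃ ⧸ LinearMap.range g)) (N : Type u) [AddCommGroup N] [Module A N] :
    Function.Exact (f.lTensor N) (g.lTensor N) := by
  haveI := hQ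
  let l : (M₂ ⧸ LinearMap.range f) →ₗ[A] M₃ := Submodule.liftQ _ g h.le
  have hl : Function.Injective l := by
    rw [← LinearMap.ker_eq_bot, Submodule.ker_liftQ, ← h, Submodule.mkQ_map_self]
  have hinj : Function.Injective (l.lTensor N) :=
    LinearMap.lTensor_injective_of_exact_of_flat (LinearMap.range g).mkQ (Submodule.mkQ_surjective _) l hl
      (LinearMap.exact_iff.2 (by rw [Submodule.ker_mkQ]; exact (Submodule.range_liftQ _ _ _).symm)) N
  intro y
  constructor
  · intro hy
    have h0 : (LinearMap.range f).mkQ.lTensor N y = 0 := hinj (by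
      rw [map_zero, ← LinearMap.comp_apply, ← LinearMap.lTensor_comp, Submodule.liftQ_mkQ]
      exact hy)
    exact (lTensor_exact N (LinearMap.exact_map_mkQ_range f) (Submodule.mkQ_surjective _) y).1 h0
  · rintro ⟨z, rfl⟩
    have hgf : g ∘ₗ f = 0 := LinearMap.ext fun x => h.le ⟨x, rfl⟩
    rw [← LinearMap.comp_apply, ← LinearMap.lTensor_comp, hgf, LinearMap.lTensor_zero, LinearMap.zero_apply]

/-- exactness of `N ⊗ P` in degree `n` -/
def TEx (P : DRing.Cx A) (N : Type u) [AddCommGroup N] [Module A N] (n : ℤ) : Prop :=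
  ∀ y : N ⊗[A] P.X n, (P.d n (n + 1)).hom.lTensor N y = 0 → ∃ z : N ⊗[A] P.X (n - 1), (P.d (n - 1) n).hom.lTensor N z = y

variable {P : DRing.Cx A} {N N₁ N₂ N₃ : Type u} [AddCommGroup N] [Module A N] [AddCommGroup N₁] [Module A N₁]
  [AddCommGroup N₂] [Module A N₂] [AddCommGroup N₃] [Module A N₃]

theorem dlTensor_rTensor (f : N₁ →ₗ[A] N₂) (i j : ℤ) (x : N₁ ⊗[A] P.X i) :
    (P.d i j).hom.lTensor N₂ (f.rTensor (P.X i) x) = f.rTensor (P.X j) ((P.d i j).hom.lTensor N₁ x) := by
  rw [← LinearMap.comp_apply, LinearMap.lTensor_comp_rTensor, ← LinearMap.rTensor_comp_lTensor, LinearMap.comp_apply]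

theorem dd_lTensor (i j k : ℤ) (x : N ⊗[A] P.X i) : (P.d j k).hom.lTensor N ((P.d i j).hom.lTensor N x) = 0 := by
  rw [← LinearMap.comp_apply, ← LinearMap.lTensor_comp,
    show (P.d j k).hom ∘ₗ (P.d i j).hom = 0 from congrArg ModuleCat.Hom.hom (P.d_comp_d i j k),
    LinearMap.lTensor_zero, LinearMap.zero_apply]

theorem tex_congr (e : N₁ ≃ₗ[A] N₂) {n : ℤ} (h : TEx P N₁ n) : TEx P N₂ n := by
  intro y hy
  have hy' : (P.d n (n + 1)).hom.lTensor N₁ (e.symm.toLinearMap.rTensor (P.X n) y) = 0 := by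
    rw [dlTensor_rTensor, hy, map_zero]
  obtain ⟨z, hz⟩ := h _ hy'
  refine ⟨e.toLinearMap.rTensor (P.X (n - 1)) z, ?_⟩
  rw [dlTensor_rTensor, hz, ← LinearMap.comp_apply, ← LinearMap.rTensor_comp, LinearEquiv.comp_symm,
    LinearMap.rTensor_id, LinearMap.id_apply]

section Seq

variable {i : N₁ →ₗ[A] N₂} {p : N₂ →ₗ[A] N₃} (hi : Function.Injective i) (hp : Function.Surjective p)
  (hip : Function.Exact i p) (hflat : ∀ m, Module.Flat A (P.X m))

include hi hp hip hflat in
theorem tex_middle {n : ℤ} (h₁ : TEx P N₁ n) (h₃ : TEx P N₃ n) : TEx P N₂ n := by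
  intro y hy
  obtain ⟨u, hu⟩ := h₃ (p.rTensor _ y) (by rw [dlTensor_rTensor, hy, map_zero])
  obtain ⟨u', rfl⟩ := LinearMap.rTensor_surjective (P.X (n - 1)) hp u
  obtain ⟨y₁, hy₁⟩ := (rTensor_exact (P.X n) hip hp (y - (P.d (n - 1) n).hom.lTensor N₂ u')).1
    (by rw [map_sub, ← dlTensor_rTensor, hu, sub_self])
  obtain ⟨w, hw⟩ := h₁ y₁ (by
    haveI := hflat (n + 1)
    refine (Module.Flat.rTensor_preserves_injective_linearMap (M := P.X (n + 1)) i hi) ?_
    rw [← dlTensor_rTensor, hy₁, map_sub, hy, dd_lTensor, sub_zero, map_zero])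
  refine ⟨u' + i.rTensor _ w, ?_⟩
  rw [map_add, dlTensor_rTensor, hw, hy₁, add_sub_cancel]

include hi hp hip hflat in
theorem tex_left {n : ℤ} (h₂ : TEx P N₂ n) (h₃ : TEx P N₃ (n - 1)) : TEx P N₁ n := by
  intro y hy
  obtain ⟨w, hw⟩ := h₂ (i.rTensor _ y) (by rw [dlTensor_rTensor, hy, map_zero])
  obtain ⟨u, hu⟩ := h₃ (p.rTensor _ w) (by
    rw [show n - 1 + 1 = n by omega, dlTensor_rTensor, hw, ← LinearMap.comp_apply, ← LinearMap.rTensor_comp,
      hip.linearMap_comp_eq_zero, LinearMap.rTensor_zero, LinearMap.zero_apply])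
  obtain ⟨u', rfl⟩ := LinearMap.rTensor_surjective (P.X (n - 1 - 1)) hp u
  obtain ⟨w₁, hw₁⟩ := (rTensor_exact (P.X (n - 1)) hip hp (w - (P.d (n - 1 - 1) (n - 1)).hom.lTensor N₂ u')).1
    (by rw [map_sub, ← dlTensor_rTensor, hu, sub_self])
  refine ⟨w₁, ?_⟩
  haveI := hflat n
  refine (Module.Flat.rTensor_preserves_injective_linearMap (M := P.X n) i hi) ?_
  rw [← dlTensor_rTensor, hw₁, map_sub, hw, dd_lTensor, sub_zero]

include hflat in
/-- directed unions -/
theorem tex_union (S : ℕ → Submodule A N) (hS : Monotone S) (htop : ∀ x, ∃ k, x ∈ S k) {n : ℤ}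
    (h : ∀ k, TEx P (S k) n) : TEx P N n := by
  intro y hy
  have key : ∀ y : N ⊗[A] P.X n, ∃ k, y ∈ LinearMap.range ((S k).subtype.rTensor (P.X n)) := fun y => by
    induction y using TensorProduct.induction_on with
    | zero => exact ⟨0, zero_mem _⟩
    | tmul x v =>
      obtain ⟨k, hk⟩ := htop x
      exact ⟨k, (⟨x, hk⟩ : S k) ⊗ₜ v, rfl⟩
    | add v w hv hw =>
      obtain ⟨k, hk⟩ := hv
      obtain ⟨l, hl⟩ := hw
      have hle : ∀ k k', k ≤ k' → LinearMap.range ((S k).subtype.rTensor (P.X n)) ≤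
          LinearMap.range ((S k').subtype.rTensor (P.X n)) := fun k k' h => by
        rw [show (S k).subtype = (S k').subtype ∘ₗ Submodule.inclusion (hS h) from rfl, LinearMap.rTensor_comp]
        exact LinearMap.range_comp_le_range _ _
      exact ⟨max k l, add_mem (hle _ _ (le_max_left k l) hk) (hle _ _ (le_max_right k l) hl)⟩
  obtain ⟨k, y', rfl⟩ := key y
  obtain ⟨z, hz⟩ := h k y' (by
    haveI := hflat (n + 1)
    refine (Module.Flat.rTensor_preserves_injective_linearMap (M := P.X (n + 1)) _ (S k).injective_subtype) ?_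
    rw [← dlTensor_rTensor, hy, map_zero])
  exact ⟨(S k).subtype.rTensor _ z, by rw [dlTensor_rTensor, hz]⟩

end Seq

/-- modules killed by powers of an ideal -/
theorem tex_of_killed_pow (hflat : ∀ m, Module.Flat A (P.X m)) (J : Ideal A) (a : ℤ)
    (h : ∀ (N : Type u) [AddCommGroup N] [Module A N], (∀ r ∈ J, ∀ x : N, r • x = 0) → ∀ n, n < a → TEx P N n) :
    ∀ (k : ℕ) (N : Type u) [AddCommGroup N] [Module A N], (∀ r ∈ J ^ k, ∀ x : N, r • x = 0) → ∀ n, n < a → TEx P N n := by
  intro k
  induction k with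
  | zero =>
    intro N _ _ hN n hn
    exact h N (fun r _ x => hN r (by simp [pow_zero, Ideal.one_eq_top]) x) n hn
  | succ k ih =>
    intro N _ _ hN n hn
    refine tex_middle (i := (J • ⊤ : Submodule A N).subtype) (p := (J • ⊤ : Submodule A N).mkQ) (Submodule.injective_subtype _)
      (Submodule.mkQ_surjective _) (LinearMap.exact_subtype_mkQ _) hflat (ih _ (fun r hr x => Subtype.ext ?_) n hn)
      (h _ (fun r hr x => ?_) n hn)
    · obtain ⟨x, hx⟩ := x
      change r • x = 0
      refine Submodule.smul_induction_on (p := fun x => r • x = 0) hx (fun s hs y _ => ?_) (fun y z hy hz => by rw [smul_add, hy, hz, add_zero])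
      rw [← mul_smul]
      exact hN (r * s) (pow_succ J k ▸ Ideal.mul_mem_mul hr hs) y
    · obtain ⟨x, rfl⟩ := Submodule.mkQ_surjective _ x
      rw [← map_smul]
      exact (Submodule.Quotient.mk_eq_zero _).2 (Submodule.smul_mem_smul hr Submodule.mem_top)

/-- a module over `B` -/
theorem tex_restrict (φ : A →+* B) {n : ℤ} (hx : ((Fc φ).obj P).ExactAt n)
    (hQ : Module.Flat B (((Fc φ).obj P).X (n + 1) ⧸ LinearMap.range (((Fc φ).obj P).d n (n + 1)).hom))
    (N : ModuleCat.{u} B) : TEx P ((ModuleCat.restrictScalars.{u} φ).obj N) n := by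
  letI := φ.toAlgebra
  letI : Module A N := Module.compHom N φ
  haveI : IsScalarTower A B N := ⟨fun a b x => mul_smul (φ a) b x⟩
  let e := fun m => TensorProduct.AlgebraTensorModule.cancelBaseChange A B B N (P.X m)
  have hE := lTensor_exact_of_flat_coker ((P.d (n - 1) n).hom.baseChange B) ((P.d n (n + 1)).hom.baseChange B)
    (range_eq_ker _ (sub_add_cancel n 1) rfl hx) hQ N
  have hcomm : ∀ (i j : ℤ) (x : N ⊗[B] (B ⊗[A] P.X i)),
      (P.d i j).hom.lTensor N (e i x) = e j (((P.d i j).hom.baseChange B).lTensor N x) := fun i j x => by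
    induction x using TensorProduct.induction_on with
    | zero => simp only [map_zero]
    | tmul m s =>
      induction s using TensorProduct.induction_on with
      | zero => simp only [TensorProduct.tmul_zero, map_zero]
      | tmul b v => rfl
      | add v w hv hw => simp only [TensorProduct.tmul_add, map_add, hv, hw]
    | add v w hv hw => simp only [map_add, hv, hw]
  intro y hy
  obtain ⟨x, rfl⟩ : ∃ x, e n x = y := (e n).surjective y
  have h0 : ((P.d n (n + 1)).hom.baseChange B).lTensor N x = 0 :=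
    (e (n + 1)).injective (((hcomm n (n + 1) x).symm.trans hy).trans (map_zero _).symm)
  obtain ⟨z, hz⟩ := (hE x).1 h0
  exact ⟨e (n - 1) z, (hcomm (n - 1) n z).trans (congrArg (e n) hz)⟩

/-- the base changed complex has tor amplitude, so modules over `B` give exact tensors -/
theorem tex_of_lBaseChange (φ : A →+* B) [DRing.HasLBaseChange φ] {b : ℤ} (hb : ∀ i, b < i → IsZero (P.X i))
    (hp : ∀ i, Projective (P.X i)) {a c : ℤ}
    (h : DRing.HasTorAmplitudeIn B a c ((DRing.LBaseChange φ).obj (DRing.toD P))) (N : ModuleCat.{u} B) {n : ℤ}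
    (hn : n < a) : TEx P ((ModuleCat.restrictScalars.{u} φ).obj N) n := by
  haveI := isKProjective_of_le hb hp
  haveI := isKProjective_extend φ P
  let G := (Fc φ).obj P
  have hGb : ∀ i, b < i → IsZero (G.X i) := fun i hi => (ModuleCat.extendScalars.{u, u, u} φ).map_isZero (hb i hi)
  let e := Groth.Agent.KProjRes.lBaseChangeIso φ P
  obtain ⟨F, hFb, hFp, hF, ⟨eF⟩⟩ := exists_projective_le (DRing.toD G) b (isLE_toD_of_vanishes hGb)
  have hGflat : ∀ i, Module.Flat B (G.X i) := fun i => by
    letI := φ.toAlgebra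
    haveI := hp i
    haveI : Module.Projective A (P.X i) := (IsProjective.iff_projective (P.X i)).2 inferInstance
    exact (inferInstance : Module.Flat B (B ⊗[A] P.X i))
  have hGp : ∀ i, Projective (G.X i) := fun i => by
    letI := φ.toAlgebra
    haveI := hp i
    haveI : Module.Projective A (P.X i) := (IsProjective.iff_projective (P.X i)).2 inferInstance
    haveI : Module.Projective B (B ⊗[A] P.X i) := inferInstance
    exact (IsProjective.iff_projective (G.X i)).1 this
  obtain ⟨a₀, ha₀⟩ : ∃ a₀, a₀ + 1 = a := ⟨a - 1, sub_add_cancel a 1⟩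
  have h' : DRing.HasTorAmplitudeIn B a c (DRing.toD G) := torAmplitude_of_iso e h
  have hx : ∀ i, i < a → G.ExactAt i := fun i hi => exactAt_of_isGE_toD (isGE_of_torAmplitude h') hi
  exact tex_restrict φ (hx n hn) (flat_coker_below hGflat hx ha₀
    (flat_coker_of_torAmplitude ha₀ hGb hGp (Iso.refl _) h') n (n + 1) rfl (by omega)) N

/-- modules killed by the kernel of a surjection -/
theorem tex_of_killed (φ : A →+* B) (hφ : Function.Surjective φ) [DRing.HasLBaseChange φ] {b : ℤ}
    (hb : ∀ i, b < i → IsZero (P.X i)) (hp : ∀ i, Projective (P.X i)) {a c : ℤ}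
    (h : DRing.HasTorAmplitudeIn B a c ((DRing.LBaseChange φ).obj (DRing.toD P)))
    (N : Type u) [AddCommGroup N] [Module A N] (hN : ∀ r ∈ RingHom.ker φ, ∀ x : N, r • x = 0) {n : ℤ} (hn : n < a) :
    TEx P N n := by
  let s : B → A := Function.surjInv hφ
  have hs : ∀ b, φ (s b) = b := Function.surjInv_eq hφ
  have heq : ∀ {r r' : A}, φ r = φ r' → ∀ x : N, r • x = r' • x := fun {r r'} hr x => by
    rw [← sub_eq_zero, ← sub_smul]
    exact hN _ (by rw [RingHom.mem_ker, map_sub, hr, sub_self]) x
  letI : Module B N :=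
    { smul := fun b x => s b • x
      one_smul := fun x => (heq (by rw [hs, map_one]) x).trans (one_smul A x)
      mul_smul := fun b b' x => (heq (by rw [map_mul, hs, hs, hs]) x).trans (mul_smul (s b) (s b') x)
      smul_zero := fun b => smul_zero (s b)
      smul_add := fun b => smul_add (s b)
      add_smul := fun b b' x => (heq (by rw [map_add, hs, hs, hs]) x).trans (add_smul (s b) (s b') x)
      zero_smul := fun x => (heq (by rw [hs, map_zero]) x).trans (zero_smul A x) }
  let e : ((ModuleCat.restrictScalars.{u} φ).obj (ModuleCat.of B N)) ≃ₗ[A] N :=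
    { AddEquiv.refl N with map_smul' := fun r x => heq (hs (φ r)) x }
  exact tex_congr e (tex_of_lBaseChange φ hb hp h (ModuleCat.of B N) hn)

/-- modules with bijective multiplication by `f`, and everything from torsion -/
theorem tex_of_away (f : A) (hflat : ∀ m, Module.Flat A (P.X m)) (a : ℤ)
    (hker : ∀ (N : Type u) [AddCommGroup N] [Module A N], (∀ r ∈ Ideal.span ({f} : Set A), ∀ x : N, r • x = 0) →
      ∀ n, n < a → TEx P N n)
    (haway : ∀ (M : ModuleCat.{u} (Localization.Away f)) (n : ℤ), n < a →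
      TEx P ((ModuleCat.restrictScalars.{u} (algebraMap A (Localization.Away f))).obj M) n) :
    ∀ (N : Type u) [AddCommGroup N] [Module A N] (n : ℤ), n < a → TEx P N n := by
  intro N _ _ n hn
  have htors : ∀ (T : Type u) [AddCommGroup T] [Module A T], (∀ x : T, ∃ k : ℕ, f ^ k • x = 0) →
      ∀ n, n < a → TEx P T n := fun T _ _ hT n hn => by
    refine tex_union hflat (fun k => LinearMap.ker (LinearMap.lsmul A T (f ^ k))) (fun k l hkl x hx => ?_) hT
      fun k => tex_of_killed_pow hflat _ a hker k _ (fun r hr x => ?_) n hn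
    · change f ^ l • x = 0
      rw [← Nat.sub_add_cancel hkl, pow_add, mul_smul, show f ^ k • x = 0 from hx, smul_zero]
    · rw [Ideal.span_singleton_pow, Ideal.mem_span_singleton'] at hr
      obtain ⟨s, rfl⟩ := hr
      refine Subtype.ext ?_
      change (s * f ^ k) • x.1 = 0
      rw [mul_smul, show f ^ k • x.1 = 0 from x.2, smul_zero]
  let S := Submonoid.powers f
  let L := LocalizedModule S N
  let ι : N →ₗ[A] L := LocalizedModule.mkLinearMap S N
  let eL : ((ModuleCat.restrictScalars.{u} (algebraMap A (Localization.Away f))).obj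
      (ModuleCat.of (Localization.Away f) L)) ≃ₗ[A] L :=
    { AddEquiv.refl L with map_smul' := fun r x => algebraMap_smul (Localization.Away f) r (show L from x) }
  have hL : ∀ n, n < a → TEx P L n := fun n hn => tex_congr eL (haway _ n hn)
  refine tex_middle (i := (LinearMap.ker ι).subtype) (p := ι.rangeRestrict) (Submodule.injective_subtype _)
    ι.surjective_rangeRestrict ?_ hflat (htors _ (fun x => ?_) n hn) ?_
  · rw [LinearMap.exact_iff, LinearMap.ker_rangeRestrict, Submodule.range_subtype]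
  · obtain ⟨⟨_, k, rfl⟩, hk⟩ := (IsLocalizedModule.eq_iff_exists S ι).1 (x.2.trans (map_zero ι).symm)
    refine ⟨k, Subtype.ext ?_⟩
    simpa [Submonoid.smul_def] using hk
  · refine tex_left (i := (LinearMap.range ι).subtype) (p := (LinearMap.range ι).mkQ) (Submodule.injective_subtype _)
      (Submodule.mkQ_surjective _) (LinearMap.exact_subtype_mkQ _) hflat (hL n hn) (htors _ (fun q => ?_) (n - 1) (by omega))
    obtain ⟨x, rfl⟩ := Submodule.mkQ_surjective _ q
    obtain ⟨⟨m, ⟨_, k, rfl⟩⟩, hm⟩ := IsLocalizedModule.surj S ι x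
    refine ⟨k, ?_⟩
    rw [← map_smul]
    exact (Submodule.Quotient.mk_eq_zero _).2 ⟨m, hm.symm⟩

/-- criterion of tor amplitude by tensors with all modules -/
theorem torAmplitude_of_tex {b : ℤ} (hb : ∀ i, b < i → IsZero (P.X i)) (hflat : ∀ m, Module.Flat A (P.X m)) {a c : ℤ}
    (hle : t.IsLE (DRing.toD P) c)
    (h : ∀ (N : Type u) [AddCommGroup N] [Module A N] (n : ℤ), n < a → TEx P N n) :
    DRing.HasTorAmplitudeIn A a c (DRing.toD P) := by
  have hex : ∀ i, i < a → P.ExactAt i := fun i hi => by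
    rw [P.exactAt_iff' (i - 1) i (i + 1) (by simp) (by simp), ShortComplex.moduleCat_exact_iff]
    intro y hy
    have hy0 : (P.d i (i + 1)).hom y = 0 := hy
    obtain ⟨z, hz⟩ := h A i hi ((1 : A) ⊗ₜ[A] y) (by rw [LinearMap.lTensor_tmul, hy0, TensorProduct.tmul_zero])
    refine ⟨(TensorProduct.lid A (P.X (i - 1)) z : P.X (i - 1)), ?_⟩
    have hnat : ∀ z : A ⊗[A] P.X (i - 1),
        (P.d (i - 1) i).hom (TensorProduct.lid A _ z) = TensorProduct.lid A _ ((P.d (i - 1) i).hom.lTensor A z) := fun z => by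
      induction z using TensorProduct.induction_on with
      | zero => simp only [map_zero]
      | tmul r v => simp
      | add v w hv hw => simp only [map_add, hv, hw]
    exact (hnat z).trans ((congrArg _ hz).trans ((TensorProduct.lid_tmul y (1 : A)).trans (one_smul A y)))
  refine torAmplitude_of_complex (sub_add_cancel a 1) hb hflat
    ((DerivedCategory.isGE_iff _ _).2 fun i hi => (hex i hi).isZero_homology.of_iso
      ((DerivedCategory.homologyFunctorFactors (ModuleCat.{u} A) i).app P)) hle ?_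
  let d₁ := (P.d (a - 1) a).hom
  refine Module.Flat.iff_lTensor_preserves_injective_linearMap.2 fun N' N _ _ _ _ f hf => ?_
  rw [LinearMap.lTensor_inj_iff_rTensor_inj, injective_iff_map_eq_zero]
  intro x hx
  obtain ⟨y, rfl⟩ := LinearMap.lTensor_surjective N' (Submodule.mkQ_surjective (LinearMap.range d₁)) x
  obtain ⟨w, hw⟩ := (lTensor_exact N (LinearMap.exact_map_mkQ_range d₁) (Submodule.mkQ_surjective _) (f.rTensor _ y)).1 (by
    rw [← LinearMap.comp_apply, LinearMap.lTensor_comp_rTensor, ← LinearMap.rTensor_comp_lTensor]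
    exact hx)
  let q := (LinearMap.range f).mkQ
  have hfq : Function.Exact f q := LinearMap.exact_map_mkQ_range f
  obtain ⟨u, hu⟩ := h (N ⧸ LinearMap.range f) (a - 1) (by omega) (q.rTensor _ w) (by
    rw [show a - 1 + 1 = a by omega, dlTensor_rTensor, hw, ← LinearMap.comp_apply, ← LinearMap.rTensor_comp,
      hfq.linearMap_comp_eq_zero, LinearMap.rTensor_zero, LinearMap.zero_apply])
  obtain ⟨u', rfl⟩ := LinearMap.rTensor_surjective (P.X (a - 1 - 1)) (Submodule.mkQ_surjective _ : Function.Surjective q) u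
  obtain ⟨w', hw'⟩ := (rTensor_exact (P.X (a - 1)) hfq (Submodule.mkQ_surjective _)
    (w - (P.d (a - 1 - 1) (a - 1)).hom.lTensor N u')).1 (by rw [map_sub, ← dlTensor_rTensor, hu, sub_self])
  have hy : d₁.lTensor N' w' = y := by
    haveI := hflat a
    refine (Module.Flat.rTensor_preserves_injective_linearMap (M := P.X a) f hf) ?_
    rw [← dlTensor_rTensor, hw', map_sub, dd_lTensor, sub_zero, hw]
  rw [← hy, ← LinearMap.comp_apply, ← LinearMap.lTensor_comp, LinearMap.range_mkQ_comp, LinearMap.lTensor_zero,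
    LinearMap.zero_apply]

end Groth.Agent.PseudoCoh
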