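import Groth.Agent.PseudoCoh.TorAmp
import Groth.Agent.KFlatLib.LCompute

/-!
# K-projective complexes are K-flat; derived tensor products on them
-/

set_option autoImplicit false

universe u

open CategoryTheory CategoryTheory.Limits HomologicalComplex MonoidalCategory

attribute [local instance] HasDerivedCategory.standard

noncomputable section

namespace Groth.Agent.PseudoCoh

open Groth.Agent.KFlatLib

variable {A : Type u} [CommRing A] (T : ModuleCat.{u} A ⥤ ModuleCat.{u} A ⥤ ModuleCat.{u} A) [T.Additive]
  [∀ X, (T.obj X).Additive]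
  [∀ K L : CochainComplex (ModuleCat.{u} A) ℤ, HomologicalComplex.HasMapBifunctor K L T (ComplexShape.up ℤ)]

/-- a K-projective complex with a K-flat resolution is K-flat -/
theorem isKFlat_of_isKProjective {P K : DRing.Cx A} [CochainComplex.IsKProjective P] (q : K ⟶ P) [QuasiIso q]
    (hK : IsKFlat T K) : IsKFlat T P := fun L hL i => by
  obtain ⟨s, hs⟩ := exists_Q_map (inv (DerivedCategory.Q.map q))
  obtain ⟨H⟩ := homotopy_of_Q_map_eq (s ≫ q) (𝟙 P)
    (by rw [Functor.map_comp, hs, IsIso.inv_hom_id, CategoryTheory.Functor.map_id])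
  have h₁ := HomologicalComplex.mapBifunctorMapHomotopy₂ (𝟙 L) H T (ComplexShape.up ℤ)
  rw [IsZero.iff_id_eq_zero]
  have h₃ : homologyMap ((Φ T L).map (s ≫ q)) i = homologyMap ((Φ T L).map (𝟙 P)) i := h₁.homologyMap_eq i
  rw [Functor.map_comp, homologyMap_comp, CategoryTheory.Functor.map_id, homologyMap_id,
    (hK L hL i).eq_of_tgt (homologyMap ((Φ T L).map s) i) 0, zero_comp] at h₃
  exact h₃.symm

/-- derived tensor product with a module at a K-projective complex -/
theorem nonempty_lTensorIso (M : ModuleCat.{u} A) [DRing.HasLTensor A M] (P : DRing.Cx A)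
    [CochainComplex.IsKProjective P] :
    Nonempty ((DRing.LTensor A M).obj (DRing.toD P) ≅
      DRing.toD (((tensorRight M).mapHomologicalComplex (ComplexShape.up ℤ)).obj P)) := by
  obtain ⟨K, q, hK, hq⟩ := exists_flip_resolution_module A P
  haveI := hq
  exact nonempty_tensorIso_ring M P (isKFlat_of_isKProjective _ q hK)

end Groth.Agent.PseudoCoh
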