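import Groth.Agent.PseudoCoh.Criteria
import Mathlib.Algebra.Homology.Embedding.CochainComplex
import Mathlib.Algebra.Category.ModuleCat.Projective
import Mathlib.RingTheory.Flat.Equalizer
import Mathlib.RingTheory.Flat.EquationalCriterion

/-!
# Canonical truncations of complexes of flat or projective modules
-/

set_option autoImplicit false

universe u

open CategoryTheory CategoryTheory.Limits CategoryTheory.Pretriangulated DerivedCategory DerivedCategory.TStructure

attribute [local instance] HasDerivedCategory.standard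

noncomputable section

namespace Groth.Agent.PseudoCoh

variable {A : Type u} [CommRing A]

section FlatAlgebra

variable {M N P : Type u} [AddCommGroup M] [Module A M] [AddCommGroup N] [Module A N] [AddCommGroup P] [Module A P]

/-- the kernel of a surjection of flat modules is flat -/
theorem flat_ker (f : N →ₗ[A] P) (hf : Function.Surjective f) [Module.Flat A N] [Module.Flat A P] :
    Module.Flat A (LinearMap.ker f) := by
  rw [Module.Flat.iff_lTensor_preserves_injective_linearMap]
  intro V W _ _ _ _ g hg
  have h1 : Function.Injective ((LinearMap.ker f).subtype.rTensor V) := by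
    have h := LinearMap.lTensor_injective_of_exact_of_flat f hf (LinearMap.ker f).subtype
      (LinearMap.ker f).subtype_injective (LinearMap.exact_subtype_ker_map f) V
    exact (LinearMap.lTensor_inj_iff_rTensor_inj V _).1 h
  have h2 : Function.Injective (g.lTensor N) := Module.Flat.lTensor_preserves_injective_linearMap g hg
  have e : ((LinearMap.ker f).subtype.rTensor W).comp (g.lTensor (LinearMap.ker f)) =
      (g.lTensor N).comp ((LinearMap.ker f).subtype.rTensor V) := by
    rw [LinearMap.rTensor_comp_lTensor, LinearMap.lTensor_comp_rTensor]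
  refine Function.Injective.of_comp (f := (LinearMap.ker f).subtype.rTensor W) ?_
  rw [← LinearMap.coe_comp, e, LinearMap.coe_comp]
  exact h2.comp h1

/-- an extension of flat modules is flat -/
theorem flat_of_exact (i : M →ₗ[A] N) (p : N →ₗ[A] P) (hi : Function.Injective i) (hp : Function.Surjective p)
    (h : Function.Exact i p) [Module.Flat A M] [Module.Flat A P] : Module.Flat A N := by
  rw [Module.Flat.iff_lTensor_preserves_injective_linearMap]
  intro V W _ _ _ _ g hg
  rw [injective_iff_map_eq_zero]
  intro x hx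
  have hx' : p.rTensor V x = 0 := by
    apply Module.Flat.lTensor_preserves_injective_linearMap (M := P) g hg
    rw [map_zero]
    calc g.lTensor P (p.rTensor V x) = p.rTensor W (g.lTensor N x) := by
          rw [← LinearMap.comp_apply, ← LinearMap.comp_apply, LinearMap.rTensor_comp_lTensor,
            LinearMap.lTensor_comp_rTensor]
      _ = 0 := by rw [hx, map_zero]
  obtain ⟨y, rfl⟩ := (rTensor_exact V h hp x).1 hx'
  have h1 : Function.Injective (i.rTensor W) :=
    (LinearMap.lTensor_inj_iff_rTensor_inj W _).1 (LinearMap.lTensor_injective_of_exact_of_flat p hp i hi h W)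
  have hy : g.lTensor M y = 0 := h1 (by
    rw [map_zero, ← hx, ← LinearMap.comp_apply, ← LinearMap.comp_apply, LinearMap.rTensor_comp_lTensor,
      LinearMap.lTensor_comp_rTensor])
  rw [Module.Flat.lTensor_preserves_injective_linearMap (M := M) g hg (hy.trans (map_zero _).symm), map_zero]

theorem flat_prod' [Module.Flat A M] [Module.Flat A P] : Module.Flat A (M × P) :=
  flat_of_exact (LinearMap.inl A M P) (LinearMap.snd A M P) LinearMap.inl_injective LinearMap.snd_surjective
    Function.Exact.inl_snd

end FlatAlgebra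

section Complexes

variable (E : DRing.Cx A)

lemma range_eq_ker {i j k : ℤ} (hij : i + 1 = j) (hjk : j + 1 = k) (h : E.ExactAt j) :
    LinearMap.range (E.d i j).hom = LinearMap.ker (E.d j k).hom := by
  rw [E.exactAt_iff' i j k (by simp; omega) (by simp; omega)] at h
  exact h.moduleCat_range_eq_ker

variable {E}

/-- cycles of a bounded above complex of flat modules which is exact above -/
theorem flat_cycles {n b : ℤ} (hb : ∀ i, b < i → IsZero (E.X i)) (hflat : ∀ i, Module.Flat A (E.X i))
    (hx : ∀ i, n < i → E.ExactAt i) :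
    Module.Flat A (LinearMap.ker (E.d n (n + 1)).hom) := by
  suffices key : ∀ (j : ℕ) (i : ℤ), n ≤ i → b + 1 ≤ i + j → Module.Flat A (LinearMap.ker (E.d i (i + 1)).hom) from
    key (b + 1 - n).toNat n le_rfl (by omega)
  intro j
  induction j with
  | zero =>
    intro i _ hi
    haveI := ModuleCat.subsingleton_of_isZero (hb i (by omega))
    haveI := Module.Free.of_subsingleton A (LinearMap.ker (E.d i (i + 1)).hom)
    infer_instance
  | succ j ih =>
    intro i hni hi
    haveI := hflat i
    haveI h1 := ih (i + 1) (by omega) (by omega)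
    haveI : Module.Flat A (LinearMap.range (E.d i (i + 1)).hom) :=
      Module.Flat.of_linearEquiv (LinearEquiv.ofEq _ _ (range_eq_ker E rfl rfl (hx (i + 1) (by omega))))
    have h := flat_ker (E.d i (i + 1)).hom.rangeRestrict (LinearMap.surjective_rangeRestrict _)
    rwa [LinearMap.ker_rangeRestrict] at h

/-- cokernels in a bounded above exact complex of flat modules -/
theorem flat_coker {j b : ℤ} (i : ℤ) (hij : i + 1 = j) (hb : ∀ i, b < i → IsZero (E.X i))
    (hflat : ∀ i, Module.Flat A (E.X i)) (hx : ∀ l, j ≤ l → E.ExactAt l) :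
    Module.Flat A (E.X j ⧸ LinearMap.range (E.d i j).hom) := by
  haveI := flat_cycles (n := j + 1) hb hflat fun l hl => hx l (by omega)
  haveI : Module.Flat A (LinearMap.range (E.d j (j + 1)).hom) :=
    Module.Flat.of_linearEquiv (LinearEquiv.ofEq _ _ (range_eq_ker E rfl rfl (hx (j + 1) (by omega))))
  exact Module.Flat.of_linearEquiv ((Submodule.quotEquivOfEq _ _ (range_eq_ker E hij rfl (hx j le_rfl))).trans
    (E.d j (j + 1)).hom.quotKerEquivRange)

variable (E)

/-- `opcycles` as a quotient -/
def opcyclesEquiv (i j : ℤ) (hij : i + 1 = j) : E.opcycles j ≅ ModuleCat.of A (E.X j ⧸ LinearMap.range (E.d i j).hom) :=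
  ShortComplex.opcyclesMapIso (E.isoSc' i j (j + 1) (by simp; omega) (by simp)) ≪≫
    (E.sc' i j (j + 1)).moduleCatOpcyclesIso

/-- `cycles` as a kernel -/
def cyclesEquiv (j : ℤ) : E.cycles j ≅ ModuleCat.of A (LinearMap.ker (E.d j (j + 1)).hom) :=
  ShortComplex.cyclesMapIso (E.isoSc' (j - 1) j (j + 1) (by simp) (by simp)) ≪≫
    (E.sc' (j - 1) j (j + 1)).moduleCatCyclesIso

variable (m n : ℤ)

theorem truncGE_isZero {i : ℤ} (hi : i < m) : IsZero ((E.truncGE m).X i) :=
  (E.truncGE m).isZero_of_isStrictlyGE m i hi

theorem truncGE_exactAt (hx : ∀ i, n < i → E.ExactAt i) {i : ℤ} (hi : n < i) : (E.truncGE m).ExactAt i := by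
  rcases lt_or_ge i m with h | h
  · exact HomologicalComplex.ExactAt.of_iso (HomologicalComplex.exactAt_iff_isZero_homology _ _ |>.2
      ((E.truncGE m).exactAt_of_isSupported (ComplexShape.embeddingUpIntGE m) i (fun l hl => by simp at hl; omega)).isZero_homology)
      (Iso.refl _)
  · haveI := E.quasiIsoAt_πTruncGE m i h
    exact (quasiIsoAt_iff_exactAt (E.πTruncGE m) i (hx i hi)).1 inferInstance

/-- truncation to an interval, retaining a property of the terms -/
theorem exists_trunc (p : ModuleCat.{u} A → Prop) (hiso : ∀ {X Y : ModuleCat.{u} A}, (X ≅ Y) → p X → p Y)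
    (hzero : ∀ {X : ModuleCat.{u} A}, IsZero X → p X)
    (hker : ∀ (C : DRing.Cx A) (c : ℤ), (∀ i, c < i → IsZero (C.X i)) → (∀ i, p (C.X i)) →
      (∀ i, n < i → C.ExactAt i) → p (ModuleCat.of A (LinearMap.ker (C.d n (n + 1)).hom)))
    (b : ℤ) (hb : ∀ i, b < i → IsZero (E.X i)) (hp : ∀ i, p (E.X i)) (hx : ∀ i, n < i → E.ExactAt i)
    (i₀ : ℤ) (hi₀ : i₀ + 1 = m) (hQ : p (ModuleCat.of A (E.X m ⧸ LinearMap.range (E.d i₀ m).hom))) :
    ∃ E' : DRing.Cx A, DRing.VanishesOutside E' m n ∧ (∀ i, p (E'.X i)) ∧
      Nonempty (DRing.toD E' ≅ DRing.toD (E.truncGE m)) := by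
  have hp' : ∀ i, p ((E.truncGE m).X i) := fun i => by
    rcases lt_trichotomy i m with h | rfl | h
    · exact hzero (truncGE_isZero E m h)
    · exact hiso ((E.truncGEXIsoOpcycles i) ≪≫ opcyclesEquiv E i₀ i hi₀).symm hQ
    · exact hiso (E.truncGEXIso m i h).symm (hp i)
  have hb' : ∀ i, max b m < i → IsZero ((E.truncGE m).X i) := fun i hi =>
    (hb i (by omega)).of_iso (E.truncGEXIso m i (by omega))
  have hx' : ∀ i, n < i → (E.truncGE m).ExactAt i := fun i hi => truncGE_exactAt E m n hx hi
  haveI : (E.truncGE m).IsLE n := ((E.truncGE m).isLE_iff n).2 hx'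
  haveI := ((E.truncGE m).quasiIso_ιTruncLE_iff n).2 inferInstance
  refine ⟨(E.truncGE m).truncLE n, fun i hi => ?_, fun i => ?_, ⟨asIso (DerivedCategory.Q.map ((E.truncGE m).ιTruncLE n))⟩⟩
  · rcases lt_trichotomy i n with h | rfl | h
    · exact (truncGE_isZero E m (by omega)).of_iso ((E.truncGE m).truncLEXIso n i h)
    · haveI := ModuleCat.subsingleton_of_isZero (truncGE_isZero E m (show i < m by omega))
      exact (ModuleCat.isZero_of_subsingleton _).of_iso ((E.truncGE m).truncLEXIsoCycles i ≪≫ cyclesEquiv _ i)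
    · exact ((E.truncGE m).truncLE n).isZero_of_isStrictlyLE n i h
  · rcases lt_trichotomy i n with h | rfl | h
    · exact hiso ((E.truncGE m).truncLEXIso n i h).symm (hp' i)
    · exact hiso ((E.truncGE m).truncLEXIsoCycles i ≪≫ cyclesEquiv _ i).symm (hker _ _ hb' hp' hx')
    · exact hzero (((E.truncGE m).truncLE n).isZero_of_isStrictlyLE n i h)

theorem exists_trunc_flat (b : ℤ) (hb : ∀ i, b < i → IsZero (E.X i)) (hflat : DRing.TermwiseFlat E)
    (hx : ∀ i, n < i → E.ExactAt i) (i₀ : ℤ) (hi₀ : i₀ + 1 = m)
    (hQ : Module.Flat A (E.X m ⧸ LinearMap.range (E.d i₀ m).hom)) :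
    ∃ E' : DRing.Cx A, DRing.VanishesOutside E' m n ∧ DRing.TermwiseFlat E' ∧
      Nonempty (DRing.toD E' ≅ DRing.toD (E.truncGE m)) :=
  exists_trunc E m n (fun X => Module.Flat A X)
    (fun e h => haveI := h; Module.Flat.of_linearEquiv e.toLinearEquiv.symm)
    (fun {X} h => by
      haveI := ModuleCat.subsingleton_of_isZero h
      haveI := Module.Free.of_subsingleton A X
      infer_instance)
    (fun _ _ hc hp hx => flat_cycles hc hp hx) b hb hflat hx i₀ hi₀ hQ

theorem exists_trunc_projective (b : ℤ) (hb : ∀ i, b < i → IsZero (E.X i)) (hfp : DRing.TermwiseFiniteProjective E)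
    (hx : ∀ i, n < i → E.ExactAt i) (i₀ : ℤ) (hi₀ : i₀ + 1 = m)
    (hQ : Module.Projective A (E.X m ⧸ LinearMap.range (E.d i₀ m).hom)) :
    ∃ E' : DRing.Cx A, DRing.VanishesOutside E' m n ∧ DRing.TermwiseFiniteProjective E' ∧
      Nonempty (DRing.toD E' ≅ DRing.toD (E.truncGE m)) :=
  exists_trunc E m n (fun X => Module.Finite A X ∧ Module.Projective A X)
    (fun e h => by
      obtain ⟨h1, h2⟩ := h
      exact ⟨Module.Finite.equiv e.toLinearEquiv, Module.Projective.of_equiv e.toLinearEquiv⟩)
    (fun {X} h => by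
      haveI := ModuleCat.subsingleton_of_isZero h
      haveI := Module.Free.of_subsingleton A X
      exact ⟨inferInstance, Module.Projective.of_free⟩)
    (fun C c hc hp hx => finite_projective_cycles' n c hc hp hx) b hb hfp hx i₀ hi₀
    ⟨haveI := (hfp m).1; inferInstanceAs (Module.Finite A (E.X m ⧸ LinearMap.range (E.d i₀ m).hom)), hQ⟩

/-- the cokernel of a finite projective complex, if flat, is projective -/
theorem projective_coker (hfp : DRing.TermwiseFiniteProjective E) {i j : ℤ}
    (hflat : Module.Flat A (E.X j ⧸ LinearMap.range (E.d i j).hom)) :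
    Module.Projective A (E.X j ⧸ LinearMap.range (E.d i j).hom) := by
  haveI := (hfp j).1; haveI := (hfp j).2; haveI := (hfp i).1; haveI := hflat
  haveI : Module.FinitePresentation A (E.X j) := Module.finitePresentation_of_projective A _
  haveI : Module.FinitePresentation A (E.X j ⧸ LinearMap.range (E.d i j).hom) :=
    Module.finitePresentation_of_surjective _ (Submodule.mkQ_surjective _) (by
      rw [Submodule.ker_mkQ, LinearMap.range_eq_map]
      exact (Module.Finite.fg_top).map _)
  exact Module.Flat.projective_of_finitePresentation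

end Complexes

end Groth.Agent.PseudoCoh
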