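import Groth.Agent.PseudoCoh.TorAmp
import Mathlib.Algebra.Homology.Double
import Mathlib.RingTheory.Noetherian.Basic

/-!
# Two-term complexes
-/

set_option autoImplicit false

universe u

open CategoryTheory CategoryTheory.Limits DerivedCategory DerivedCategory.TStructure

attribute [local instance] HasDerivedCategory.standard

noncomputable section

namespace Groth.Agent.PseudoCoh

variable {A : Type u} [CommRing A]

theorem quasiIso_of_elements' {S₁ S₂ : ShortComplex (ModuleCat.{u} A)} (φ : S₁ ⟶ S₂)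
    (hinj : ∀ z, S₁.g z = 0 → (∃ y, S₂.f y = φ.τ₂ z) → ∃ x, S₁.f x = z)
    (hsurj : ∀ w, S₂.g w = 0 → ∃ z y, S₁.g z = 0 ∧ φ.τ₂ z = w + S₂.f y) : ShortComplex.QuasiIso φ := by
  let φK : LinearMap.ker S₁.g.hom →ₗ[A] LinearMap.ker S₂.g.hom :=
    (φ.τ₂.hom ∘ₗ (LinearMap.ker S₁.g.hom).subtype).codRestrict _ fun z => by
      change S₂.g.hom (φ.τ₂.hom z.1) = 0
      exact (ConcreteCategory.congr_hom φ.comm₂₃ z.1).trans ((congrArg φ.τ₃.hom z.2).trans (map_zero _))
  have hle : LinearMap.range S₁.moduleCatToCycles ≤ (LinearMap.range S₂.moduleCatToCycles).comap φK := by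
    rintro _ ⟨x, rfl⟩
    exact ⟨φ.τ₁.hom x, Subtype.ext (ConcreteCategory.congr_hom φ.comm₁₂ x)⟩
  let ψ : ShortComplex.LeftHomologyMapData φ S₁.moduleCatLeftHomologyData S₂.moduleCatLeftHomologyData :=
    { φK := ModuleCat.ofHom φK
      φH := ModuleCat.ofHom (Submodule.mapQ _ _ φK hle)
      commi := rfl
      commf' := ModuleCat.hom_ext (LinearMap.ext fun x => Subtype.ext (ConcreteCategory.congr_hom φ.comm₁₂ x).symm)
      commπ := rfl }
  rw [ψ.quasiIso_iff, ConcreteCategory.isIso_iff_bijective]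
  refine ⟨(injective_iff_map_eq_zero _).2 fun c hc => ?_, fun c => ?_⟩
  · obtain ⟨⟨z, hz⟩, rfl⟩ := Submodule.Quotient.mk_surjective _ c
    obtain ⟨y, hy⟩ := (Submodule.Quotient.mk_eq_zero _).1 hc
    obtain ⟨x, hx⟩ := hinj z hz ⟨y, congrArg Subtype.val hy⟩
    exact (Submodule.Quotient.mk_eq_zero _).2 ⟨x, Subtype.ext hx⟩
  · obtain ⟨⟨w, hw⟩, rfl⟩ := Submodule.Quotient.mk_surjective _ c
    obtain ⟨z, y, hz, hzw⟩ := hsurj w hw
    refine ⟨Submodule.Quotient.mk ⟨z, hz⟩, ?_⟩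
    change Submodule.Quotient.mk (φK ⟨z, hz⟩) = Submodule.Quotient.mk _
    rw [Submodule.Quotient.eq]
    exact ⟨y, Subtype.ext (show S₂.f.hom y = φ.τ₂.hom z - w from eq_sub_of_add_eq' hzw.symm)⟩

/-- a two-term complex `X → F` replacing `L` along `g : F → L⁰` surjective modulo boundaries -/
theorem exists_twoTerm (L : DRing.Cx A) (hL : DRing.VanishesOutside L (-1) 0) (F : Type u) [AddCommGroup F]
    [Module A F] (g : F →ₗ[A] L.X 0)
    (hg : ∀ w : L.X 0, ∃ z y, g z = w + (L.d (-1) 0).hom y) :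
    ∃ E : DRing.Cx A, DRing.VanishesOutside E (-1) 0 ∧ Nonempty (E.X 0 ≅ ModuleCat.of A F) ∧
      Nonempty (E.X (-1) ≅ ModuleCat.of A (LinearMap.ker (g ∘ₗ LinearMap.fst A F (L.X (-1)) -
        (L.d (-1) 0).hom ∘ₗ LinearMap.snd A F (L.X (-1))))) ∧ Nonempty (DRing.toD E ≅ DRing.toD L) := by
  let X := LinearMap.ker (g ∘ₗ LinearMap.fst A F (L.X (-1)) - (L.d (-1) 0).hom ∘ₗ LinearMap.snd A F (L.X (-1)))
  let δ : ModuleCat.of A X ⟶ ModuleCat.of A F := ModuleCat.ofHom (LinearMap.fst A F (L.X (-1)) ∘ₗ X.subtype)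
  have hX : ∀ p : X, g p.1.1 = (L.d (-1) 0).hom p.1.2 := fun p => sub_eq_zero.1 p.2
  let E : DRing.Cx A := HomologicalComplex.double δ (show (ComplexShape.up ℤ).Rel (-1) 0 by simp)
  let f : E ⟶ L := HomologicalComplex.mkHomFromDouble _ (by omega)
    (ModuleCat.ofHom (LinearMap.snd A F (L.X (-1)) ∘ₗ X.subtype)) (ModuleCat.ofHom g)
    (ModuleCat.hom_ext (LinearMap.ext fun p => (hX p).symm))
    (fun k hk => (hL k (Or.inr (by change (0 : ℤ) + 1 = k at hk; omega))).eq_of_tgt _ _)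
  let e₀ := HomologicalComplex.doubleXIso₀ δ (show (ComplexShape.up ℤ).Rel (-1) 0 by simp)
  let e₁ := HomologicalComplex.doubleXIso₁ δ (show (ComplexShape.up ℤ).Rel (-1) 0 by simp) (by omega)
  have hz : ∀ i, i < (-1 : ℤ) ∨ 0 < i → IsZero (E.X i) := fun i hi =>
    HomologicalComplex.isZero_double_X _ _ i (by omega) (by omega)
  have hd : ∀ p : E.X (-1), (E.d (-1) 0).hom p = e₁.inv.hom ((e₀.hom.hom p).1.1) := fun p =>
    ConcreteCategory.congr_hom (HomologicalComplex.double_d δ _ (by omega)) p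
  have hf₀ : ∀ p : E.X (-1), (f.f (-1)).hom p = (e₀.hom.hom p).1.2 := fun p =>
    ConcreteCategory.congr_hom (HomologicalComplex.mkHomFromDouble_f₀ _ _ _ _ _ _) p
  have hf₁ : ∀ z : F, (f.f 0).hom (e₁.inv.hom z) = g z := fun z => by
    refine (ConcreteCategory.congr_hom (HomologicalComplex.mkHomFromDouble_f₁ _ _ _ _ _ _) _).trans ?_
    change g (e₁.hom.hom (e₁.inv.hom z)) = g z
    rw [Iso.inv_hom_id_apply]
  haveI : QuasiIso f := ⟨fun i => by
    rcases (show i < -1 ∨ i = -1 ∨ i = 0 ∨ 0 < i by omega) with hi | rfl | rfl | hi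
    · rw [quasiIsoAt_iff_exactAt _ _ (HomologicalComplex.ExactAt.of_isZero (hz i (Or.inl hi)))]
      exact HomologicalComplex.ExactAt.of_isZero (hL i (Or.inl hi))
    · rw [quasiIsoAt_iff' f (-2) (-1) 0 (by simp) (by simp)]
      refine quasiIso_of_elements' _ (fun z h1 ⟨y, hy⟩ => ⟨0, ?_⟩) fun w hw =>
        ⟨e₀.inv.hom ⟨(0, w), sub_eq_zero.2 ((map_zero g).trans hw.symm)⟩, 0, ?_, ?_⟩
      · rw [map_zero]
        haveI := ModuleCat.subsingleton_of_isZero (hL (-2) (Or.inl (by omega)))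
        have h2 : (e₀.hom.hom z).1.2 = 0 := by
          exact (hf₀ z).symm.trans (hy.symm.trans ((congrArg _ (@Subsingleton.elim (L.X (-2)) _ y 0)).trans (map_zero _)))
        have h3 : (e₀.hom.hom z).1.1 = 0 := by
          have h4 : (E.d (-1) 0).hom z = 0 := h1
          exact (Iso.inv_hom_id_apply e₁ _).symm.trans ((congrArg e₁.hom.hom ((hd z).symm.trans h4)).trans (map_zero _))
        exact ((Iso.hom_inv_id_apply e₀ z).symm.trans ((congrArg e₀.inv.hom
          (Subtype.ext (Prod.ext h3 h2) : e₀.hom.hom z = 0)).trans (map_zero _))).symm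
      · change (E.d (-1) 0).hom _ = 0
        refine (hd _).trans ((congrArg e₁.inv.hom (congrArg (fun p : X => p.1.1) (Iso.inv_hom_id_apply e₀ _))).trans ?_)
        exact map_zero _
      · refine Eq.trans ?_ (by rw [map_zero, add_zero])
        change (f.f (-1)).hom _ = w
        exact (hf₀ _).trans (congrArg (fun p : X => p.1.2) (Iso.inv_hom_id_apply e₀ _))
    · rw [quasiIsoAt_iff' f (-1) 0 1 (by simp) (by simp)]
      refine quasiIso_of_elements' _ (fun z _ ⟨y, hy⟩ => ?_) fun w _ => ?_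
      · refine ⟨e₀.inv.hom ⟨(e₁.hom.hom z, y), sub_eq_zero.2 ?_⟩, ?_⟩
        · change g (e₁.hom.hom z) = (L.d (-1) 0).hom y
          exact ((hf₁ (e₁.hom.hom z)).symm.trans (congrArg (f.f 0).hom (Iso.hom_inv_id_apply e₁ z))).trans hy.symm
        · change (E.d (-1) 0).hom _ = z
          exact (hd _).trans ((congrArg e₁.inv.hom (congrArg (fun p : X => p.1.1) (Iso.inv_hom_id_apply e₀ _))).trans
            (Iso.hom_inv_id_apply e₁ z))
      · obtain ⟨z, y, hzy⟩ := hg w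
        refine ⟨e₁.inv.hom z, y, ?_, (hf₁ z).trans hzy⟩
        haveI := ModuleCat.subsingleton_of_isZero (hz 1 (Or.inr (by omega)))
        exact Subsingleton.elim (α := E.X 1) _ _
    · rw [quasiIsoAt_iff_exactAt _ _ (HomologicalComplex.ExactAt.of_isZero (hz i (Or.inr hi)))]
      exact HomologicalComplex.ExactAt.of_isZero (hL i (Or.inr hi))⟩
  exact ⟨E, hz, ⟨e₁⟩, ⟨e₀⟩, ⟨asIso (DerivedCategory.Q.map f)⟩⟩

theorem exists_twoTerm_rep (K : Dual.D A) (hK : ∀ i : ℤ, i ≠ -1 → i ≠ 0 → Subsingleton (Dual.HD A K i)) :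
    ∃ L : DRing.Cx A, DRing.VanishesOutside L (-1) 0 ∧ Nonempty (DRing.toD L ≅ K) := by
  have hz : ∀ i : ℤ, i ≠ -1 → i ≠ 0 → IsZero ((DerivedCategory.homologyFunctor (ModuleCat.{u} A) i).obj K) :=
    fun i h1 h2 => @ModuleCat.isZero_of_subsingleton _ _ _ (hK i h1 h2)
  haveI : K.IsGE (-1) := (DerivedCategory.isGE_iff K _).2 fun i hi => hz i (by omega) (by omega)
  haveI : K.IsLE 0 := (DerivedCategory.isLE_iff K _).2 fun i hi => hz i (by omega) (by omega)
  obtain ⟨L, hge, hle, ⟨e⟩⟩ := DerivedCategory.exists_iso_Q_obj_of_isGE_of_isLE K (-1) 0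
  exact ⟨L, fun i hi => hi.elim (fun h => L.isZero_of_isStrictlyGE (-1) i h) (fun h => L.isZero_of_isStrictlyLE 0 i h), ⟨e.symm⟩⟩

end Groth.Agent.PseudoCoh
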