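import Groth.Agent.PseudoCoh.ExtCocycle
import Groth.Agent.PseudoCoh.TwoTerm

/-!
# Ext¹ from two-term complexes with projective top term
-/

set_option autoImplicit false

universe u

open CategoryTheory CategoryTheory.Limits DerivedCategory DerivedCategory.TStructure

attribute [local instance] HasDerivedCategory.standard

noncomputable section

namespace Groth.Agent.PseudoCoh

variable {A : Type u} [CommRing A]

/-- a quasi-isomorphism of short complexes of modules on elements -/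
theorem elements_of_quasiIso {S₁ S₂ : ShortComplex (ModuleCat.{u} A)} (φ : S₁ ⟶ S₂) [ShortComplex.QuasiIso φ] :
    (∀ z, S₁.g z = 0 → (∃ y, S₂.f y = φ.τ₂ z) → ∃ x, S₁.f x = z) ∧
      ∀ w, S₂.g w = 0 → ∃ z y, S₁.g z = 0 ∧ φ.τ₂ z = w + S₂.f y := by
  let φK : LinearMap.ker S₁.g.hom →ₗ[A] LinearMap.ker S₂.g.hom :=
    (φ.τ₂.hom ∘ₗ (LinearMap.ker S₁.g.hom).subtype).codRestrict _ fun z => by
      change S₂.g.hom (φ.τ₂.hom z.1) = 0
      exact (ConcreteCategory.congr_hom φ.comm₂₃ z.1).trans ((congrArg φ.τ₃.hom z.2).trans (map_zero _))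
  have hle : LinearMap.range S₁.moduleCatToCycles ≤ (LinearMap.range S₂.moduleCatToCycles).comap φK := by
    rintro _ ⟨x, rfl⟩
    exact ⟨φ.τ₁.hom x, Subtype.ext (ConcreteCategory.congr_hom φ.comm₁₂ x)⟩
  let ψ : ShortComplex.LeftHomologyMapData φ S₁.moduleCatLeftHomologyData S₂.moduleCatLeftHomologyData :=
    { φK := ModuleCat.ofHom φK
      φH := ModuleCat.ofHom (Submodule.mapQ _ _ φK hle)
      commi := rfl
      commf' := ModuleCat.hom_ext (LinearMap.ext fun x => Subtype.ext (ConcreteCategory.congr_hom φ.comm₁₂ x).symm)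
      commπ := rfl }
  have hb : Function.Bijective (Submodule.mapQ _ _ φK hle) :=
    (ConcreteCategory.isIso_iff_bijective ψ.φH).1 (ψ.quasiIso_iff.1 inferInstance)
  refine ⟨fun z hz ⟨y, hy⟩ => ?_, fun w hw => ?_⟩
  · have h1 : Submodule.mapQ _ _ φK hle (Submodule.Quotient.mk ⟨z, hz⟩) = 0 :=
      (Submodule.Quotient.mk_eq_zero _).2 ⟨y, Subtype.ext hy⟩
    obtain ⟨x, hx⟩ := (Submodule.Quotient.mk_eq_zero _).1 (hb.1 (h1.trans (map_zero _).symm))
    exact ⟨x, congrArg Subtype.val hx⟩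
  · obtain ⟨c, hc⟩ := hb.2 (Submodule.Quotient.mk ⟨w, hw⟩)
    obtain ⟨⟨z, hz⟩, rfl⟩ := Submodule.Quotient.mk_surjective _ c
    obtain ⟨y, hy⟩ := (Submodule.Quotient.eq _).1 hc
    refine ⟨z, y, hz, ?_⟩
    have h2 : S₂.f.hom y = φ.τ₂.hom z - w := congrArg Subtype.val hy
    exact (add_eq_of_eq_sub' h2).symm

/-- a cocycle in degree `-1` of vanishing class on a complex with projective top term is a coboundary -/
theorem boundary_of_class_eq_zero {M : DRing.Cx A} (hM : ∀ i : ℤ, 0 < i → IsZero (M.X i))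
    (hM0 : Module.Projective A (M.X 0)) {N : ModuleCat.{u} A} (z : cocycles M (-1) N)
    (hz : cocycleClass M (-1) N z = 0) : ∃ s : M.X 0 →ₗ[A] N, ∀ x, s ((M.d (-1) 0).hom x) = z.1 x := by
  obtain ⟨P, hP0, -, hP, ⟨e⟩⟩ := exists_projective_le (DRing.toD M) 0 (isLE_toD_of_vanishes hM)
  haveI := hP
  obtain ⟨p, hp⟩ := exists_Q_map e.hom
  haveI : QuasiIso p := (DerivedCategory.isIso_Q_map_iff_quasiIso (ModuleCat.{u} A) p).1 (hp ▸ inferInstance)
  have hzc : ∀ x, z.1 ((M.d (-1 - 1) (-1)).hom x) = 0 := fun x => LinearMap.congr_fun ((mem_cocycles M (-1) N).1 z.2) x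
  have hpd : ∀ (i j : ℤ) (x : P.X i), (p.f j).hom ((P.d i j).hom x) = (M.d i j).hom ((p.f i).hom x) := fun i j x =>
    (ConcreteCategory.congr_hom (p.comm i j) x).symm
  let zP : cocycles P (-1) N := ⟨z.1 ∘ₗ (p.f (-1)).hom, LinearMap.ext fun x =>
    (congrArg z.1 (hpd (-1 - 1) (-1) x)).trans (hzc _)⟩
  have hzP : cocycleClass P (-1) N zP = 0 := by
    have e1 : p ≫ cocycleMap M (-1) N z = cocycleMap P (-1) N zP := cocycleMap_eq P (-1) N _ zP (by
      rw [HomologicalComplex.comp_f, Category.assoc, cocycleMap_f]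
      rfl)
    refine (congrArg DerivedCategory.Q.map e1.symm).trans ((DerivedCategory.Q.map_comp _ _).trans ?_)
    exact (congrArg (DerivedCategory.Q.map p ≫ ·) hz).trans comp_zero
  obtain ⟨sP, hsP⟩ := cocycleClass_eq_zero P (-1) N zP hzP
  have hsP' : ∀ x, sP ((P.d (-1) 0).hom x) = z.1 ((p.f (-1)).hom x) := fun x => LinearMap.congr_fun hsP x
  haveI h0q : ShortComplex.QuasiIso ((HomologicalComplex.shortComplexFunctor' _ _ (-1) 0 1).map p) :=
    (quasiIsoAt_iff' p (-1) 0 1 (by simp) (by simp)).1 inferInstance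
  haveI h1q : ShortComplex.QuasiIso ((HomologicalComplex.shortComplexFunctor' _ _ (-1 - 1) (-1) 0).map p) :=
    (quasiIsoAt_iff' p (-1 - 1) (-1) 0 (by simp) (by simp)).1 inferInstance
  obtain ⟨inj0, surj0⟩ := elements_of_quasiIso ((HomologicalComplex.shortComplexFunctor' _ _ (-1) 0 1).map p)
  obtain ⟨-, surj1⟩ := elements_of_quasiIso ((HomologicalComplex.shortComplexFunctor' _ _ (-1 - 1) (-1) 0).map p)
  haveI := ModuleCat.subsingleton_of_isZero (hM 1 (by omega))
  haveI := ModuleCat.subsingleton_of_isZero (hP0 1 (by omega))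
  -- the cocycle kills cycles
  have hcyc : ∀ y : M.X (-1), (M.d (-1) 0).hom y = 0 → z.1 y = 0 := fun y hy => by
    obtain ⟨q, w, hq, hqy⟩ := surj1 y hy
    have h3 : z.1 ((p.f (-1)).hom q) = 0 :=
      (hsP' q).symm.trans ((congrArg sP (show (P.d (-1) 0).hom q = 0 from hq)).trans (map_zero _))
    have h4 := (congrArg z.1 (show (p.f (-1)).hom q = y + (M.d (-1 - 1) (-1)).hom w from hqy)).symm.trans h3
    rwa [map_add, hzc, add_zero] at h4
  -- lift the identity
  haveI := hM0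
  let sm : P.X 0 × M.X (-1) →ₗ[A] M.X 0 := (p.f 0).hom.coprod (M.d (-1) 0).hom
  have hsurj : Function.Surjective sm := fun m => by
    obtain ⟨q, y', -, hqy⟩ := surj0 m (@Subsingleton.elim (M.X 1) _ _ _)
    let y : M.X (-1) := y'
    refine ⟨(q, -y), ?_⟩
    change (p.f 0).hom q + (M.d (-1) 0).hom (-y) = m
    have hqy' : (p.f 0).hom q = m + (M.d (-1) 0).hom y := hqy
    refine (congrArg₂ (· + ·) hqy' (map_neg _ _)).trans ?_
    abel
  obtain ⟨σ, hσ⟩ := Module.projective_lifting_property sm LinearMap.id hsurj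
  refine ⟨z.1 ∘ₗ LinearMap.snd A _ _ ∘ₗ σ + sP ∘ₗ LinearMap.fst A _ _ ∘ₗ σ, fun x => ?_⟩
  change z.1 (σ ((M.d (-1) 0).hom x)).2 + sP (σ ((M.d (-1) 0).hom x)).1 = z.1 x
  rcases hv : σ ((M.d (-1) 0).hom x) with ⟨q, w⟩
  have hqw : (p.f 0).hom q + (M.d (-1) 0).hom w = (M.d (-1) 0).hom x :=
    (congrArg sm hv.symm).trans (LinearMap.congr_fun hσ _)
  obtain ⟨t, ht⟩ := inj0 q (@Subsingleton.elim (P.X 1) _ _ _)
    ⟨x - w, show (M.d (-1) 0).hom (x - w) = (p.f 0).hom q by rw [map_sub, ← hqw]; abel⟩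
  have ht' : (P.d (-1) 0).hom t = q := ht
  rw [← ht', hsP', ← map_add, ← sub_eq_zero, ← map_sub]
  refine hcyc _ ?_
  rw [map_sub, map_add, ← hpd, ht', add_comm, hqw, sub_self]

/-- a chain map to a two-term complex with projective top term whose component in degree `-1` factors through
the differential kills `Ext¹` -/
theorem comp_eq_zero_of_factor {M K : DRing.Cx A} (hK : ∀ i : ℤ, i ≠ -1 → i ≠ 0 → IsZero (K.X i))
    (hK0 : Module.Projective A (K.X 0)) (g : M ⟶ K) (h : M.X 0 ⟶ K.X (-1))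
    (hg : g.f (-1) = M.d (-1) 0 ≫ h) (N : ModuleCat.{u} A) (ξ : DRing.toD K ⟶ (Dual.inD A N)⟦(1 : ℤ)⟧) :
    DerivedCategory.Q.map g ≫ ξ = 0 := by
  classical
  let hom : ∀ a b : ℤ, M.X a ⟶ K.X b := fun a b =>
    if hab : a = 0 ∧ b = -1 then eqToHom (by rw [hab.1]) ≫ h ≫ eqToHom (by rw [hab.2]) else 0
  have hn : ∀ a b : ℤ, ¬(ComplexShape.up ℤ).Rel b a → hom a b = 0 := fun a b hr => by
    simp only [hom]
    rw [dif_neg]
    rintro ⟨rfl, rfl⟩
    exact hr (by simp)
  let g' := g - Homotopy.nullHomotopicMap hom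
  have hQ : DerivedCategory.Q.map g = DerivedCategory.Q.map g' := by
    rw [DerivedCategory.Q.map_sub, DerivedCategory.Q_map_eq_of_homotopy (ModuleCat.{u} A) (Homotopy.nullHomotopy hom hn),
      DerivedCategory.Q.map_zero, sub_zero]
  have hg' : g'.f (-1) = 0 := by
    refine (HomologicalComplex.sub_f_apply _ _ _).trans ?_
    rw [Homotopy.nullHomotopicMap_f (show (ComplexShape.up ℤ).Rel (-1 - 1) (-1) by simp)
      (show (ComplexShape.up ℤ).Rel (-1) 0 by simp)]
    simp only [hom, and_self, ↓reduceDIte, eqToHom_refl, Category.id_comp, Category.comp_id]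
    rw [dif_neg (by omega), zero_comp, add_zero, hg, sub_self]
  let t0 : M ⟶ (HomologicalComplex.single (ModuleCat.{u} A) (ComplexShape.up ℤ) 0).obj (K.X 0) :=
    HomologicalComplex.mkHomToSingle (g'.f 0) fun i hi => by
      obtain rfl : i = -1 := by change i + 1 = 0 at hi; omega
      rw [← g'.comm (-1) 0, hg', zero_comp]
  let ι : (HomologicalComplex.single (ModuleCat.{u} A) (ComplexShape.up ℤ) 0).obj (K.X 0) ⟶ K :=
    HomologicalComplex.mkHomFromSingle (𝟙 (K.X 0)) fun j hj => (hK j (by change (0 : ℤ) + 1 = j at hj; omega)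
      (by change (0 : ℤ) + 1 = j at hj; omega)).eq_of_tgt _ _
  have hfac : g' = t0 ≫ ι := HomologicalComplex.hom_ext _ _ fun i => by
    rcases (show i = 0 ∨ i = -1 ∨ (i ≠ -1 ∧ i ≠ 0) by omega) with rfl | rfl | ⟨h1, h2⟩
    · simp [t0, ι]
    · have ht : t0.f (-1) = 0 :=
        (HomologicalComplex.isZero_single_obj_X (ComplexShape.up ℤ) 0 (K.X 0) (-1) (by omega)).eq_of_tgt _ _
      rw [hg', HomologicalComplex.comp_f, ht, zero_comp]
    · exact (hK i h1 h2).eq_of_tgt _ _
  haveI : CochainComplex.IsKProjective ((HomologicalComplex.single (ModuleCat.{u} A) (ComplexShape.up ℤ) 0).obj (K.X 0)) :=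
    isKProjective_of_le (b := 0) (fun i hi => HomologicalComplex.isZero_single_obj_X _ _ _ _ (by omega)) fun i => by
      by_cases hi : i = 0
      · subst hi
        haveI : Projective (K.X 0) := (IsProjective.iff_projective (K.X 0)).1 hK0
        exact Projective.of_iso (HomologicalComplex.singleObjXSelf (ComplexShape.up ℤ) 0 (K.X 0)).symm inferInstance
      · exact (HomologicalComplex.isZero_single_obj_X _ _ _ _ hi).projective
  have hz0 : ∀ ζ : DRing.toD ((HomologicalComplex.single (ModuleCat.{u} A) (ComplexShape.up ℤ) 0).obj (K.X 0)) ⟶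
      (Dual.inD A N)⟦(1 : ℤ)⟧, ζ = 0 := fun ζ => by
    rw [← cancel_mono ((shiftSingleIso (A := A) 1 (-1) (by omega)).hom.app N), zero_comp]
    obtain ⟨f, hf⟩ := exists_Q_map (ζ ≫ (shiftSingleIso (A := A) 1 (-1) (by omega)).hom.app N)
    have : f = 0 := HomologicalComplex.to_single_hom_ext
      ((HomologicalComplex.isZero_single_obj_X (ComplexShape.up ℤ) 0 (K.X 0) (-1) (by omega)).eq_of_src _ _)
    rw [← hf, this]
    exact DerivedCategory.Q.map_zero _ _
  rw [hQ, hfac, DerivedCategory.Q.map_comp, Category.assoc, hz0 (DerivedCategory.Q.map ι ≫ ξ), comp_zero]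

end Groth.Agent.PseudoCoh
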